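import Groth.Agent.DivPow.Fin
import Mathlib.RingTheory.Extension.Presentation.Core

/-!
# Divided powers and base change; finite presentation
-/

set_option autoImplicit false
set_option linter.unusedSectionVars false
universe u

open scoped TensorProduct

namespace Groth.Agent.DivPow

section

variable {A₀ A : Type u} [CommRing A₀] [CommRing A] [Algebra A₀ A]

/-- Cancelling a base change in a test algebra. -/
noncomputable def canc (S : Type u) [CommSemiring S] [Algebra A S] [Algebra A₀ S] [IsScalarTower A₀ A S]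
    (M : Type u) [CommRing M] [Algebra A₀ M] : S ⊗[A] (A ⊗[A₀] M) ≃ₐ[S] S ⊗[A₀] M :=
  Algebra.TensorProduct.cancelBaseChange A₀ A S S M

theorem canc_tmul (S : Type u) [CommSemiring S] [Algebra A S] [Algebra A₀ S] [IsScalarTower A₀ A S]
    (M : Type u) [CommRing M] [Algebra A₀ M] (s : S) (a : A) (m : M) :
    canc S M (s ⊗ₜ[A] (a ⊗ₜ[A₀] m)) = (a • s) ⊗ₜ[A₀] m :=
  Algebra.TensorProduct.cancelBaseChange_tmul ..

theorem canc_symm_tmul (S : Type u) [CommSemiring S] [Algebra A S] [Algebra A₀ S] [IsScalarTower A₀ A S]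
    (M : Type u) [CommRing M] [Algebra A₀ M] (s : S) (m : M) :
    (canc (A := A) S M).symm (s ⊗ₜ[A₀] m) = s ⊗ₜ[A] ((1 : A) ⊗ₜ[A₀] m) :=
  Algebra.TensorProduct.cancelBaseChange_symm_tmul ..

theorem canc_nat {S S' : Type u} [CommSemiring S] [Algebra A S] [Algebra A₀ S] [IsScalarTower A₀ A S]
    [CommSemiring S'] [Algebra A S'] [Algebra A₀ S'] [IsScalarTower A₀ A S'] (φ : S →ₐ[A] S')
    (M : Type u) [CommRing M] [Algebra A₀ M] (x : S ⊗[A] (A ⊗[A₀] M)) :
    (φ.restrictScalars A₀).toLinearMap.rTensor M (canc S M x) = canc S' M (φ.toLinearMap.rTensor _ x) := by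
  induction x using TensorProduct.induction_on with
  | zero => simp
  | tmul s y =>
    induction y using TensorProduct.induction_on with
    | zero => simp
    | tmul a m => simp [canc_tmul]
    | add y z hy hz => simp only [TensorProduct.tmul_add, map_add, hy, hz]
  | add y z hy hz => simp only [map_add, hy, hz]

theorem canc_symm_nat {S S' : Type u} [CommSemiring S] [Algebra A S] [Algebra A₀ S] [IsScalarTower A₀ A S]
    [CommSemiring S'] [Algebra A S'] [Algebra A₀ S'] [IsScalarTower A₀ A S'] (φ : S →ₐ[A] S')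
    (M : Type u) [CommRing M] [Algebra A₀ M] (x : S ⊗[A₀] M) :
    φ.toLinearMap.rTensor _ ((canc (A := A) S M).symm x) =
      (canc (A := A) S' M).symm ((φ.restrictScalars A₀).toLinearMap.rTensor M x) := by
  induction x using TensorProduct.induction_on with
  | zero => simp
  | tmul s m => simp [canc_symm_tmul]
  | add y z hy hz => simp only [map_add, hy, hz]

variable (A) {B₀ C₀ : Type u} [CommRing B₀] [Algebra A₀ B₀] [CommRing C₀] [Algebra A₀ C₀] {d : ℕ}

/-- The base change of a law. -/
noncomputable def lawBC (γ₀ : PolLaw.MulLaw A₀ B₀ C₀ d) : PolLaw.MulLaw A (A ⊗[A₀] B₀) (A ⊗[A₀] C₀) d where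
  law :=
  { toFun' := fun S _ _ x =>
      letI : Algebra A₀ S := ((algebraMap A S).comp (algebraMap A₀ A)).toAlgebra
      haveI : IsScalarTower A₀ A S := IsScalarTower.of_algebraMap_eq fun _ => rfl
      (canc (A := A) S C₀).symm (γ₀.law.toFun' S (canc S B₀ x))
    isCompat' := fun {S} _ _ {S'} _ _ φ => by
      letI : Algebra A₀ S := ((algebraMap A S).comp (algebraMap A₀ A)).toAlgebra
      haveI : IsScalarTower A₀ A S := IsScalarTower.of_algebraMap_eq fun _ => rfl
      letI : Algebra A₀ S' := ((algebraMap A S').comp (algebraMap A₀ A)).toAlgebra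
      haveI : IsScalarTower A₀ A S' := IsScalarTower.of_algebraMap_eq fun _ => rfl
      funext x
      simp only [Function.comp_apply]
      rw [canc_symm_nat φ, PolynomialLaw.isCompat_apply', canc_nat φ] }
  homog S _ _ s x := by
    let _ : Algebra A₀ S := ((algebraMap A S).comp (algebraMap A₀ A)).toAlgebra
    have : IsScalarTower A₀ A S := IsScalarTower.of_algebraMap_eq fun _ => rfl
    show (canc (A := A) S C₀).symm (γ₀.law.toFun' S (canc S B₀ (s • x))) = s ^ d • (canc (A := A) S C₀).symm (γ₀.law.toFun' S (canc S B₀ x))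
    rw [map_smul, γ₀.homog, map_smul]
  mult S _ _ := by
    let _ : Algebra A₀ S := ((algebraMap A S).comp (algebraMap A₀ A)).toAlgebra
    have : IsScalarTower A₀ A S := IsScalarTower.of_algebraMap_eq fun _ => rfl
    refine ⟨?_, fun x y => ?_⟩
    · show (canc (A := A) S C₀).symm (γ₀.law.toFun' S (canc S B₀ 1)) = 1
      rw [map_one, (γ₀.mult S).1, map_one]
    · show (canc (A := A) S C₀).symm (γ₀.law.toFun' S (canc S B₀ (x * y))) =
        (canc (A := A) S C₀).symm (γ₀.law.toFun' S (canc S B₀ x)) * (canc (A := A) S C₀).symm (γ₀.law.toFun' S (canc S B₀ y))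
      rw [map_mul, (γ₀.mult S).2, map_mul]

theorem lawBC_apply (γ₀ : PolLaw.MulLaw A₀ B₀ C₀ d) (S : Type u) [CommSemiring S] [Algebra A S] [iS : Algebra A₀ S]
    [hS : IsScalarTower A₀ A S] (x : S ⊗[A] (A ⊗[A₀] B₀)) :
    (lawBC A γ₀).law.toFun' S x = (canc (A := A) S C₀).symm (γ₀.law.toFun' S (canc S B₀ x)) := by
  have h : iS = ((algebraMap A S).comp (algebraMap A₀ A)).toAlgebra :=
    Algebra.algebra_ext _ _ fun r => IsScalarTower.algebraMap_apply A₀ A S r
  subst h
  rfl

section Restrict

variable {A} {C' : Type u} [CommRing C'] [Algebra A C'] [Algebra A₀ C'] [IsScalarTower A₀ A C']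

/-- Multiplying the scalars into the coefficient algebra. -/
noncomputable def pullCoef (S₀ : Type u) [CommSemiring S₀] [Algebra A₀ S₀] :
    (A ⊗[A₀] S₀) ⊗[A] C' →ₐ[A₀] S₀ ⊗[A₀] C' :=
  let h : A ⊗[A₀] S₀ →ₐ[A] C' ⊗[A₀] S₀ := Algebra.TensorProduct.map (Algebra.ofId A C') (AlgHom.id A₀ S₀)
  let h' : C' →ₐ[A] C' ⊗[A₀] S₀ := Algebra.TensorProduct.includeLeft
  (Algebra.TensorProduct.comm A₀ C' S₀).toAlgHom.comp
    ((Algebra.TensorProduct.lift h h' (fun _ _ => Commute.all _ _)).restrictScalars A₀)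

theorem pullCoef_tmul (S₀ : Type u) [CommSemiring S₀] [Algebra A₀ S₀] (a : A) (s : S₀) (c : C') :
    pullCoef S₀ ((a ⊗ₜ[A₀] s) ⊗ₜ[A] c) = s ⊗ₜ[A₀] (a • c) := by
  simp [pullCoef, Algebra.smul_def]

theorem pullCoef_nat {S₀ S₀' : Type u} [CommSemiring S₀] [Algebra A₀ S₀] [CommSemiring S₀'] [Algebra A₀ S₀']
    (φ : S₀ →ₐ[A₀] S₀') (y : (A ⊗[A₀] S₀) ⊗[A] C') :
    φ.toLinearMap.rTensor C' (pullCoef S₀ y) =
      pullCoef S₀' ((Algebra.TensorProduct.map (AlgHom.id A A) φ).toLinearMap.rTensor C' y) := by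
  induction y using TensorProduct.induction_on with
  | zero => simp
  | tmul r c =>
    induction r using TensorProduct.induction_on with
    | zero => simp
    | tmul a s => simp [pullCoef_tmul]
    | add y z hy hz => simp only [TensorProduct.add_tmul, map_add, hy, hz]
  | add y z hy hz => simp only [map_add, hy, hz]

variable (A) in
/-- Pushing a test element to the base change. -/
noncomputable def pushTest (S₀ : Type u) [CommSemiring S₀] [Algebra A₀ S₀] :
    S₀ ⊗[A₀] B₀ →ₐ[A₀] (A ⊗[A₀] S₀) ⊗[A] (A ⊗[A₀] B₀) :=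
  Algebra.TensorProduct.lift
    ((Algebra.TensorProduct.includeLeft (R := A) (S := A₀) (A := A ⊗[A₀] S₀) (B := A ⊗[A₀] B₀)).comp
      Algebra.TensorProduct.includeRight)
    (((Algebra.TensorProduct.includeRight (R := A) (A := A ⊗[A₀] S₀) (B := A ⊗[A₀] B₀)).restrictScalars A₀).comp
      Algebra.TensorProduct.includeRight) (fun _ _ => Commute.all _ _)

theorem pushTest_tmul (S₀ : Type u) [CommSemiring S₀] [Algebra A₀ S₀] (s : S₀) (b : B₀) :
    pushTest A S₀ (s ⊗ₜ[A₀] b) = ((1 : A) ⊗ₜ[A₀] s) ⊗ₜ[A] ((1 : A) ⊗ₜ[A₀] b) := by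
  simp [pushTest]

theorem pushTest_nat {S₀ S₀' : Type u} [CommSemiring S₀] [Algebra A₀ S₀] [CommSemiring S₀'] [Algebra A₀ S₀']
    (φ : S₀ →ₐ[A₀] S₀') (x : S₀ ⊗[A₀] B₀) :
    (Algebra.TensorProduct.map (AlgHom.id A A) φ).toLinearMap.rTensor _ (pushTest A S₀ x) =
      pushTest A S₀' (φ.toLinearMap.rTensor B₀ x) := by
  induction x using TensorProduct.induction_on with
  | zero => simp
  | tmul s b => simp [pushTest_tmul]
  | add y z hy hz => simp only [map_add, hy, hz]

theorem pushTest_smul (S₀ : Type u) [CommSemiring S₀] [Algebra A₀ S₀] (s : S₀) (x : S₀ ⊗[A₀] B₀) :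
    pushTest A S₀ (s • x) = ((1 : A) ⊗ₜ[A₀] s) • pushTest A S₀ x := by
  induction x using TensorProduct.induction_on with
  | zero => simp
  | tmul t b => simp [TensorProduct.smul_tmul', pushTest_tmul]
  | add y z hy hz => simp only [smul_add, map_add, hy, hz]

theorem pullCoef_smul (S₀ : Type u) [CommSemiring S₀] [Algebra A₀ S₀] (s : S₀) (y : (A ⊗[A₀] S₀) ⊗[A] C') :
    pullCoef S₀ (((1 : A) ⊗ₜ[A₀] s) • y) = s • pullCoef S₀ y := by
  induction y using TensorProduct.induction_on with
  | zero => simp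
  | tmul r c =>
    induction r using TensorProduct.induction_on with
    | zero => simp
    | tmul a t => simp [TensorProduct.smul_tmul', pullCoef_tmul]
    | add y z hy hz => simp only [TensorProduct.add_tmul, smul_add, map_add, hy, hz]
  | add y z hy hz => simp only [smul_add, map_add, hy, hz]

/-- Restriction of a law along the base change. -/
noncomputable def lawRes (F : PolLaw.MulLaw A (A ⊗[A₀] B₀) C' d) : PolLaw.MulLaw A₀ B₀ C' d where
  law :=
  { toFun' := fun S₀ _ _ x => pullCoef S₀ (F.law.toFun' (A ⊗[A₀] S₀) (pushTest A S₀ x))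
    isCompat' := fun {S₀} _ _ {S₀'} _ _ φ => by
      funext x
      simp only [Function.comp_apply]
      rw [pullCoef_nat φ, PolynomialLaw.isCompat_apply', pushTest_nat φ] }
  homog S₀ _ _ s x := by
    show pullCoef S₀ (F.law.toFun' _ (pushTest A S₀ (s • x))) = s ^ d • pullCoef S₀ (F.law.toFun' _ (pushTest A S₀ x))
    rw [pushTest_smul, F.homog, Algebra.TensorProduct.tmul_pow, one_pow, pullCoef_smul]
  mult S₀ _ _ := by
    refine ⟨?_, fun x y => ?_⟩
    · show pullCoef S₀ (F.law.toFun' _ (pushTest A S₀ 1)) = 1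
      rw [map_one, (F.mult _).1, map_one]
    · show pullCoef S₀ (F.law.toFun' _ (pushTest A S₀ (x * y))) =
        pullCoef S₀ (F.law.toFun' _ (pushTest A S₀ x)) * pullCoef S₀ (F.law.toFun' _ (pushTest A S₀ y))
      rw [map_mul, (F.mult _).2, map_mul]

end Restrict

/-- Divided powers commute with base change. -/
theorem isGammaD_lawBC {γ₀ : PolLaw.MulLaw A₀ B₀ C₀ d} (hγ₀ : PolLaw.IsGammaD γ₀) : PolLaw.IsGammaD (lawBC A γ₀) := by
  intro C' _ _ F
  let _ : Algebra A₀ C' := ((algebraMap A C').comp (algebraMap A₀ A)).toAlgebra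
  have : IsScalarTower A₀ A C' := IsScalarTower.of_algebraMap_eq fun _ => rfl
  obtain ⟨f₀, hf₀, huniq⟩ := hγ₀ C' (lawRes F)
  let f : A ⊗[A₀] C₀ →ₐ[A] C' := Algebra.TensorProduct.lift (Algebra.ofId A C') f₀ (fun _ _ => Commute.all _ _)
  refine ⟨f, ?_, fun f' hf' => ?_⟩
  · apply PolynomialLaw.ext
    funext S _ _ x
    let _ : Algebra A₀ S := ((algebraMap A S).comp (algebraMap A₀ A)).toAlgebra
    have : IsScalarTower A₀ A S := IsScalarTower.of_algebraMap_eq fun _ => rfl
    let m : A ⊗[A₀] S →ₐ[A] S := Algebra.TensorProduct.lift (Algebra.ofId A S) (AlgHom.id A₀ S) (fun _ _ => Commute.all _ _)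
    let q : S ⊗[A₀] C' →ₐ[A₀] S ⊗[A] C' := Algebra.TensorProduct.lift
      (Algebra.TensorProduct.includeLeft (R := A) (S := A₀) (A := S) (B := C'))
      ((Algebra.TensorProduct.includeRight (R := A) (A := S) (B := C')).restrictScalars A₀) (fun _ _ => Commute.all _ _)
    obtain ⟨y, rfl⟩ := (canc (A₀ := A₀) (A := A) S B₀).symm.surjective x
    have h := congrFun (congrArg (fun G : B₀ →ₚₗ[A₀] C' => G.toFun' S) hf₀) y
    show f.toLinearMap.lTensor S ((lawBC A γ₀).law.toFun' S ((canc (A := A) S B₀).symm y)) = _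
    rw [lawBC_apply, AlgEquiv.apply_symm_apply]
    have h1 : ∀ z : S ⊗[A₀] C₀, f.toLinearMap.lTensor S ((canc (A := A) S C₀).symm z) = q (f₀.toLinearMap.lTensor S z) := by
      intro z
      induction z using TensorProduct.induction_on with
      | zero => simp
      | tmul s c => simp [canc_symm_tmul, f, q]
      | add y z hy hz => simp only [map_add, hy, hz]
    have h2 : ∀ w : (A ⊗[A₀] S) ⊗[A] C', q (pullCoef S w) = m.toLinearMap.rTensor C' w := by
      intro w
      induction w using TensorProduct.induction_on with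
      | zero => simp
      | tmul r c =>
        induction r using TensorProduct.induction_on with
        | zero => simp
        | tmul a s =>
          simp [pullCoef_tmul, m, q, Algebra.smul_def]
          rw [← Algebra.smul_def, ← Algebra.smul_def, ← TensorProduct.smul_tmul]
        | add y z hy hz => simp only [TensorProduct.add_tmul, map_add, hy, hz]
      | add y z hy hz => simp only [map_add, hy, hz]
    have h3 : ∀ y, m.toLinearMap.rTensor _ (pushTest A S y) = (canc (A := A) S B₀).symm y := by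
      intro y
      induction y using TensorProduct.induction_on with
      | zero => simp
      | tmul s b => simp [pushTest_tmul, canc_symm_tmul, m]
      | add y z hy hz => simp only [map_add, hy, hz]
    rw [h1]
    refine (congrArg q h).trans ?_
    show q (pullCoef S (F.law.toFun' _ (pushTest A S y))) = _
    rw [h2, PolynomialLaw.isCompat_apply', h3]
  · have key : (f'.restrictScalars A₀).comp Algebra.TensorProduct.includeRight = f₀ := by
      refine huniq _ ?_
      apply PolynomialLaw.ext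
      funext S₀ _ _ x
      show ((f'.restrictScalars A₀).comp Algebra.TensorProduct.includeRight).toLinearMap.lTensor S₀ (γ₀.law.toFun' S₀ x) =
        pullCoef S₀ (F.law.toFun' (A ⊗[A₀] S₀) (pushTest A S₀ x))
      rw [← hf']
      show _ = pullCoef S₀ (f'.toLinearMap.lTensor (A ⊗[A₀] S₀) ((lawBC A γ₀).law.toFun' _ (pushTest A S₀ x)))
      rw [lawBC_apply]
      let j : S₀ →ₐ[A₀] A ⊗[A₀] S₀ := Algebra.TensorProduct.includeRight
      have h4 : canc (A ⊗[A₀] S₀) B₀ (pushTest A S₀ x) = j.toLinearMap.rTensor B₀ x := by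
        induction x using TensorProduct.induction_on with
        | zero => exact (map_zero _).trans (map_zero _).symm
        | tmul s b =>
          rw [pushTest_tmul, canc_tmul, one_smul]
          rfl
        | add y z hy hz => rw [map_add (pushTest A S₀), map_add (canc (A ⊗[A₀] S₀) B₀), hy, hz, map_add]
      rw [h4, ← PolynomialLaw.isCompat_apply']
      generalize γ₀.law.toFun' S₀ x = z
      induction z using TensorProduct.induction_on with
      | zero => simp
      | tmul s c =>
        rw [LinearMap.rTensor_tmul, canc_symm_tmul, LinearMap.lTensor_tmul, LinearMap.lTensor_tmul]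
        show s ⊗ₜ[A₀] f' ((1 : A) ⊗ₜ[A₀] c) = pullCoef S₀ (((1 : A) ⊗ₜ[A₀] s) ⊗ₜ[A] f' ((1 : A) ⊗ₜ[A₀] c))
        rw [pullCoef_tmul, one_smul]
      | add y z hy hz => simp only [map_add, hy, hz]
    refine Algebra.TensorProduct.ext' fun a c => ?_
    rw [show a ⊗ₜ[A₀] c = a • ((1 : A) ⊗ₜ[A₀] c) by simp [TensorProduct.smul_tmul'], map_smul, map_smul]
    congr 1
    show _ = f ((1 : A) ⊗ₜ[A₀] c)
    rw [show f ((1 : A) ⊗ₜ[A₀] c) = f₀ c by simp [f], ← key]
    rfl

end

variable {A B C : Type u} [CommRing A] [CommRing B] [Algebra A B] [CommRing C] [Algebra A C] {d : ℕ}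
  {γ : PolLaw.MulLaw A B C d}

/-- Two divided power algebras are isomorphic. -/
theorem exists_equiv {C' : Type u} [CommRing C'] [Algebra A C'] {γ' : PolLaw.MulLaw A B C' d}
    (hγ : PolLaw.IsGammaD γ) (hγ' : PolLaw.IsGammaD γ') : Nonempty (C ≃ₐ[A] C') := by
  obtain ⟨f, hf, -⟩ := hγ C' γ'
  obtain ⟨g, hg, -⟩ := hγ' C γ
  have hc : ∀ {D E : Type u} [CommRing D] [Algebra A D] [CommRing E] [Algebra A E] (a : D →ₐ[A] E) (b : C →ₐ[A] D),
      PolLaw.postcomp (a.comp b).toLinearMap γ.law = PolLaw.postcomp a.toLinearMap (PolLaw.postcomp b.toLinearMap γ.law) := by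
    intro D E _ _ _ _ a b
    apply PolynomialLaw.ext
    funext S _ _ x
    show (a.toLinearMap ∘ₗ b.toLinearMap).lTensor S _ = a.toLinearMap.lTensor S (b.toLinearMap.lTensor S _)
    rw [LinearMap.lTensor_comp, LinearMap.comp_apply]
  have h1 : g.comp f = AlgHom.id A C := hom_ext hγ (by
    rw [hc, hf, hg]
    apply PolynomialLaw.ext
    funext S _ _ x
    show _ = (LinearMap.id : C →ₗ[A] C).lTensor S _
    rw [LinearMap.lTensor_id, LinearMap.id_apply])
  have h2 : f.comp g = AlgHom.id A C' := by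
    refine hom_ext hγ' ?_
    apply PolynomialLaw.ext
    funext S _ _ x
    show (f.toLinearMap ∘ₗ g.toLinearMap).lTensor S _ = (LinearMap.id : C' →ₗ[A] C').lTensor S _
    rw [LinearMap.lTensor_comp, LinearMap.comp_apply, LinearMap.lTensor_id, LinearMap.id_apply]
    have e1 : g.toLinearMap.lTensor S (γ'.law.toFun' S x) = γ.law.toFun' S x :=
      congrFun (congrArg (fun G : B →ₚₗ[A] C => G.toFun' S) hg) x
    rw [e1]
    exact congrFun (congrArg (fun G : B →ₚₗ[A] C' => G.toFun' S) hf) x
  exact ⟨AlgEquiv.ofAlgHom f g h2 h1⟩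

/-- Transport of the divided power algebra along an isomorphism. -/
theorem isGammaD_precomp_equiv (hγ : PolLaw.IsGammaD γ) {B' : Type u} [CommRing B'] [Algebra A B'] (e : B' ≃ₐ[A] B) :
    PolLaw.IsGammaD (γ.precomp e.toAlgHom) := by
  intro D _ _ F
  have key : ∀ (f : C →ₐ[A] D), PolLaw.postcomp f.toLinearMap (γ.precomp e.toAlgHom).law = F.law ↔
      PolLaw.postcomp f.toLinearMap γ.law = (F.precomp e.symm.toAlgHom).law := by
    intro f
    constructor
    · intro h
      apply PolynomialLaw.ext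
      funext S _ _ x
      have := congrFun (congrArg (fun G : B' →ₚₗ[A] D => G.toFun' S) h) (e.symm.toAlgHom.toLinearMap.lTensor S x)
      refine Eq.trans ?_ this
      show _ = f.toLinearMap.lTensor S (γ.law.toFun' S (e.toAlgHom.toLinearMap.lTensor S (e.symm.toAlgHom.toLinearMap.lTensor S x)))
      rw [← LinearMap.comp_apply (e.toAlgHom.toLinearMap.lTensor S), ← LinearMap.lTensor_comp,
        show e.toAlgHom.toLinearMap ∘ₗ e.symm.toAlgHom.toLinearMap = LinearMap.id from LinearMap.ext fun b => e.apply_symm_apply b,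
        LinearMap.lTensor_id, LinearMap.id_apply]
      rfl
    · intro h
      apply PolynomialLaw.ext
      funext S _ _ x
      have := congrFun (congrArg (fun G : B →ₚₗ[A] D => G.toFun' S) h) (e.toAlgHom.toLinearMap.lTensor S x)
      refine Eq.trans this ?_
      show F.law.toFun' S (e.symm.toAlgHom.toLinearMap.lTensor S (e.toAlgHom.toLinearMap.lTensor S x)) = _
      rw [← LinearMap.comp_apply (e.symm.toAlgHom.toLinearMap.lTensor S), ← LinearMap.lTensor_comp,
        show e.symm.toAlgHom.toLinearMap ∘ₗ e.toAlgHom.toLinearMap = LinearMap.id from LinearMap.ext fun b => e.symm_apply_apply b,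
        LinearMap.lTensor_id, LinearMap.id_apply]
  obtain ⟨f, hf, hu⟩ := hγ D (F.precomp e.symm.toAlgHom)
  exact ⟨f, (key f).mpr hf, fun g hg => hu g ((key g).mp hg)⟩

/-- The divided power algebra of a finitely presented algebra is finitely presented. -/
theorem finitePresentation (hγ : PolLaw.IsGammaD γ) [Algebra.FinitePresentation A B] : Algebra.FinitePresentation A C := by
  let P := Algebra.Presentation.ofFinitePresentation A B
  let B₀ := P.ModelOfHasCoeffs P.Core
  have : IsNoetherianRing P.Core := Algebra.FiniteType.isNoetherianRing ℤ P.Core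
  obtain ⟨C₀, _, _, γ₀, hγ₀⟩ := exists_gammaD' P.Core B₀ d
  have : Algebra.FiniteType P.Core C₀ := finiteType hγ₀
  have : Algebra.FinitePresentation P.Core C₀ := Algebra.FinitePresentation.of_finiteType.mp inferInstance
  have h := isGammaD_precomp_equiv (isGammaD_lawBC A hγ₀) (P.tensorModelOfHasCoeffsEquiv P.Core).symm
  obtain ⟨e⟩ := exists_equiv h hγ
  exact Algebra.FinitePresentation.equiv e

end Groth.Agent.DivPow
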