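import Groth.Agent.DivPow.Fin

/-!
# The Cayley-Hamilton identity for multiplicative laws
-/

set_option autoImplicit false
set_option linter.unusedSectionVars false
universe u

open scoped TensorProduct
open MvPolynomial

namespace Groth.Agent.DivPow

variable {A B C : Type u} [CommRing A] [CommRing B] [Algebra A B] [CommRing C] [Algebra A C] {d : ℕ}

section Aux

variable (C) (U : Type u) [CommRing U] [Algebra A U]

/-- Polynomials over a ring tensored with an algebra, as polynomials over the tensor product. -/
noncomputable def polyHom : Polynomial U ⊗[A] C →ₐ[A] Polynomial (U ⊗[A] C) :=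
  Algebra.TensorProduct.lift (Polynomial.mapAlgHom (Algebra.TensorProduct.includeLeft : U →ₐ[A] U ⊗[A] C))
    ((IsScalarTower.toAlgHom A (U ⊗[A] C) (Polynomial (U ⊗[A] C))).comp Algebra.TensorProduct.includeRight)
    (fun _ _ => Commute.all _ _)

/-- Multiplication of the two last factors. -/
noncomputable def mu : (U ⊗[A] C) ⊗[A] C →ₐ[A] U ⊗[A] C :=
  Algebra.TensorProduct.lift (AlgHom.id A _) Algebra.TensorProduct.includeRight (fun _ _ => Commute.all _ _)

variable (B) in
/-- Extension of scalars from `U` to `U ⊗ C`. -/
noncomputable def iota : U ⊗[A] B →ₐ[A] (U ⊗[A] C) ⊗[A] B :=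
  Algebra.TensorProduct.map (Algebra.TensorProduct.includeLeft : U →ₐ[A] U ⊗[A] C) (AlgHom.id A B)

/-- Constants into polynomials. -/
noncomputable def cst : U →ₐ[A] Polynomial U := IsScalarTower.toAlgHom A U (Polynomial U)

end Aux

variable (F : PolLaw.MulLaw A B C d) (U : Type u) [CommRing U] [Algebra A U]

/-- The element `z - X`. -/
noncomputable def zX (z : U ⊗[A] B) : Polynomial U ⊗[A] B :=
  Algebra.TensorProduct.map (cst (A := A) U) (AlgHom.id A B) z - (Polynomial.X : Polynomial U) ⊗ₜ[A] (1 : B)

/-- The characteristic polynomial of an element with respect to a law. -/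
noncomputable def chiC (z : U ⊗[A] B) : Polynomial (U ⊗[A] C) :=
  polyHom C U (F.law.toFun' (Polynomial U) (zX U z))

/-- The Cayley-Hamilton element. -/
noncomputable def chElt (z : U ⊗[A] B) : (U ⊗[A] C) ⊗[A] B :=
  Polynomial.eval₂ (Algebra.TensorProduct.includeLeft : U ⊗[A] C →ₐ[A] (U ⊗[A] C) ⊗[A] B).toRingHom
    (iota B C U z) (chiC F U z)

/-- The Cayley-Hamilton identity and monicity, as a property of a law. -/
def Good : Prop :=
  (∀ x w z : U ⊗[A] B, mu C U (F.law.toFun' (U ⊗[A] C) (iota B C U x + iota B C U w * chElt F U z)) = F.law.toFun' U x) ∧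
  ∀ z : U ⊗[A] B, (chiC F U z * Polynomial.C ((-1) ^ d)).Monic

theorem good_tpowLaw : Good (SymTen.tpowLaw A B d) U := by
  classical
  let T := ⨂[A] _ : Fin d, B
  let slot : Fin d → (B →ₐ[A] T) := fun j => PiTensorProduct.singleAlgHom (R := A) (A := fun _ : Fin d => B) j
  let ev : Fin d → ((U ⊗[A] T) ⊗[A] B →ₐ[A] U ⊗[A] T) := fun j =>
    Algebra.TensorProduct.lift (AlgHom.id A _) ((Algebra.TensorProduct.includeRight : T →ₐ[A] U ⊗[A] T).comp (slot j))
      (fun _ _ => Commute.all _ _)
  let sl : Fin d → (U ⊗[A] B →ₐ[A] U ⊗[A] T) := fun j => Algebra.TensorProduct.map (AlgHom.id A U) (slot j)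
  have hmu : ∀ y, mu T U ((SymTen.tpowLaw A B d).law.toFun' (U ⊗[A] T) y) = ∏ j, ev j y := by
    intro y
    rw [SymTen.tpowLaw, PolLaw.MulLaw.prodMap_toFun', map_prod]
    refine Finset.prod_congr rfl fun j _ => ?_
    induction y using TensorProduct.induction_on with
    | zero => simp
    | tmul a b => simp [mu, ev, slot] <;> rfl
    | add a b ha hb => simp only [map_add, ha, hb]
  have hev : ∀ j x, ev j (iota B T U x) = sl j x := by
    intro j x
    induction x using TensorProduct.induction_on with
    | zero => simp
    | tmul a b => simp [iota, ev, sl]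
    | add a b ha hb => simp only [map_add, ha, hb]
  have hchi : ∀ z, chiC (SymTen.tpowLaw A B d) U z = ∏ j, (Polynomial.C (sl j z) - Polynomial.X) := by
    intro z
    rw [chiC, SymTen.tpowLaw, PolLaw.MulLaw.prodMap_toFun', map_prod]
    refine Finset.prod_congr rfl fun j _ => ?_
    rw [zX, map_sub, map_sub]
    congr 1
    · induction z using TensorProduct.induction_on with
      | zero => simp
      | tmul a b =>
        simp only [Algebra.TensorProduct.map_tmul, AlgHom.id_apply, cst, IsScalarTower.coe_toAlgHom', polyHom,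
          Algebra.TensorProduct.lift_tmul, Polynomial.coe_mapAlgHom, Polynomial.algebraMap_eq, Polynomial.map_C,
          AlgHom.comp_apply, sl, slot]
        rw [← map_mul]
        simp
        rfl
      | add a b ha hb => simp only [map_add, ha, hb]
    · simp [polyHom, ← Algebra.TensorProduct.one_def, ← PiTensorProduct.one_def]
  refine ⟨fun x w z => ?_, fun z => ?_⟩
  · have h0 : ∀ j, ev j (chElt (SymTen.tpowLaw A B d) U z) = 0 := by
      intro j
      have h := Polynomial.hom_eval₂ (chiC (SymTen.tpowLaw A B d) U z)
        (Algebra.TensorProduct.includeLeft : U ⊗[A] T →ₐ[A] (U ⊗[A] T) ⊗[A] B).toRingHom (ev j).toRingHom (iota B T U z)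
      have hid : (ev j).toRingHom.comp (Algebra.TensorProduct.includeLeft : U ⊗[A] T →ₐ[A] (U ⊗[A] T) ⊗[A] B).toRingHom =
          RingHom.id _ := RingHom.ext fun a => by simp [ev, ← Algebra.TensorProduct.one_def]
      rw [hid] at h
      refine h.trans ?_
      rw [hchi, ← Polynomial.coe_eval₂RingHom, map_prod]
      refine Finset.prod_eq_zero (Finset.mem_univ j) ?_
      rw [map_sub, Polynomial.coe_eval₂RingHom, Polynomial.eval₂_C, Polynomial.eval₂_X]
      show sl j z - ev j (iota B T U z) = 0
      rw [hev, sub_self]
    rw [hmu]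
    refine Eq.trans ?_ (Eq.symm (show (SymTen.tpowLaw A B d).law.toFun' U x = ∏ j, sl j x from rfl))
    exact Finset.prod_congr rfl fun j _ => by rw [map_add, map_mul, h0, mul_zero, add_zero, hev]
  · rw [hchi, map_pow, map_neg, map_one]
    have : ∀ c : Fin d → U ⊗[A] T, (∏ j, (Polynomial.C (c j) - Polynomial.X)) * (-1 : Polynomial (U ⊗[A] T)) ^ d =
        ∏ j, (Polynomial.X - Polynomial.C (c j)) := fun c => by
      rw [show (-1 : Polynomial (U ⊗[A] T)) ^ d = ∏ _j : Fin d, (-1) by simp, ← Finset.prod_mul_distrib]
      exact Finset.prod_congr rfl fun j _ => by ring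
    rw [this]
    exact Polynomial.monic_prod_of_monic _ _ fun j _ => Polynomial.monic_X_sub_C _

section Functoriality

variable {F U} {C' : Type u} [CommRing C'] [Algebra A C'] (f : C →ₐ[A] C')

/-- The induced map on `U ⊗ C`. -/
noncomputable abbrev mapC (U : Type u) [CommRing U] [Algebra A U] : U ⊗[A] C →ₐ[A] U ⊗[A] C' :=
  Algebra.TensorProduct.map (AlgHom.id A U) f

theorem chiC_postcomp (z : U ⊗[A] B) : chiC (F.postcomp f) U z = (chiC F U z).map (mapC f U).toRingHom := by
  show polyHom C' U (f.toLinearMap.lTensor _ (F.law.toFun' (Polynomial U) (zX U z))) = _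
  rw [chiC]
  generalize F.law.toFun' (Polynomial U) (zX U z) = y
  induction y using TensorProduct.induction_on with
  | zero => simp
  | tmul p c =>
    simp only [LinearMap.lTensor_tmul, AlgHom.toLinearMap_apply, polyHom, Algebra.TensorProduct.lift_tmul,
      Polynomial.coe_mapAlgHom, AlgHom.comp_apply, IsScalarTower.coe_toAlgHom', Polynomial.algebraMap_eq,
      Polynomial.map_mul, Polynomial.map_C, Polynomial.map_map]
    congr 2
    · exact RingHom.ext fun a => by simp [mapC]
  | add a b ha hb => simp only [map_add, ha, hb, Polynomial.map_add]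

theorem good_aux (x w z : U ⊗[A] B) :
    mu C' U ((F.postcomp f).law.toFun' (U ⊗[A] C') (iota B C' U x + iota B C' U w * chElt (F.postcomp f) U z)) =
      mapC f U (mu C U (F.law.toFun' (U ⊗[A] C) (iota B C U x + iota B C U w * chElt F U z))) := by
  let Φ : (U ⊗[A] C) ⊗[A] B →ₐ[A] (U ⊗[A] C') ⊗[A] B := Algebra.TensorProduct.map (mapC f U) (AlgHom.id A B)
  have hi : ∀ v, Φ (iota B C U v) = iota B C' U v := by
    intro v
    induction v using TensorProduct.induction_on with
    | zero => simp
    | tmul a b => simp [Φ, iota, mapC]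
    | add a b ha hb => simp only [map_add, ha, hb]
  have hch : Φ (chElt F U z) = chElt (F.postcomp f) U z := by
    rw [chElt, chElt, chiC_postcomp, Polynomial.eval₂_map]
    refine (Polynomial.hom_eval₂ _ _ Φ.toRingHom _).trans ?_
    congr 1
    · exact hi z
  have hy : iota B C' U x + iota B C' U w * chElt (F.postcomp f) U z =
      (mapC f U).toLinearMap.rTensor B (iota B C U x + iota B C U w * chElt F U z) := by
    show _ = _
    rw [PolLaw.rTensor_algHom_apply]
    show _ = Φ _
    rw [map_add, map_mul, hi, hi, hch]
  rw [hy]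
  show mu C' U (f.toLinearMap.lTensor _ (F.law.toFun' (U ⊗[A] C') ((mapC f U).toLinearMap.rTensor B _))) = _
  rw [← PolynomialLaw.isCompat_apply']
  generalize F.law.toFun' (U ⊗[A] C) _ = y
  induction y using TensorProduct.induction_on with
  | zero => simp
  | tmul p c => simp [mu, mapC]; rfl
  | add a b ha hb => simp only [map_add, ha, hb]

theorem good_postcomp (h : Good F U) : Good (F.postcomp f) U := by
  refine ⟨fun x w z => ?_, fun z => ?_⟩
  · rw [good_aux, h.1]
    show _ = f.toLinearMap.lTensor U (F.law.toFun' U x)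
    induction F.law.toFun' U x using TensorProduct.induction_on with
    | zero => simp
    | tmul p c => simp [mapC]
    | add a b ha hb => simp only [map_add, ha, hb]
  · have h2 := (h.2 z).map (mapC f U).toRingHom
    rwa [Polynomial.map_mul, Polynomial.map_C, map_pow, map_neg, map_one, ← chiC_postcomp] at h2

theorem good_of_injective (hf : Function.Injective (f.toLinearMap.lTensor U)) (h : Good (F.postcomp f) U) :
    Good F U := by
  have hfm : ∀ y, f.toLinearMap.lTensor U y = mapC f U y := by
    intro y
    induction y using TensorProduct.induction_on with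
    | zero => simp
    | tmul p c => simp [mapC]
    | add a b ha hb => simp only [map_add, ha, hb]
  refine ⟨fun x w z => hf ?_, fun z => ?_⟩
  · rw [hfm]
    refine (good_aux f x w z).symm.trans ((h.1 x w z).trans ?_)
    rfl
  · have hinj : Function.Injective (mapC f U).toRingHom := fun a b hab => hf (by rw [hfm, hfm]; exact hab)
    refine Polynomial.monic_of_injective hinj ?_
    rw [Polynomial.map_mul, Polynomial.map_C, map_pow, map_neg, map_one, ← chiC_postcomp]
    exact h.2 z

variable {P : Type u} [CommRing P] [Algebra A P] (π : P →ₐ[A] B)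

theorem good_precomp (hπ : Function.Surjective π) (h : Good (F.precomp π) U) : Good F U := by
  let PB (V : Type u) [CommRing V] [Algebra A V] : V ⊗[A] P →ₐ[A] V ⊗[A] B :=
    Algebra.TensorProduct.map (AlgHom.id A V) π
  have hPi : ∀ (V : Type u) [CommRing V] [Algebra A V] (y : V ⊗[A] P), π.toLinearMap.lTensor V y = PB V y := by
    intro V _ _ y
    induction y using TensorProduct.induction_on with
    | zero => simp
    | tmul p c => simp [PB]
    | add a b ha hb => simp only [map_add, ha, hb]
  have hsurj : ∀ y : U ⊗[A] B, ∃ v, PB U v = y := fun y => by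
    obtain ⟨v, hv⟩ := LinearMap.lTensor_surjective U (show Function.Surjective π.toLinearMap from hπ) y
    exact ⟨v, (hPi U v).symm.trans hv⟩
  have hval : ∀ (V : Type u) [CommRing V] [Algebra A V] (y : V ⊗[A] P),
      (F.precomp π).law.toFun' V y = F.law.toFun' V (PB V y) := fun V _ _ y => by
    show F.law.toFun' V (π.toLinearMap.lTensor V y) = _
    rw [hPi]
  have hchi : ∀ z, chiC (F.precomp π) U z = chiC F U (PB U z) := by
    intro z
    rw [chiC, chiC, hval]
    congr 2
    rw [zX, zX, map_sub]
    congr 1
    · induction z using TensorProduct.induction_on with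
      | zero => simp
      | tmul a b => simp [PB]
      | add a b ha hb => simp only [map_add, ha, hb]
    · simp [PB]
  refine ⟨fun x w z => ?_, fun z => ?_⟩
  · obtain ⟨x, rfl⟩ := hsurj x
    obtain ⟨w, rfl⟩ := hsurj w
    obtain ⟨z, rfl⟩ := hsurj z
    have hi : ∀ v, PB (U ⊗[A] C) (iota P C U v) = iota B C U (PB U v) := by
      intro v
      induction v using TensorProduct.induction_on with
      | zero => simp
      | tmul a b => simp [PB, iota]
      | add a b ha hb => simp only [map_add, ha, hb]
    have hch : PB (U ⊗[A] C) (chElt (F.precomp π) U z) = chElt F U (PB U z) := by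
      rw [chElt, chElt, hchi]
      refine (Polynomial.hom_eval₂ _ _ (PB (U ⊗[A] C)).toRingHom _).trans ?_
      congr 1
      · exact RingHom.ext fun a => by simp [PB]
      · exact hi z
    have := h.1 x w z
    rw [hval, hval, map_add, map_mul, hi, hi, hch] at this
    exact this
  · obtain ⟨z, rfl⟩ := hsurj z
    rw [← hchi]
    exact h.2 z

end Functoriality

theorem good_mvPolynomial (F : PolLaw.MulLaw A B C d) (σ : Type u) : Good F (MvPolynomial σ A) := by
  let π : MvPolynomial B A →ₐ[A] B := aeval id
  let e := MvPolynomial.basisMonomials B A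
  refine good_precomp π (exists_presentation A B) ?_
  have hτ : Good (tauFree (d := d) e) (MvPolynomial σ A) := by
    refine good_of_injective (SymTen.TS A (MvPolynomial B A) d).val (val_lTensor_injective e _) ?_
    have : (tauFree (d := d) e).postcomp (SymTen.TS A (MvPolynomial B A) d).val = SymTen.tpowLaw A _ d :=
      PolLaw.MulLaw.ext ((val_symProj_tp e).trans (tpowLaw_eq_tp A d _).symm)
    rw [this]
    exact good_tpowLaw _
  have : (tauFree (d := d) e).postcomp (rho e (F.precomp π)) = F.precomp π :=
    PolLaw.MulLaw.ext (rho_tauFree e (F.precomp π))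
  rw [← this]
  exact good_postcomp _ hτ

end Groth.Agent.DivPow
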