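import Groth.Agent.DivPow.Flat

/-!
# The canonical map to symmetric tensors
-/

set_option autoImplicit false
universe u

open scoped TensorProduct
open MvPolynomial

namespace Groth.Agent.DivPow

variable {A B C : Type u} [CommRing A] [CommRing B] [Algebra A B] [CommRing C] [Algebra A C] {d : ℕ}
  {γ : PolLaw.MulLaw A B C d}

/-- The canonical map from the divided powers to the symmetric tensors. -/
theorem exists_phi (hγ : PolLaw.IsGammaD γ) :
    ∃ φ : C →ₐ[A] SymTen.TS A B d,
      PolLaw.postcomp ((SymTen.TS A B d).val.comp φ).toLinearMap γ.law = (SymTen.tpowLaw A B d).law := by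
  obtain ⟨f, hf, -⟩ := hγ (⨂[A] _ : Fin d, B) (SymTen.tpowLaw A B d)
  let π : MvPolynomial B A →ₐ[A] B := aeval id
  let e := MvPolynomial.basisMonomials B A
  have hmem : ∀ c : C, f c ∈ SymTen.TS A B d := by
    intro c
    obtain ⟨u, rfl⟩ := rho_surjective e π (exists_presentation A B) hγ c
    have h : f.comp (rho e (γ.precomp π)) = (SymTen.tmap A d π).comp (SymTen.TS A (MvPolynomial B A) d).val := by
      refine TS_hom_ext e fun α => ?_
      show f.toLinearMap (rho e (γ.precomp π) (orb e α)) = SymTen.tmap A d π (cf (tp A (MvPolynomial B A) d) e α)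
      rw [rho_orb, tmap_eq_map, map_cf_tp]
      show f.toLinearMap (cf (PolLaw.precomp γ.law π.toLinearMap) e α) = _
      rw [cf_precomp, ← cf_postcomp, hf, tpowLaw_eq_tp]
    have h1 : f (rho e (γ.precomp π) u) = SymTen.tmap A d π (u : ⨂[A] _ : Fin d, MvPolynomial B A) :=
      AlgHom.congr_fun h u
    rw [h1]
    intro σ
    rw [← SymTen.tmap_reindex, u.2 σ]
  refine ⟨f.codRestrict _ hmem, ?_⟩
  have : (SymTen.TS A B d).val.comp (f.codRestrict _ hmem) = f := AlgHom.ext fun c => rfl
  rw [this, hf]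

theorem isGammaD_postcomp {D : Type u} [CommRing D] [Algebra A D] (hγ : PolLaw.IsGammaD γ) (φ : C →ₐ[A] D)
    (hφ : Function.Bijective φ) : PolLaw.IsGammaD (γ.postcomp φ) := by
  intro C' _ _ F
  obtain ⟨f, hf, huniq⟩ := hγ C' F
  let E := AlgEquiv.ofBijective φ hφ
  have hc : ∀ g : D →ₐ[A] C', PolLaw.postcomp g.toLinearMap (γ.postcomp φ).law =
      PolLaw.postcomp (g.comp φ).toLinearMap γ.law := fun g => by
    apply PolynomialLaw.ext
    funext S _ _ x
    show g.toLinearMap.lTensor S (φ.toLinearMap.lTensor S _) = (g.toLinearMap ∘ₗ φ.toLinearMap).lTensor S _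
    rw [LinearMap.lTensor_comp, LinearMap.comp_apply]
  refine ⟨f.comp E.symm.toAlgHom, ?_, fun g hg => ?_⟩
  · have hid : (f.comp E.symm.toAlgHom).comp φ = f := AlgHom.ext fun x => congrArg f (E.symm_apply_apply x)
    show PolLaw.postcomp (f.comp E.symm.toAlgHom).toLinearMap (γ.postcomp φ).law = F.law
    rw [hc, hid, hf]
  · have h1 : g.comp φ = f := huniq _ ((hc g).symm.trans hg)
    refine AlgHom.ext fun y => ?_
    obtain ⟨x, rfl⟩ := hφ.2 y
    show g (φ x) = f (E.symm (φ x))
    rw [show E.symm (φ x) = x from E.symm_apply_apply x, ← h1]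
    rfl

theorem bijective_of_isUnit (hγ : PolLaw.IsGammaD γ) (φ : C →ₐ[A] SymTen.TS A B d)
    (hφ : PolLaw.postcomp ((SymTen.TS A B d).val.comp φ).toLinearMap γ.law = (SymTen.tpowLaw A B d).law)
    (hu : IsUnit ((d.factorial : ℕ) : A)) : Function.Bijective φ := by
  obtain ⟨h1, h2⟩ := factorial_smul γ φ hφ hγ
  refine ⟨(injective_iff_map_eq_zero φ).mpr fun x hx => ?_, fun y => ?_⟩
  · have := h1 x hx
    rwa [← Nat.cast_smul_eq_nsmul A, hu.smul_eq_zero] at this
  · obtain ⟨x, hx⟩ := h2 y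
    have hx' : φ x = ((d.factorial : ℕ) : A) • y := (show φ x = d.factorial • y from hx).trans (Nat.cast_smul_eq_nsmul A _ _).symm
    exact ⟨hu.unit⁻¹.val • x, by rw [map_smul, hx', smul_smul, IsUnit.val_inv_mul, one_smul]⟩

end Groth.Agent.DivPow
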