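import Mathlib
import Groth.Prelude.Def_PolLaw

/-!
# Coefficients of polynomial laws
-/

set_option autoImplicit false
set_option linter.unusedSectionVars false
universe u

open scoped TensorProduct
open MvPolynomial

namespace Groth.Agent.DivPow

variable {A : Type u} [CommRing A] {M N P : Type u} [AddCommGroup M] [Module A M]
  [AddCommGroup N] [Module A N] [AddCommGroup P] [Module A P] {ι κ : Type u}

/-- The coefficient of a monomial in `A[X] ⊗ N`. -/
noncomputable def co (α : ι →₀ ℕ) : MvPolynomial ι A ⊗[A] N →ₗ[A] N :=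
  (TensorProduct.lid A N).toLinearMap ∘ₗ (MvPolynomial.lcoeff A α).rTensor N

theorem co_tmul (α : ι →₀ ℕ) (p : MvPolynomial ι A) (n : N) : co α (p ⊗ₜ[A] n) = coeff α p • n := rfl

theorem co_monomial [DecidableEq ι] (α β : ι →₀ ℕ) (a : A) (n : N) :
    co α (monomial β a ⊗ₜ[A] n) = if β = α then a • n else 0 := by
  rw [co_tmul, coeff_monomial]
  split_ifs <;> simp

theorem exists_sum_monomial (y : MvPolynomial ι A ⊗[A] N) :
    ∃ (T : Finset (ι →₀ ℕ)), (∀ α, α ∉ T → co α y = 0) ∧ y = ∑ α ∈ T, monomial α (1 : A) ⊗ₜ[A] co α y := by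
  classical
  induction y using TensorProduct.induction_on with
  | zero => exact ⟨∅, fun α _ => map_zero _, by simp⟩
  | tmul p n =>
    refine ⟨p.support, fun α hα => by rw [co_tmul, notMem_support_iff.mp hα, zero_smul], ?_⟩
    conv_lhs => rw [p.as_sum, TensorProduct.sum_tmul]
    refine Finset.sum_congr rfl fun α _ => ?_
    rw [co_tmul, TensorProduct.tmul_smul, TensorProduct.smul_tmul', smul_monomial, smul_eq_mul, mul_one]
  | add y z hy hz =>
    obtain ⟨T, hT, hyT⟩ := hy
    obtain ⟨U, hU, hzU⟩ := hz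
    refine ⟨T ∪ U, fun α hα => ?_, ?_⟩
    · rw [Finset.mem_union, not_or] at hα
      rw [map_add, hT α hα.1, hU α hα.2, add_zero]
    · refine (congrArg₂ (· + ·) hyT hzU).trans ?_
      rw [Finset.sum_subset (Finset.subset_union_left (s₂ := U)) (fun α _ h => by rw [hT α h, TensorProduct.tmul_zero]),
        Finset.sum_subset (Finset.subset_union_right (s₁ := T) (s₂ := U)) (fun α _ h => by rw [hU α h, TensorProduct.tmul_zero]),
        ← Finset.sum_add_distrib]
      exact Finset.sum_congr rfl fun α _ => by rw [map_add, TensorProduct.tmul_add]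

theorem co_ext {y z : MvPolynomial ι A ⊗[A] N} (h : ∀ α, co α y = co α z) : y = z := by
  obtain ⟨T, -, hT⟩ := exists_sum_monomial (y - z)
  rw [← sub_eq_zero, hT]
  exact Finset.sum_eq_zero fun α _ => by rw [map_sub, h, sub_self, TensorProduct.tmul_zero]

theorem co_lTensor (α : ι →₀ ℕ) (g : N →ₗ[A] P) (y : MvPolynomial ι A ⊗[A] N) :
    co α (g.lTensor _ y) = g (co α y) := by
  induction y using TensorProduct.induction_on with
  | zero => simp
  | tmul p n => rw [LinearMap.lTensor_tmul, co_tmul, co_tmul, map_smul]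
  | add y z hy hz => rw [map_add, map_add, map_add, map_add, hy, hz]

/-- The generic element supported on a finite set of variables. -/
noncomputable def gen (s : Finset ι) (m : ι → M) : MvPolynomial ι A ⊗[A] M := ∑ i ∈ s, X i ⊗ₜ[A] m i

theorem toFun'_sum (F : M →ₚₗ[A] N) (s : Finset ι) (m : ι → M) (S : Type u) [CommSemiring S] [Algebra A S]
    (t : ι → S) :
    F.toFun' S (∑ i ∈ s, t i ⊗ₜ[A] m i) = (aeval t).toLinearMap.rTensor N (F.toFun' _ (gen s m)) := by
  rw [PolynomialLaw.isCompat_apply']
  congr 1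
  rw [gen, map_sum]
  refine Finset.sum_congr rfl fun i _ => ?_
  rw [LinearMap.rTensor_tmul]
  congr 1
  exact (aeval_X t i).symm

/-- An element of `S ⊗ M` is a finite sum of tensors with entries in a spanning family. -/
theorem exists_sum (b : κ → M) (hb : Submodule.span A (Set.range b) = ⊤) (S : Type u) [CommSemiring S] [Algebra A S]
    (x : S ⊗[A] M) : ∃ (s : Finset κ) (t : κ → S), x = ∑ i ∈ s, t i ⊗ₜ[A] b i := by
  classical
  induction x using TensorProduct.induction_on with
  | zero => exact ⟨∅, fun _ => 0, by simp⟩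
  | tmul a m =>
    have hm : m ∈ Submodule.span A (Set.range b) := hb ▸ Submodule.mem_top
    obtain ⟨c, rfl⟩ := Finsupp.mem_span_range_iff_exists_finsupp.mp hm
    refine ⟨c.support, fun i => c i • a, ?_⟩
    rw [Finsupp.sum, TensorProduct.tmul_sum]
    exact Finset.sum_congr rfl fun i _ => by rw [TensorProduct.tmul_smul, TensorProduct.smul_tmul']
  | add x y hx hy =>
    obtain ⟨s, t, hx⟩ := hx
    obtain ⟨s', t', hy⟩ := hy
    refine ⟨s ∪ s', fun i => (if i ∈ s then t i else 0) + (if i ∈ s' then t' i else 0), ?_⟩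
    simp only [TensorProduct.add_tmul, Finset.sum_add_distrib]
    rw [← Finset.sum_subset (Finset.subset_union_left (s₂ := s')) (fun i _ h => by simp [h]),
      ← Finset.sum_subset (Finset.subset_union_right (s₁ := s)) (fun i _ h => by simp [h]), hx, hy]
    congr 1 <;> exact Finset.sum_congr rfl fun i hi => by simp [hi]

/-- Two laws are equal once they agree on the generic elements of a spanning family. -/
theorem law_ext {F G : M →ₚₗ[A] N} (b : κ → M) (hb : Submodule.span A (Set.range b) = ⊤)
    (h : ∀ s : Finset κ, F.toFun' _ (gen s b) = G.toFun' _ (gen s b)) : F = G := by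
  apply PolynomialLaw.ext
  funext S _ _ x
  obtain ⟨s, t, rfl⟩ := exists_sum b hb S x
  rw [toFun'_sum, toFun'_sum, h]

theorem span_range_id : Submodule.span A (Set.range (id : M → M)) = ⊤ := by simp

/-- Setting the variables outside `s` to zero. -/
noncomputable def kill (s : Finset ι) : MvPolynomial ι A →ₐ[A] MvPolynomial ι A :=
  haveI := Classical.decEq ι
  aeval fun i => if i ∈ s then X i else 0

theorem kill_monomial [DecidableEq ι] (s : Finset ι) (β : ι →₀ ℕ) (a : A) :
    kill s (monomial β a) = if β.support ⊆ s then monomial β a else 0 := by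
  rw [kill, aeval_monomial]
  split_ifs with h
  · rw [monomial_eq, Finsupp.prod]
    congr 1
    exact Finset.prod_congr rfl fun i hi => by simp [h hi]
  · obtain ⟨i, hi, his⟩ := Finset.not_subset.mp h
    rw [Finsupp.prod, Finset.prod_eq_zero hi, mul_zero]
    rw [Finsupp.mem_support_iff] at hi
    simp [his, hi]

theorem co_kill [DecidableEq ι] (s : Finset ι) (α : ι →₀ ℕ) (y : MvPolynomial ι A ⊗[A] N) :
    co α ((kill s).toLinearMap.rTensor N y) = if α.support ⊆ s then co α y else 0 := by
  obtain ⟨T, hT, hy⟩ := exists_sum_monomial y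
  conv_lhs => rw [hy]
  rw [map_sum, map_sum]
  have : ∀ β ∈ T, co α ((kill s).toLinearMap.rTensor N (monomial β (1 : A) ⊗ₜ[A] co β y)) =
      if β = α then (if α.support ⊆ s then co α y else 0) else 0 := by
    intro β _
    rw [LinearMap.rTensor_tmul, AlgHom.toLinearMap_apply, kill_monomial]
    by_cases hβ : β = α
    · subst hβ
      by_cases hs : β.support ⊆ s
      · rw [if_pos hs, if_pos hs, co_monomial, if_pos rfl, one_smul, if_pos rfl]
      · rw [if_neg hs, if_neg hs, TensorProduct.zero_tmul, map_zero, if_pos rfl]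
    · by_cases hs : β.support ⊆ s
      · rw [if_pos hs, co_monomial, if_neg hβ, if_neg hβ]
      · rw [if_neg hs, TensorProduct.zero_tmul, map_zero, if_neg hβ]
  rw [Finset.sum_congr rfl this, Finset.sum_ite_eq' T α]
  by_cases h : α ∈ T
  · rw [if_pos h]
  · rw [if_neg h, hT α h, ite_self]

theorem kill_gen [DecidableEq ι] {s t : Finset ι} (hst : s ⊆ t) (m : ι → M) :
    (kill s).toLinearMap.rTensor M (gen t m) = gen (A := A) s m := by
  rw [gen, map_sum, gen, ← Finset.sum_subset hst (fun i _ h => ?_)]
  · refine Finset.sum_congr rfl fun i hi => ?_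
    rw [LinearMap.rTensor_tmul, AlgHom.toLinearMap_apply, kill, aeval_X]
    simp [hi]
  · rw [LinearMap.rTensor_tmul, AlgHom.toLinearMap_apply, kill, aeval_X]
    simp [h]

/-- The coefficient of a law at a monomial, with respect to a family. -/
noncomputable def cf (F : M →ₚₗ[A] N) (m : ι → M) (α : ι →₀ ℕ) : N :=
  co α (F.toFun' _ (gen α.support m))

theorem co_gen (F : M →ₚₗ[A] N) (m : ι → M) (s : Finset ι) (α : ι →₀ ℕ) [DecidableEq ι] :
    co α (F.toFun' _ (gen s m)) = if α.support ⊆ s then cf F m α else 0 := by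
  split_ifs with h
  · have h1 := PolynomialLaw.isCompat_apply' (f := F) (kill α.support) (gen s m)
    rw [kill_gen h] at h1
    rw [cf, ← h1, co_kill, if_pos subset_rfl]
  · have h1 := PolynomialLaw.isCompat_apply' (f := F) (kill s) (gen s m)
    rw [kill_gen subset_rfl] at h1
    rw [← h1, co_kill, if_neg h]

theorem law_ext_cf {F G : M →ₚₗ[A] N} (b : κ → M) (hb : Submodule.span A (Set.range b) = ⊤)
    (h : ∀ α, cf F b α = cf G b α) : F = G := by
  classical
  refine law_ext b hb fun s => co_ext fun α => ?_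
  rw [co_gen, co_gen, h]

theorem cf_postcomp (g : N →ₗ[A] P) (F : M →ₚₗ[A] N) (m : ι → M) (α : ι →₀ ℕ) :
    cf (PolLaw.postcomp g F) m α = g (cf F m α) :=
  co_lTensor α g _

theorem cf_precomp {M' : Type u} [AddCommGroup M'] [Module A M'] (g : M' →ₗ[A] M) (F : M →ₚₗ[A] N) (m : ι → M')
    (α : ι →₀ ℕ) : cf (PolLaw.precomp F g) m α = cf F (g ∘ m) α := by
  show co α (F.toFun' _ (g.lTensor _ (gen α.support m))) = _
  rw [cf, gen, map_sum]
  rfl

/-- The total degree of a multi-index. -/
noncomputable def deg (α : ι →₀ ℕ) : ℕ := α.sum fun _ n => n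

/-- The coefficients of a homogeneous law vanish outside its degree. -/
theorem cf_eq_zero {F : M →ₚₗ[A] N} {d : ℕ} (hF : PolLaw.IsHomog F d) (m : ι → M) {α : ι →₀ ℕ}
    (hα : deg α ≠ d) : cf F m α = 0 := by
  classical
  set y := F.toFun' _ (gen α.support m) with hy
  let e : ι → MvPolynomial (Option ι) A := fun i => X none * X (some i)
  let j : ι → MvPolynomial (Option ι) A := fun i => X (some i)
  have h1 := hF (MvPolynomial (Option ι) A) (X none) (∑ i ∈ α.support, j i ⊗ₜ[A] m i)
  rw [Finset.smul_sum] at h1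
  have h2 : ∀ i ∈ α.support, (X none : MvPolynomial (Option ι) A) • (j i ⊗ₜ[A] m i) = e i ⊗ₜ[A] m i := fun i _ => rfl
  rw [Finset.sum_congr rfl h2, toFun'_sum, toFun'_sum, ← hy] at h1
  obtain ⟨U, hU, hyU⟩ := exists_sum_monomial y
  rw [hyU, map_sum, map_sum, Finset.smul_sum] at h1
  let up : ℕ → (ι →₀ ℕ) → (Option ι →₀ ℕ) := fun n β =>
    Finsupp.single none n + β.mapDomain some
  have hjm : ∀ β : ι →₀ ℕ, (β.prod fun i n => j i ^ n) = monomial (β.mapDomain some) (1 : A) := fun β => by
    rw [monomial_eq, C_1, one_mul, Finsupp.prod_mapDomain_index_inj (Option.some_injective ι)]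
  have hcomb : ∀ n β, (X none : MvPolynomial (Option ι) A) ^ n * monomial (β.mapDomain some) (1 : A) =
      monomial (up n β) (1 : A) := fun n β => by
    rw [X_pow_eq_monomial, monomial_mul, one_mul]
  have he : ∀ β : ι →₀ ℕ, aeval e (monomial β (1 : A)) = monomial (up (deg β) β) (1 : A) := fun β => by
    rw [aeval_monomial, map_one, one_mul, ← hcomb, ← hjm, Finsupp.prod, Finsupp.prod]
    simp only [e, j, mul_pow, Finset.prod_mul_distrib, Finset.prod_pow_eq_pow_sum]
    rfl
  have hj : ∀ β : ι →₀ ℕ, (X none : MvPolynomial (Option ι) A) ^ d * aeval j (monomial β (1 : A)) =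
      monomial (up d β) (1 : A) := fun β => by
    rw [aeval_monomial, map_one, one_mul, hjm, hcomb]
  have h3 := congrArg (co (up (deg α) α)) h1
  simp only [LinearMap.rTensor_tmul, AlgHom.toLinearMap_apply, TensorProduct.smul_tmul', smul_eq_mul, he, hj,
    map_sum, co_monomial, one_smul] at h3
  have hinj : ∀ n n' β β', up n β = up n' β' → n = n' ∧ β = β' := by
    intro n n' β β' h
    have hn : ∀ γ : ι →₀ ℕ, γ.mapDomain some none = 0 := fun γ =>
      Finsupp.mapDomain_of_notMem_range _ _ (by simp)
    refine ⟨by simpa [up, hn] using DFunLike.congr_fun h none, Finsupp.ext fun i => ?_⟩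
    simpa [up, Finsupp.mapDomain_apply (Option.some_injective ι)] using DFunLike.congr_fun h (some i)
  rw [Finset.sum_eq_single α, if_pos rfl, Finset.sum_eq_zero] at h3
  · rw [cf, ← hy]; exact h3
  · intro β _
    exact if_neg fun h => hα (hinj _ _ _ _ h).1.symm
  · intro β _ hne
    exact if_neg fun h => hne (hinj _ _ _ _ h).2
  · intro h
    rw [if_pos rfl]
    exact hU α h

end Groth.Agent.DivPow
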