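import Groth.Agent.DivPow.BaseChange
import Groth.Prelude.Def_PolLaw2
import Mathlib

/-!
# The determinant law of a finite module over a normal domain
-/

set_option autoImplicit false
set_option linter.unusedSectionVars false
universe u

open scoped TensorProduct

namespace Groth.Agent.DivPow.DetNormal

variable {A B M : Type u} [CommRing A] [CommRing B] [Algebra A B]
  [AddCommGroup M] [Module A M] [Module B M] [IsScalarTower A B M]

/-- The generic determinant law, with values in a field over the base. -/
theorem exists_generic (K : Type u) [Field K] [Algebra A K] [Module.Finite A M] (d : ℕ)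
    (hd : Module.finrank K (K ⊗[A] M) = d) :
    ∃ G : PolLaw.MulLaw A B K d, ∀ (R : Type u) [CommRing R] [Algebra A R] (L : Type u) [Field L] [Algebra A L]
      [Algebra K L] [IsScalarTower A K L] (ρ : R →ₐ[A] L) (x : R ⊗[A] B),
      Algebra.TensorProduct.lift ρ (IsScalarTower.toAlgHom A K L) (fun _ _ => Commute.all _ _) (G.law.toFun' R x) =
        LinearMap.det (PolLaw.actEnd M L (Algebra.TensorProduct.map ρ (AlgHom.id A B) x)) := by
  letI : Module (K ⊗[A] B) (K ⊗[A] M) := Module.compHom _ (PolLaw.actEnd (B := B) M K).toRingHom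
  haveI : IsScalarTower K (K ⊗[A] B) (K ⊗[A] M) := IsScalarTower.of_algebraMap_smul fun k v => by
    show PolLaw.actEnd (B := B) M K (algebraMap K (K ⊗[A] B) k) v = k • v
    rw [AlgHom.commutes, Module.algebraMap_end_apply]
  let F : PolLaw.MulLaw K (K ⊗[A] B) K d := PolLaw.detLaw (M := K ⊗[A] M) d hd
  refine ⟨lawRes F, fun R _ _ L _ _ _ _ ρ x => ?_⟩
  let μ : L ⊗[A] K →ₐ[A] L :=
    Algebra.TensorProduct.lift (AlgHom.id A L) (IsScalarTower.toAlgHom A K L) (fun _ _ => Commute.all _ _)
  have h0 : ∀ y : R ⊗[A] K, Algebra.TensorProduct.lift ρ (IsScalarTower.toAlgHom A K L) (fun _ _ => Commute.all _ _) y =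
      μ (ρ.toLinearMap.rTensor K y) := by
    intro y
    induction y using TensorProduct.induction_on with
    | zero => simp
    | tmul a b => simp [μ]
    | add a b ha hb => simp only [map_add, ha, hb]
  rw [h0, PolynomialLaw.isCompat_apply', PolLaw.rTensor_algHom_apply]
  generalize Algebra.TensorProduct.map ρ (AlgHom.id A B) x = z
  let m : K ⊗[A] L →ₐ[K] L :=
    Algebra.TensorProduct.lift (Algebra.ofId K L) (AlgHom.id A L) (fun _ _ => Commute.all _ _)
  have h1 : ∀ w : (K ⊗[A] L) ⊗[K] K, μ (pullCoef L w) = TensorProduct.rid K L (m.toLinearMap.rTensor K w) := by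
    intro w
    induction w using TensorProduct.induction_on with
    | zero => simp
    | tmul r c =>
      induction r using TensorProduct.induction_on with
      | zero => simp
      | tmul a s =>
        rw [pullCoef_tmul]
        simp [μ, m, Algebra.smul_def]
        ring
      | add y z hy hz => simp only [TensorProduct.add_tmul, map_add, hy, hz]
    | add y z hy hz => simp only [map_add, hy, hz]
  have h2 : m.toLinearMap.rTensor _ (pushTest K L z) = (canc (A := K) L B).symm z := by
    induction z using TensorProduct.induction_on with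
    | zero => simp
    | tmul s b => simp [pushTest_tmul, canc_symm_tmul, m]
    | add y z hy hz => simp only [map_add, hy, hz]
  show μ (pullCoef L (F.law.toFun' (K ⊗[A] L) (pushTest K L z))) = _
  rw [h1, PolynomialLaw.isCompat_apply', h2]
  show TensorProduct.rid K L (PolLaw.detFun K (K ⊗[A] B) (K ⊗[A] M) L ((canc (A := K) L B).symm z)) = _
  rw [PolLaw.detFun_eq_detAct, TensorProduct.rid_tmul, one_smul, PolLaw.detAct]
  let e : L ⊗[K] (K ⊗[A] M) ≃ₗ[L] L ⊗[A] M := TensorProduct.AlgebraTensorModule.cancelBaseChange A K L L M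
  rw [← LinearMap.det_conj (PolLaw.actEnd (K ⊗[A] M) L ((canc (A := K) L B).symm z)) e]
  congr 1
  clear h2
  refine LinearMap.ext fun v => ?_
  obtain ⟨v, rfl⟩ := e.surjective v
  simp only [LinearMap.comp_apply, LinearEquiv.coe_coe, LinearEquiv.symm_apply_apply]
  induction z using TensorProduct.induction_on with
  | zero => simp
  | tmul s b =>
    induction v using TensorProduct.induction_on with
    | zero => simp
    | tmul t w =>
      induction w using TensorProduct.induction_on with
      | zero => simp
      | tmul k p =>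
        have hb : ((1 : K) ⊗ₜ[A] b : K ⊗[A] B) • (k ⊗ₜ[A] p : K ⊗[A] M) = k ⊗ₜ[A] (b • p) := by
          show PolLaw.actEnd M K ((1 : K) ⊗ₜ[A] b) (k ⊗ₜ[A] p) = _
          rw [PolLaw.actEnd_tmul_tmul, one_mul]
        rw [canc_symm_tmul, PolLaw.actEnd_tmul_tmul, hb]
        simp [e, Algebra.smul_def]
        congr 1
        ring
      | add y z hy hz => simp only [TensorProduct.tmul_add, map_add, hy, hz]
    | add y z hy hz => simp only [map_add, hy, hz]
  | add y z hy hz => simp only [map_add, LinearMap.add_apply, hy, hz]

theorem isIntegrallyClosed_mvPolynomial {R : Type u} [CommRing R] [IsDomain R] [IsIntegrallyClosed R] :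
    ∀ n : ℕ, IsIntegrallyClosed (MvPolynomial (Fin n) R)
  | 0 => .of_equiv (MvPolynomial.isEmptyRingEquiv R (Fin 0)).symm
  | n + 1 =>
    have := isIntegrallyClosed_mvPolynomial (R := R) n
    .of_equiv (MvPolynomial.finSuccEquiv R n).toRingEquiv.symm

/-- The determinant of the action over the fraction field is integral. -/
theorem isIntegral_det [Module.Finite A M] (R : Type u) [CommRing R] [Algebra A R] (L : Type u) [Field L] [Algebra A L]
    [Algebra R L] [IsScalarTower A R L] (x : R ⊗[A] B) :
    IsIntegral R (LinearMap.det (PolLaw.actEnd M L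
      (Algebra.TensorProduct.map (IsScalarTower.toAlgHom A R L) (AlgHom.id A B) x))) := by
  classical
  let ρ : R →ₐ[A] L := IsScalarTower.toAlgHom A R L
  let x' := Algebra.TensorProduct.map ρ (AlgHom.id A B) x
  let f := PolLaw.actEnd M L x'
  obtain ⟨p, hp, hp0⟩ := LinearMap.exists_monic_and_aeval_eq_zero R (PolLaw.actEnd M R x)
  have hj : ∀ (q : Polynomial R) (v : R ⊗[A] M), ρ.toLinearMap.rTensor M (Polynomial.aeval (PolLaw.actEnd M R x) q v) =
      Polynomial.aeval f (q.map (algebraMap R L)) (ρ.toLinearMap.rTensor M v) := by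
    intro q
    induction q using Polynomial.induction_on with
    | C r =>
      intro v
      rw [Polynomial.map_C, Polynomial.aeval_C, Polynomial.aeval_C, Module.algebraMap_end_apply, Module.algebraMap_end_apply]
      induction v using TensorProduct.induction_on with
      | zero => simp
      | tmul a p => simp [TensorProduct.smul_tmul', ρ, Algebra.smul_def]
      | add y z hy hz => simp only [smul_add, map_add, hy, hz]
    | add p q hp hq =>
      intro v
      rw [Polynomial.map_add, map_add, map_add, LinearMap.add_apply, LinearMap.add_apply, map_add, hp, hq]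
    | monomial n r ih =>
      intro v
      have e1 : Polynomial.C r * Polynomial.X ^ (n + 1) = (Polynomial.C r * Polynomial.X ^ n) * Polynomial.X := by ring
      simp only [e1, Polynomial.map_mul (q := Polynomial.X), Polynomial.map_X, map_mul (Polynomial.aeval (PolLaw.actEnd M R x)) _ Polynomial.X,
        map_mul (Polynomial.aeval f) _ Polynomial.X, Polynomial.aeval_X, Module.End.mul_apply]
      rw [ih]
      congr 1
      exact PolLaw.rTensor_actEnd M ρ x v
  have hf : Polynomial.aeval f (p.map (algebraMap R L)) = 0 := by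
    refine LinearMap.ext fun v => ?_
    rw [LinearMap.zero_apply]
    induction v using TensorProduct.induction_on with
    | zero => simp
    | tmul t m =>
      rw [show t ⊗ₜ[A] m = t • ρ.toLinearMap.rTensor M ((1 : R) ⊗ₜ[A] m) by simp [TensorProduct.smul_tmul'], map_smul, ← hj, hp0,
        LinearMap.zero_apply, map_zero, smul_zero]
    | add y z hy hz => rw [map_add, hy, hz, add_zero]
  let b := Module.finBasis L (L ⊗[A] M)
  let Lb := AlgebraicClosure L
  let Mx := LinearMap.toMatrix b b f
  let Mb := (algebraMap L Lb).mapMatrix Mx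
  have hMb : Polynomial.aeval Mb (p.map (algebraMap R Lb)) = 0 := by
    have h1 : Polynomial.aeval Mx (p.map (algebraMap R L)) = 0 := by
      rw [show Mx = LinearMap.toMatrixAlgEquiv b f from rfl, Polynomial.aeval_algHom_apply, hf, map_zero]
    have h2 : Polynomial.aeval ((Algebra.ofId L Lb).mapMatrix Mx) (p.map (algebraMap R L)) = 0 := by
      rw [Polynomial.aeval_algHom_apply, h1, map_zero]
    rw [IsScalarTower.algebraMap_eq R L Lb, ← Polynomial.map_map, Polynomial.aeval_map_algebraMap]
    exact h2
  have hdet : algebraMap L Lb (LinearMap.det f) = Mb.det := by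
    rw [← LinearMap.det_toMatrix b, RingHom.map_det]
  suffices IsIntegral R (algebraMap L Lb (LinearMap.det f)) by
    exact (isIntegral_algebraMap_iff (algebraMap L Lb).injective).mp this
  rw [hdet, Matrix.det_eq_prod_roots_charpoly]
  refine IsIntegral.multiset_prod fun μ hμ => ⟨p, hp, ?_⟩
  have hspec : μ ∈ spectrum Lb Mb := Matrix.mem_spectrum_iff_isRoot_charpoly.mpr (Polynomial.isRoot_of_mem_roots hμ)
  have := spectrum.subset_polynomial_aeval Mb (p.map (algebraMap R Lb)) ⟨μ, hspec, rfl⟩
  rw [hMb] at this
  rcases subsingleton_or_nontrivial (Matrix (Fin (Module.finrank L (L ⊗[A] M))) (Fin (Module.finrank L (L ⊗[A] M))) Lb) with h | h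
  · rw [spectrum.of_subsingleton] at this
    exact absurd this (Set.notMem_empty _)
  rw [spectrum.zero_eq, Set.mem_singleton_iff] at this
  simp only [Polynomial.eval_map] at this
  exact this

/-- Lifting a test element to a polynomial ring, together with a scalar. -/
theorem exists_lift_smul (S : Type u) [CommRing S] [Algebra A S] (x : S ⊗[A] B) (s : S) :
    ∃ (n : ℕ) (ψ : MvPolynomial (Fin n) A →ₐ[A] S) (x' : MvPolynomial (Fin n) A ⊗[A] B) (s' : MvPolynomial (Fin n) A),
      ψ.toLinearMap.rTensor B x' = x ∧ ψ s' = s := by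
  obtain ⟨T, t, rfl⟩ := exists_sum (id : B → B) span_range_id S x
  let e := (Fintype.equivFin T)
  refine ⟨Fintype.card T + 1, MvPolynomial.aeval (Fin.snoc (fun i => t (e.symm i)) s),
    ∑ a : T, MvPolynomial.X (e a).castSucc ⊗ₜ[A] (a : B), MvPolynomial.X (Fin.last _), ?_, ?_⟩
  · rw [map_sum, ← Finset.sum_coe_sort T (fun i => t i ⊗ₜ[A] id i)]
    refine Finset.sum_congr rfl fun a _ => ?_
    rw [LinearMap.rTensor_tmul, AlgHom.toLinearMap_apply, MvPolynomial.aeval_X, Fin.snoc_castSucc, Equiv.symm_apply_apply]
    rfl
  · rw [MvPolynomial.aeval_X, Fin.snoc_last]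

end Groth.Agent.DivPow.DetNormal
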