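import Groth.Prelude.Def_PolLaw2
import Groth.Agent.DivPow.Coeff
import Mathlib.RingTheory.Spectrum.Prime.FreeLocus
import Mathlib.RingTheory.Finiteness.Projective
import Mathlib.LinearAlgebra.Determinant

/-!
# The determinant law of a finite projective module
-/

set_option autoImplicit false
set_option linter.unusedSectionVars false
universe u

open scoped TensorProduct

namespace Groth.Agent.DivPow.DetProj

variable {A B M : Type u} [CommRing A] [CommRing B] [Algebra A B]
  [AddCommGroup M] [Module A M] [Module B M] [IsScalarTower A B M]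
variable {n : ℕ} (f : (Fin n → A) →ₗ[A] M) (g : M →ₗ[A] (Fin n → A))

/-- The matrix of the action of an element, extended by zero on the complement. -/
noncomputable def act : B →ₗ[A] Matrix (Fin n) (Fin n) A :=
  LinearMap.toMatrix'.toLinearMap ∘ₗ (LinearMap.llcomp A (Fin n → A) M (Fin n → A) g) ∘ₗ
    (LinearMap.lcomp A M f) ∘ₗ (Algebra.lsmul A A M : B →ₐ[A] Module.End A M).toLinearMap

/-- The projection to the complement. -/
noncomputable def compl : Matrix (Fin n) (Fin n) A := 1 - LinearMap.toMatrix' (g ∘ₗ f)

theorem act_apply (b : B) : act f g b = LinearMap.toMatrix' (g ∘ₗ (Algebra.lsmul A A M b) ∘ₗ f) := rfl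

theorem act_one : act f g (1 : B) = LinearMap.toMatrix' (g ∘ₗ f) := by
  rw [act_apply, map_one]
  rfl

variable (S : Type u) [CommRing S] [Algebra A S]

/-- The action over a test ring. -/
noncomputable def actS : S ⊗[A] B →ₗ[A] Matrix (Fin n) (Fin n) S :=
  TensorProduct.lift (LinearMap.mk₂ A (fun (s : S) (b : B) => s • (act f g b).map (algebraMap A S))
    (fun s t b => add_smul s t _) (fun c s b => smul_assoc c s _)
    (fun s b b' => by rw [map_add, Matrix.map_add _ (map_add _), smul_add])
    (fun c s b => by
      ext i j
      simp only [map_smul, Matrix.smul_apply, Matrix.map_apply, smul_eq_mul]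
      rw [map_mul, Algebra.smul_def]
      ring))

theorem actS_tmul (s : S) (b : B) : actS f g S (s ⊗ₜ[A] b) = s • (act f g b).map (algebraMap A S) := rfl

theorem actS_one : actS f g S (1 : S ⊗[A] B) + (compl f g).map (algebraMap A S) = 1 := by
  rw [Algebra.TensorProduct.one_def, actS_tmul, one_smul, act_one, compl,
    ← Matrix.map_add _ (map_add (algebraMap A S)), add_sub_cancel, Matrix.map_one _ (map_zero _) (map_one _)]

theorem actS_smul (s : S) (x : S ⊗[A] B) : actS f g S (s • x) = s • actS f g S x := by
  induction x using TensorProduct.induction_on with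
  | zero => simp
  | tmul t b => rw [TensorProduct.smul_tmul', actS_tmul, actS_tmul, smul_eq_mul, mul_smul]
  | add a b ha hb => simp only [map_add, smul_add, ha, hb]

variable {f g} (hfg : f ∘ₗ g = LinearMap.id)

include hfg in
theorem act_mul (b b' : B) : act f g (b * b') = act f g b * act f g b' := by
  rw [act_apply, act_apply, act_apply, ← LinearMap.toMatrix'_comp, map_mul]
  congr 1
  refine LinearMap.ext fun v => ?_
  have h : ∀ m, f (g m) = m := fun m => congrArg (fun L : M →ₗ[A] M => L m) hfg
  show g (Algebra.lsmul A A M b (Algebra.lsmul A A M b' (f v))) =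
    g (Algebra.lsmul A A M b (f (g (Algebra.lsmul A A M b' (f v)))))
  rw [h]

include hfg in
theorem act_mul_compl (b : B) : act f g b * compl f g = 0 ∧ compl f g * act f g b = 0 ∧
    compl f g * compl f g = compl f g := by
  have h : ∀ m, f (g m) = m := fun m => congrArg (fun L : M →ₗ[A] M => L m) hfg
  have h1 : act f g b * LinearMap.toMatrix' (g ∘ₗ f) = act f g b := by
    rw [← act_one (B := B), ← act_mul hfg, mul_one]
  have h2 : LinearMap.toMatrix' (g ∘ₗ f) * act f g b = act f g b := by
    rw [← act_one (B := B), ← act_mul hfg, one_mul]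
  have h3 : LinearMap.toMatrix' (g ∘ₗ f) * LinearMap.toMatrix' (g ∘ₗ f) = LinearMap.toMatrix' (g ∘ₗ f) := by
    rw [← act_one (B := B), ← act_mul hfg, one_mul]
  refine ⟨?_, ?_, ?_⟩
  · rw [compl, mul_sub, mul_one, h1, sub_self]
  · rw [compl, sub_mul, one_mul, h2, sub_self]
  · rw [compl, mul_sub, mul_one, sub_mul, one_mul, h3, sub_self, sub_zero]

include hfg in
theorem full_mul (x y : S ⊗[A] B) :
    (actS f g S x + (compl f g).map (algebraMap A S)) * (actS f g S y + (compl f g).map (algebraMap A S)) =
      actS f g S (x * y) + (compl f g).map (algebraMap A S) := by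
  have h1 : ∀ x : S ⊗[A] B, actS f g S x * (compl f g).map (algebraMap A S) = 0 ∧
      (compl f g).map (algebraMap A S) * actS f g S x = 0 := by
    intro x
    induction x using TensorProduct.induction_on with
    | zero => simp
    | tmul t b =>
      rw [actS_tmul, Matrix.smul_mul, Matrix.mul_smul, ← Matrix.map_mul, ← Matrix.map_mul,
        (act_mul_compl hfg b).1, (act_mul_compl hfg b).2.1]
      simp
    | add a b ha hb => simp [add_mul, mul_add, ha.1, ha.2, hb.1, hb.2]
  have h2 : ∀ x y : S ⊗[A] B, actS f g S x * actS f g S y = actS f g S (x * y) := by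
    intro x y
    induction x using TensorProduct.induction_on with
    | zero => simp
    | tmul t b =>
      induction y using TensorProduct.induction_on with
      | zero => simp
      | tmul t' b' =>
        rw [Algebra.TensorProduct.tmul_mul_tmul, actS_tmul, actS_tmul, actS_tmul, Matrix.smul_mul, Matrix.mul_smul,
          ← Matrix.map_mul, act_mul hfg, mul_smul]
      | add a b ha hb => simp [mul_add, ha, hb]
    | add a b ha hb => simp [add_mul, ha, hb]
  rw [mul_add, add_mul, add_mul, h2, (h1 x).1, (h1 y).2, ← Matrix.map_mul, (act_mul_compl hfg (1 : B)).2.2]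
  abel

variable (f g) in
/-- The determinant over a test ring. -/
noncomputable def detS (x : S ⊗[A] B) : S := (actS f g S x + (compl f g).map (algebraMap A S)).det

theorem detS_map {S' : Type u} [CommRing S'] [Algebra A S'] (φ : S →ₐ[A] S') (x : S ⊗[A] B) :
    φ (detS f g S x) = detS f g S' (φ.toLinearMap.rTensor B x) := by
  rw [detS, detS, AlgHom.map_det, map_add]
  congr 1
  have h0 : φ.mapMatrix ((compl f g).map (algebraMap A S)) = (compl f g).map (algebraMap A S') := by
    ext i j
    simp
  have h1 : φ.mapMatrix (actS f g S x) = actS f g S' (φ.toLinearMap.rTensor B x) := by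
    induction x using TensorProduct.induction_on with
    | zero => simp
    | tmul t b =>
      ext i j
      simp [actS_tmul]
    | add a b ha hb => simp only [map_add, ha, hb]
  rw [h0, h1]

/-- The complement over a test ring is free for local rings, and the determinant is that of the action. -/
theorem detS_local (hfg : f ∘ₗ g = LinearMap.id) [Module.Finite A M] [Module.Projective A M]
    [IsLocalRing S] (x : S ⊗[A] B) : detS f g S x = PolLaw.detAct M S x := by
  classical
  haveI : Module.Free S (S ⊗[A] M) := Module.free_of_flat_of_isLocalRing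
  let e₁ : S ⊗[A] (Fin n → A) ≃ₗ[S] (Fin n → S) := TensorProduct.piScalarRight A S S (Fin n)
  let fS : (Fin n → S) →ₗ[S] S ⊗[A] M := f.baseChange S ∘ₗ e₁.symm.toLinearMap
  let gS : S ⊗[A] M →ₗ[S] (Fin n → S) := e₁.toLinearMap ∘ₗ g.baseChange S
  have hfgS : ∀ z, fS (gS z) = z := by
    intro z
    simp only [fS, gS, LinearMap.comp_apply, LinearEquiv.coe_coe, LinearEquiv.symm_apply_apply]
    rw [← LinearMap.comp_apply, ← LinearMap.baseChange_comp, hfg, LinearMap.baseChange_id, LinearMap.id_apply]
  let P := LinearMap.ker fS
  let pr : (Fin n → S) →ₗ[S] P := (LinearMap.id - gS ∘ₗ fS).codRestrict P fun v => by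
    simp [P, map_sub, hfgS]
  haveI : Module.Finite S P := Module.Finite.of_surjective pr fun v => ⟨v, Subtype.ext (by
    simp [pr, show fS v = 0 from v.2])⟩
  haveI : Module.Projective S P := Module.Projective.of_split P.subtype pr (LinearMap.ext fun v => Subtype.ext (by
    simp [pr, show fS v = 0 from v.2]))
  haveI : Module.Free S P := Module.free_of_flat_of_isLocalRing
  let e : (Fin n → S) ≃ₗ[S] (S ⊗[A] M) × P :=
    LinearEquiv.ofLinear (fS.prod pr) (gS.coprod P.subtype)
      (LinearMap.ext fun ⟨m, p⟩ => Prod.ext (by simp [hfgS, show fS p = 0 from p.2])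
        (Subtype.ext (by simp [pr, hfgS, show fS p = 0 from p.2])))
      (LinearMap.ext fun v => by simp [pr])
  have hE : Matrix.toLin' (actS f g S x + (compl f g).map (algebraMap A S)) =
      e.symm.toLinearMap ∘ₗ (LinearMap.prodMap (PolLaw.actEnd M S x) LinearMap.id) ∘ₗ e.toLinearMap := by
    have h1 : Matrix.toLin' (actS f g S x) = gS ∘ₗ PolLaw.actEnd M S x ∘ₗ fS := by
      induction x using TensorProduct.induction_on with
      | zero => simp
      | tmul t b =>
        refine LinearMap.ext fun v => ?_
        obtain ⟨w, rfl⟩ := e₁.surjective v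
        induction w using TensorProduct.induction_on with
        | zero => simp
        | tmul r a =>
          have hgb : (act f g b).mulVec a = g (b • f a) := by
            rw [← Matrix.toLin'_apply, act_apply, Matrix.toLin'_toMatrix']
            rfl
          funext i
          simp only [actS_tmul, map_smul, LinearMap.smul_apply, Matrix.toLin'_apply, fS, gS, LinearMap.comp_apply,
            LinearEquiv.coe_coe, LinearEquiv.symm_apply_apply, LinearMap.baseChange_tmul, PolLaw.actEnd_tmul_tmul, ← hgb]
          simp [e₁, Matrix.mulVec, dotProduct, Finset.mul_sum, Finset.smul_sum, Algebra.smul_def]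
          rw [Finset.sum_mul]
          exact Finset.sum_congr rfl fun j _ => by ring
        | add w w' hw hw' => simp only [map_add, hw, hw']
      | add a b ha hb => simp only [map_add, LinearMap.add_comp, LinearMap.comp_add, ha, hb]
    have h2 : Matrix.toLin' ((compl f g).map (algebraMap A S)) = LinearMap.id - gS ∘ₗ fS := by
      refine LinearMap.ext fun v => ?_
      obtain ⟨w, rfl⟩ := e₁.surjective v
      induction w using TensorProduct.induction_on with
      | zero => simp
      | tmul r a =>
        have hgb : (compl f g).mulVec a = a - g (f a) := by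
          rw [← Matrix.toLin'_apply, compl, map_sub, Matrix.toLin'_one, Matrix.toLin'_toMatrix']
          rfl
        have hj : e₁ (r ⊗ₜ[A] a) - gS (fS (e₁ (r ⊗ₜ[A] a))) = e₁ (r ⊗ₜ[A] ((compl f g).mulVec a)) := by
          rw [hgb, TensorProduct.tmul_sub, map_sub]
          simp [fS, gS]
        rw [LinearMap.sub_apply, LinearMap.id_apply, LinearMap.comp_apply, hj]
        funext i
        simp [e₁, Matrix.mulVec, dotProduct, Finset.sum_smul, Algebra.smul_def, Finset.mul_sum]
        rw [Finset.sum_mul]
        exact Finset.sum_congr rfl fun j _ => by ring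
      | add w w' hw hw' => simp only [map_add, hw, hw']
    rw [map_add, h1, h2]
    refine LinearMap.ext fun v => ?_
    simp [e, pr]
  have hd := LinearMap.det_conj (LinearMap.prodMap (PolLaw.actEnd M S x) (LinearMap.id : P →ₗ[S] P)) e.symm
  rw [LinearEquiv.symm_symm] at hd
  rw [detS, ← LinearMap.det_toLin', hE, PolLaw.detAct]
  refine hd.trans ?_
  rw [LinearMap.det_prodMap, LinearMap.det_id, mul_one]

/-- An element is determined by its images in the localisations at primes. -/
theorem eq_of_local {a b : S} (h : ∀ (T : Type u) [CommRing T] [IsLocalRing T] [Algebra A T] (φ : S →ₐ[A] T), φ a = φ b) :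
    a = b := by
  refine sub_eq_zero.mp (Module.eq_zero_of_localization_maximal
    (fun J (_ : J.IsMaximal) => Localization.AtPrime J) (fun J _ => Algebra.linearMap S (Localization.AtPrime J)) _ ?_)
  intro J hJ
  rw [map_sub, sub_eq_zero]
  exact h _ (IsScalarTower.toAlgHom A S (Localization.AtPrime J))

variable (f g) in
/-- The determinant law as a bare law. -/
noncomputable def law : B →ₚₗ[A] A where
  toFun' S _ _ x :=
    letI : CommRing S := { Algebra.semiringToRing A, (inferInstance : CommSemiring S) with }
    detS f g S x ⊗ₜ[A] (1 : A)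
  isCompat' {S} _ _ {S'} _ _ φ := by
    letI : CommRing S := { Algebra.semiringToRing A, (inferInstance : CommSemiring S) with }
    letI : CommRing S' := { Algebra.semiringToRing A, (inferInstance : CommSemiring S') with }
    funext x
    simp only [Function.comp_apply, LinearMap.rTensor_tmul, AlgHom.toLinearMap_apply, detS_map S φ x]

theorem law_apply (S : Type u) [iS : CommRing S] [Algebra A S] (x : S ⊗[A] B) :
    (law f g).toFun' S x = detS f g S x ⊗ₜ[A] (1 : A) := by
  have hinst : ({ Algebra.semiringToRing A, (inferInstance : CommSemiring S) with } : CommRing S) = iS :=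
    CommRing.ext rfl rfl
  show (letI : CommRing S := { Algebra.semiringToRing A, (inferInstance : CommSemiring S) with }
    detS f g S x ⊗ₜ[A] (1 : A)) = _
  congr 2

include hfg in
theorem isMult : PolLaw.IsMult (law (B := B) f g) := by
  intro S _ _
  letI : CommRing S := { Algebra.semiringToRing A, (inferInstance : CommSemiring S) with }
  refine ⟨?_, fun x y => ?_⟩
  · show detS f g S 1 ⊗ₜ[A] (1 : A) = 1
    rw [detS, actS_one, Matrix.det_one]
    rfl
  · show detS f g S (x * y) ⊗ₜ[A] (1 : A) = (detS f g S x ⊗ₜ[A] (1 : A)) * (detS f g S y ⊗ₜ[A] (1 : A))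
    rw [Algebra.TensorProduct.tmul_mul_tmul, mul_one, detS, detS, detS, ← Matrix.det_mul, full_mul S hfg]

theorem tmul_one_eta (y : S ⊗[A] A) : y = (TensorProduct.rid A S y) ⊗ₜ[A] (1 : A) := by
  rw [← TensorProduct.rid_symm_apply, LinearEquiv.symm_apply_apply]

theorem unique [Module.Finite A M] [Module.Projective A M] {N : B →ₚₗ[A] A} (hfg : f ∘ₗ g = LinearMap.id)
    (hN : ∀ (S : Type u) [CommRing S] [IsLocalRing S] [Algebra A S] (x : S ⊗[A] B),
      N.toFun' S x = PolLaw.detAct M S x ⊗ₜ[A] (1 : A)) : N = law f g := by
  apply PolynomialLaw.ext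
  funext S _ _ x
  letI : CommRing S := { Algebra.semiringToRing A, (inferInstance : CommSemiring S) with }
  show _ = detS f g S x ⊗ₜ[A] (1 : A)
  rw [tmul_one_eta S (N.toFun' S x)]
  congr 1
  refine eq_of_local (A := A) S fun T _ _ _ φ => ?_
  rw [detS_map, detS_local T hfg]
  have h := N.isCompat_apply' φ x
  rw [hN T, tmul_one_eta S (N.toFun' S x), LinearMap.rTensor_tmul] at h
  simpa using congrArg (TensorProduct.rid A T) h

theorem local_smul_one [Module.Finite A M] [Module.Projective A M] {d : ℕ}
    (hd : ∀ p : PrimeSpectrum A, Module.rankAtStalk M p = d) [IsLocalRing S] (s : S) :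
    PolLaw.detAct M S (s • (1 : S ⊗[A] B)) = s ^ d := by
  haveI : Module.Free S (S ⊗[A] M) := Module.free_of_flat_of_isLocalRing
  have h : Module.finrank S (S ⊗[A] M) = d := by
    have := congrFun (Module.rankAtStalk_eq_finrank_of_free (R := S) (M := S ⊗[A] M)) (IsLocalRing.closedPoint S)
    rw [Module.rankAtStalk_baseChange, hd] at this
    exact_mod_cast this.symm
  rw [PolLaw.detAct, map_smul, map_one, LinearMap.det_smul, map_one, mul_one, h]

theorem isHomog [Module.Finite A M] [Module.Projective A M] {d : ℕ} (hfg : f ∘ₗ g = LinearMap.id)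
    (hd : ∀ p : PrimeSpectrum A, Module.rankAtStalk M p = d) : PolLaw.IsHomog (law (B := B) f g) d := by
  intro S _ _ s x
  letI : CommRing S := { Algebra.semiringToRing A, (inferInstance : CommSemiring S) with }
  show detS f g S (s • x) ⊗ₜ[A] (1 : A) = s ^ d • (detS f g S x ⊗ₜ[A] (1 : A))
  rw [TensorProduct.smul_tmul', smul_eq_mul]
  congr 1
  have h : detS f g S (s • x) = detS f g S (s • (1 : S ⊗[A] B)) * detS f g S x := by
    rw [detS, detS, detS, ← Matrix.det_mul, full_mul S hfg, smul_mul_assoc, one_mul]
  rw [h]
  congr 1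
  refine eq_of_local (A := A) S fun T _ _ _ φ => ?_
  rw [detS_map, detS_local T hfg, Algebra.TensorProduct.one_def, TensorProduct.smul_tmul', smul_eq_mul, mul_one,
    LinearMap.rTensor_tmul, AlgHom.toLinearMap_apply, map_pow, ← local_smul_one (B := B) (M := M) T hd (φ s)]
  congr 1
  rw [Algebra.TensorProduct.one_def, TensorProduct.smul_tmul', smul_eq_mul, mul_one]

end Groth.Agent.DivPow.DetProj
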