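import Groth.Agent.DivPow.KerApps

/-!
# Kernels of laws on finite algebras: finitely many conditions
-/

set_option autoImplicit false
set_option linter.unusedSectionVars false
universe u

open scoped TensorProduct
open MvPolynomial

namespace Groth.Agent.DivPow

variable {A B : Type u} [CommRing A] [CommRing B] [Algebra A B] {d : ℕ} (F : PolLaw.MulLaw A B A d)
variable {κ : Type u} [Fintype κ] (m : κ → B)
variable (U : Type u) [CommRing U] [Algebra A U]

/-- Generic element of `B` in the first set of variables. -/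
noncomputable def genX : MvPolynomial (κ ⊕ κ) U ⊗[A] B := ∑ i : κ, X (Sum.inl i) ⊗ₜ[A] m i

/-- Generic element of `B` in the second set of variables. -/
noncomputable def genW : MvPolynomial (κ ⊕ κ) U ⊗[A] B := ∑ i : κ, X (Sum.inr i) ⊗ₜ[A] m i

/-- The defect of an element from lying in the base-changed kernel. -/
noncomputable def defect (z : U ⊗[A] B) : MvPolynomial (κ ⊕ κ) U :=
  ridA (MvPolynomial (κ ⊕ κ) U) (F.law.toFun' _ (genX m U + genW m U *
    Algebra.TensorProduct.map (IsScalarTower.toAlgHom A U (MvPolynomial (κ ⊕ κ) U)) (AlgHom.id A B) z)) -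
  ridA (MvPolynomial (κ ⊕ κ) U) (F.law.toFun' _ (genX m U))

theorem ridA_injective (R : Type u) [CommRing R] [Algebra A R] : Function.Injective (ridA (A := A) R) :=
  (Algebra.TensorProduct.rid A A R).injective

theorem ridA_rTensor {R R' : Type u} [CommRing R] [Algebra A R] [CommRing R'] [Algebra A R'] (ψ : R →ₐ[A] R')
    (y : R ⊗[A] A) : ridA R' (ψ.toLinearMap.rTensor A y) = ψ (ridA R y) := by
  induction y using TensorProduct.induction_on with
  | zero => simp
  | tmul a b => simp [ridA_tmul]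
  | add a b ha hb => simp only [map_add, ha, hb]

theorem mem_kerBC_iff_defect (hm : Submodule.span A (Set.range m) = ⊤) (z : U ⊗[A] B) :
    z ∈ PolLaw.kerBC F.law U ↔ defect F m U z = 0 := by
  refine ⟨fun hz => ?_, fun h => ?_⟩
  · rw [defect, hz (MvPolynomial (κ ⊕ κ) U), sub_self]
  rw [mem_kerBC_iff]
  intro R _ _ _ _ x w
  obtain ⟨t, rfl⟩ : ∃ t : κ → R, x = ∑ i, t i ⊗ₜ[A] m i := by
    classical
    obtain ⟨s, t, rfl⟩ := exists_sum m hm R x
    exact ⟨fun i => if i ∈ s then t i else 0, by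
      simp only [TensorProduct.ite_tmul, Finset.sum_ite_mem, Finset.univ_inter]⟩
  obtain ⟨t', rfl⟩ : ∃ t' : κ → R, w = ∑ i, t' i ⊗ₜ[A] m i := by
    classical
    obtain ⟨s, t', rfl⟩ := exists_sum m hm R w
    exact ⟨fun i => if i ∈ s then t' i else 0, by
      simp only [TensorProduct.ite_tmul, Finset.sum_ite_mem, Finset.univ_inter]⟩
  let ev : MvPolynomial (κ ⊕ κ) U →ₐ[A] R := (aeval (Sum.elim t t') : _ →ₐ[U] R).restrictScalars A
  have h' := congrArg (ev.toLinearMap.rTensor A) (ridA_injective _ (sub_eq_zero.mp h))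
  rw [PolynomialLaw.isCompat_apply', PolynomialLaw.isCompat_apply', PolLaw.rTensor_algHom_apply,
    PolLaw.rTensor_algHom_apply, map_add, map_mul] at h'
  have hx : Algebra.TensorProduct.map ev (AlgHom.id A B) (genX m U) = ∑ i, t i ⊗ₜ[A] m i := by
    simp [genX, ev, map_sum]
  have hw : Algebra.TensorProduct.map ev (AlgHom.id A B) (genW m U) = ∑ i, t' i ⊗ₜ[A] m i := by
    simp [genW, ev, map_sum]
  have hz : Algebra.TensorProduct.map ev (AlgHom.id A B)
      (Algebra.TensorProduct.map (IsScalarTower.toAlgHom A U (MvPolynomial (κ ⊕ κ) U)) (AlgHom.id A B) z) =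
      Algebra.TensorProduct.map (IsScalarTower.toAlgHom A U R) (AlgHom.id A B) z := by
    rw [← AlgHom.comp_apply, ← Algebra.TensorProduct.map_comp]
    congr 2
    exact AlgHom.ext fun q => (aeval (Sum.elim t t') : MvPolynomial (κ ⊕ κ) U →ₐ[U] R).commutes q
  rwa [hx, hw, hz] at h'

variable {U}

theorem defect_map {U' : Type u} [CommRing U'] [Algebra A U'] (ψ : U →ₐ[A] U') (z : U ⊗[A] B) :
    defect F m U' (Algebra.TensorProduct.map ψ (AlgHom.id A B) z) = (defect F m U z).map ψ.toRingHom := by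
  let Ψ : MvPolynomial (κ ⊕ κ) U →ₐ[A] MvPolynomial (κ ⊕ κ) U' := MvPolynomial.mapAlgHom ψ
  have hΨ : ∀ p, Ψ p = p.map ψ.toRingHom := fun p => rfl
  have hX : ∀ v, Ψ (X v) = X v := fun v => by rw [hΨ, map_X]
  have hx : Algebra.TensorProduct.map Ψ (AlgHom.id A B) (genX m U) = genX m U' := by
    simp [genX, map_sum, hX]
  have hw : Algebra.TensorProduct.map Ψ (AlgHom.id A B) (genW m U) = genW m U' := by
    simp [genW, map_sum, hX]
  have hz : Algebra.TensorProduct.map Ψ (AlgHom.id A B)
      (Algebra.TensorProduct.map (IsScalarTower.toAlgHom A U (MvPolynomial (κ ⊕ κ) U)) (AlgHom.id A B) z) =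
      Algebra.TensorProduct.map (IsScalarTower.toAlgHom A U' (MvPolynomial (κ ⊕ κ) U')) (AlgHom.id A B)
        (Algebra.TensorProduct.map ψ (AlgHom.id A B) z) := by
    rw [← AlgHom.comp_apply, ← AlgHom.comp_apply (Algebra.TensorProduct.map _ (AlgHom.id A B)),
      ← Algebra.TensorProduct.map_comp, ← Algebra.TensorProduct.map_comp]
    congr 2
    exact AlgHom.ext fun q => (hΨ (C q)).trans (map_C _ q)
  rw [← hΨ, defect, defect, map_sub, ← ridA_rTensor, ← ridA_rTensor, PolynomialLaw.isCompat_apply',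
    PolynomialLaw.isCompat_apply', PolLaw.rTensor_algHom_apply, PolLaw.rTensor_algHom_apply, map_add, map_mul,
    hx, hw, hz]

/-- Scaling an element scales the variables of the second set. -/
theorem defect_smul (a : U) (z : U ⊗[A] B) :
    defect F m U ((a ⊗ₜ[A] (1 : B)) * z) =
      aeval (Sum.elim (fun i => X (Sum.inl i)) fun i => C a * X (Sum.inr i)) (defect F m U z) := by
  let θ : MvPolynomial (κ ⊕ κ) U →ₐ[A] MvPolynomial (κ ⊕ κ) U :=
    (aeval (Sum.elim (fun i => X (Sum.inl i)) fun i => C a * X (Sum.inr i)) :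
      MvPolynomial (κ ⊕ κ) U →ₐ[U] MvPolynomial (κ ⊕ κ) U).restrictScalars A
  have hθ : ∀ p, θ p = aeval (Sum.elim (fun i => X (Sum.inl i)) fun i => C a * X (Sum.inr i)) p := fun p => rfl
  have hx : Algebra.TensorProduct.map θ (AlgHom.id A B) (genX m U) = genX m U := by
    simp [genX, map_sum, hθ]
  have hw : Algebra.TensorProduct.map θ (AlgHom.id A B) (genW m U) = ((C a : MvPolynomial (κ ⊕ κ) U) ⊗ₜ[A] (1 : B)) * genW m U := by
    simp [genW, map_sum, hθ, Finset.mul_sum]
  have hz : Algebra.TensorProduct.map θ (AlgHom.id A B)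
      (Algebra.TensorProduct.map (IsScalarTower.toAlgHom A U (MvPolynomial (κ ⊕ κ) U)) (AlgHom.id A B) z) =
      Algebra.TensorProduct.map (IsScalarTower.toAlgHom A U (MvPolynomial (κ ⊕ κ) U)) (AlgHom.id A B) z := by
    rw [← AlgHom.comp_apply, ← Algebra.TensorProduct.map_comp]
    congr 2
    exact AlgHom.ext fun q => (aeval (Sum.elim (fun i => X (Sum.inl i)) fun i => C a * X (Sum.inr i)) :
      MvPolynomial (κ ⊕ κ) U →ₐ[U] MvPolynomial (κ ⊕ κ) U).commutes q
  rw [← hθ, defect, defect, map_sub, ← ridA_rTensor, ← ridA_rTensor, PolynomialLaw.isCompat_apply',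
    PolynomialLaw.isCompat_apply', PolLaw.rTensor_algHom_apply, PolLaw.rTensor_algHom_apply, map_add, map_mul, map_mul,
    hx, hw, hz, Algebra.TensorProduct.map_tmul, AlgHom.id_apply, IsScalarTower.coe_toAlgHom', MvPolynomial.algebraMap_eq]
  congr 3
  ring

/-- An element killing all the conditions moves an element into the kernel. -/
theorem defect_smul_eq_zero {a : U} {z : U ⊗[A] B} (h : ∀ α, a * coeff α (defect F m U z) = 0) :
    defect F m U ((a ⊗ₜ[A] (1 : B)) * z) = 0 := by
  classical
  have h0 : (aeval (Sum.elim (fun i => X (Sum.inl i)) fun _ => (0 : MvPolynomial (κ ⊕ κ) U))) (defect F m U z) = 0 := by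
    have := defect_smul F m (0 : U) z
    rw [TensorProduct.zero_tmul, zero_mul] at this
    simp only [map_zero, zero_mul] at this
    rw [← this, defect, map_zero, mul_zero, add_zero, sub_self]
  have hd : ∀ α, (∀ i, α (Sum.inr i) = 0) → coeff α (defect F m U z) = 0 := by
    intro α hα
    have hk : ∀ p : MvPolynomial (κ ⊕ κ) U,
        coeff α (aeval (Sum.elim (fun i => X (Sum.inl i)) fun _ => (0 : MvPolynomial (κ ⊕ κ) U)) p) = coeff α p := by
      intro p
      induction p using MvPolynomial.induction_on' with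
      | monomial β c =>
        rw [aeval_monomial, MvPolynomial.algebraMap_eq]
        by_cases hβ : ∀ i, β (Sum.inr i) = 0
        · rw [show β.prod (fun v n => (Sum.elim (fun i => (X (Sum.inl i) : MvPolynomial (κ ⊕ κ) U)) (fun _ => 0) v) ^ n) =
            β.prod (fun v n => (X v) ^ n) from Finset.prod_congr rfl fun v hv => by
              cases v with
              | inl i => rfl
              | inr i => exact absurd (hβ i) (Finsupp.mem_support_iff.mp hv), ← monomial_eq]
        · push Not at hβ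
          obtain ⟨i, hi⟩ := hβ
          rw [Finsupp.prod, Finset.prod_eq_zero (Finsupp.mem_support_iff.mpr hi) (by simp [hi]), mul_zero, coeff_zero,
            coeff_monomial, if_neg]
          rintro rfl
          exact hi (hα i)
      | add p q hp hq => rw [map_add, coeff_add, coeff_add, hp, hq]
    rw [← hk, h0, coeff_zero]
  rw [defect_smul, (defect F m U z).as_sum, map_sum]
  refine Finset.sum_eq_zero fun α _ => ?_
  by_cases hα : ∀ i, α (Sum.inr i) = 0
  · rw [hd α hα, monomial_zero, map_zero]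
  push Not at hα
  obtain ⟨i, hi⟩ := hα
  rw [aeval_monomial, MvPolynomial.algebraMap_eq, Finsupp.prod,
    ← Finset.mul_prod_erase _ _ (Finsupp.mem_support_iff.mpr hi)]
  obtain ⟨k, hk⟩ := Nat.exists_eq_succ_of_ne_zero hi
  rw [Sum.elim_inr, hk, pow_succ, mul_pow,
    show C (coeff α (defect F m U z)) * ((C a ^ k * X (Sum.inr i) ^ k) * (C a * X (Sum.inr i)) *
      ∏ x ∈ α.support.erase (Sum.inr i), Sum.elim (fun i => X (Sum.inl i)) (fun i => C a * X (Sum.inr i)) x ^ α x) =
      C (a * coeff α (defect F m U z)) * ((C a ^ k * X (Sum.inr i) ^ k) * X (Sum.inr i) *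
        ∏ x ∈ α.support.erase (Sum.inr i), Sum.elim (fun i => X (Sum.inl i)) (fun i => C a * X (Sum.inr i)) x ^ α x) by
      rw [map_mul]; ring, h, map_zero, zero_mul]

/-- The kernel commutes with localisation for a finite algebra. -/
theorem kerBC_localization [Module.Finite A B] (M : Submonoid A) (A' : Type u) [CommRing A'] [Algebra A A']
    [IsLocalization M A'] :
    PolLaw.kerBC F.law A' ≤ (PolLaw.ker F.law).map (Algebra.TensorProduct.includeRight : B →ₐ[A] A' ⊗[A] B) := by
  classical
  obtain ⟨n, g, hg⟩ := Module.Finite.exists_fin (R := A) (M := B)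
  let m : ULift.{u} (Fin n) → B := fun i => g i.down
  have hm : Submodule.span A (Set.range m) = ⊤ := by
    rw [← hg]
    congr 1
    exact EquivLike.range_comp g Equiv.ulift
  intro z hz
  obtain ⟨b, s, hbs⟩ : ∃ (b : B) (s : M), z * (algebraMap A A' s ⊗ₜ[A] (1 : B)) = (1 : A') ⊗ₜ[A] b := by
    clear hz
    induction z using TensorProduct.induction_on with
    | zero => exact ⟨0, 1, by simp⟩
    | tmul a b =>
      obtain ⟨⟨a₀, s⟩, hs⟩ := IsLocalization.surj M a
      refine ⟨a₀ • b, s, ?_⟩
      rw [Algebra.TensorProduct.tmul_mul_tmul, mul_one, hs, Algebra.algebraMap_eq_smul_one, TensorProduct.smul_tmul]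
    | add x y hx hy =>
      obtain ⟨b, s, hb⟩ := hx
      obtain ⟨b', s', hb'⟩ := hy
      refine ⟨(s' : A) • b + (s : A) • b', s * s', ?_⟩
      rw [Submonoid.coe_mul, map_mul, show (algebraMap A A' s * algebraMap A A' s') ⊗ₜ[A] (1 : B) =
        (algebraMap A A' s ⊗ₜ[A] (1 : B)) * (algebraMap A A' s' ⊗ₜ[A] (1 : B)) by simp, add_mul, ← mul_assoc, hb,
        mul_comm (algebraMap A A' s ⊗ₜ[A] (1 : B)), ← mul_assoc, hb']
      simp [TensorProduct.tmul_add, Algebra.algebraMap_eq_smul_one, TensorProduct.smul_tmul]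
  have hb : (1 : A') ⊗ₜ[A] b ∈ PolLaw.kerBC F.law A' := hbs ▸ Ideal.mul_mem_right _ _ hz
  have hzero : ∀ α, algebraMap A A' (coeff α (defect F m A ((1 : A) ⊗ₜ[A] b))) = 0 := by
    intro α
    have h := defect_map F m (Algebra.ofId A A') ((1 : A) ⊗ₜ[A] b)
    rw [Algebra.TensorProduct.map_tmul, map_one, AlgHom.id_apply,
      (mem_kerBC_iff_defect F m A' hm _).mp hb] at h
    have := congrArg (coeff α) h
    rw [coeff_zero, coeff_map] at this
    exact this.symm
  choose c hc using fun α => (IsLocalization.map_eq_zero_iff M A' _).mp (hzero α)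
  let D := defect F m A ((1 : A) ⊗ₜ[A] b)
  let a : M := ∏ α ∈ D.support, c α
  have ha : ∀ α, (a : A) * coeff α D = 0 := by
    intro α
    by_cases hα : α ∈ D.support
    · obtain ⟨r, hr⟩ := Finset.dvd_prod_of_mem c hα
      rw [show (a : A) = (c α : A) * (r : A) by rw [← Submonoid.coe_mul, ← hr], mul_assoc, mul_comm (r : A), ← mul_assoc,
        hc α, zero_mul]
    · rw [notMem_support_iff.mp hα, mul_zero]
  have hker : (a : A) • b ∈ PolLaw.ker F.law := by
    refine one_tmul_mem_kerBC_self (F := F.law) ?_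
    rw [mem_kerBC_iff_defect F m A hm,
      show (1 : A) ⊗ₜ[A] ((a : A) • b) = ((a : A) ⊗ₜ[A] (1 : B)) * ((1 : A) ⊗ₜ[A] b) by
        rw [TensorProduct.tmul_smul, TensorProduct.smul_tmul', smul_eq_mul, mul_one, Algebra.TensorProduct.tmul_mul_tmul,
          mul_one, one_mul]]
    exact defect_smul_eq_zero F m ha
  obtain ⟨u, hu⟩ := IsLocalization.map_units A' (s * a)
  have h1 : (Algebra.TensorProduct.includeRight ((a : A) • b) : A' ⊗[A] B) = z * ((u : A') ⊗ₜ[A] (1 : B)) := by
    rw [Algebra.TensorProduct.includeRight_apply, TensorProduct.tmul_smul, TensorProduct.smul_tmul', hu,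
      ← Algebra.algebraMap_eq_smul_one, Submonoid.coe_mul, map_mul,
      show (algebraMap A A' s * algebraMap A A' a) ⊗ₜ[A] (1 : B) =
        (algebraMap A A' s ⊗ₜ[A] (1 : B)) * (algebraMap A A' a ⊗ₜ[A] (1 : B)) by simp, ← mul_assoc, hbs]
    simp
  have hfin : z = ((↑u⁻¹ : A') ⊗ₜ[A] (1 : B)) * (Algebra.TensorProduct.includeRight ((a : A) • b) : A' ⊗[A] B) := by
    rw [h1, mul_left_comm, Algebra.TensorProduct.tmul_mul_tmul, Units.inv_mul, mul_one, ← Algebra.TensorProduct.one_def,
      mul_one]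
  rw [hfin]
  exact Ideal.mul_mem_left _ _ (Ideal.mem_map_of_mem _ hker)

end Groth.Agent.DivPow
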