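import Groth.Agent.DivPow.KerFibre
import Groth.Agent.DivPow.KerFin
import Mathlib

/-!
# The norm law of a finite etale algebra
-/

set_option autoImplicit false
set_option linter.unusedSectionVars false
universe u

open scoped TensorProduct

namespace Groth.Agent.DivPow.EtaleNorm

theorem norm_pi {R : Type u} [CommRing R] {n : ℕ} (v : Fin n → R) : Algebra.norm R v = ∏ i, v i := by
  classical
  rw [Algebra.norm_eq_matrix_det (Pi.basisFun R (Fin n))]
  rw [show Algebra.leftMulMatrix (Pi.basisFun R (Fin n)) v = Matrix.diagonal v from ?_, Matrix.det_diagonal]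
  ext i j
  rw [Algebra.leftMulMatrix_eq_repr_mul, Pi.basisFun_repr, Pi.basisFun_apply, Matrix.diagonal_apply]
  by_cases h : i = j <;> simp [h]

variable {A B T : Type u} [CommRing A] [CommRing B] [Algebra A B] [CommRing T] [Algebra A T] {d : ℕ}
  (e : T ⊗[A] B ≃ₐ[T] (Fin d → T))

/-- The coordinates of the splitting. -/
noncomputable def h (i : Fin d) : B →ₐ[A] T :=
  ((Pi.evalAlgHom A (fun _ : Fin d => T) i).comp (e.restrictScalars A).toAlgHom).comp Algebra.TensorProduct.includeRight

theorem h_apply (i : Fin d) (b : B) : h e i b = e ((1 : T) ⊗ₜ[A] b) i := rfl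

variable (R : Type u) [CommRing R] [Algebra A R] [Algebra T R] [IsScalarTower A T R]

/-- A coordinate over a test algebra. -/
noncomputable def coord (i : Fin d) : R ⊗[A] B →ₐ[R] R :=
  Algebra.TensorProduct.lift (AlgHom.id R R) ((IsScalarTower.toAlgHom A T R).comp (h e i)) (fun _ _ => Commute.all _ _)

theorem coord_tmul (i : Fin d) (r : R) (b : B) : coord e R i (r ⊗ₜ[A] b) = r * algebraMap T R (h e i b) := by simp [coord]

/-- The idempotents over a test algebra. -/
noncomputable def eps (i : Fin d) : R ⊗[A] B :=
  Algebra.TensorProduct.map (IsScalarTower.toAlgHom A T R) (AlgHom.id A B) (e.symm (Pi.single i 1))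

theorem coord_map (j : Fin d) (y : T ⊗[A] B) :
    coord e R j (Algebra.TensorProduct.map (IsScalarTower.toAlgHom A T R) (AlgHom.id A B) y) = algebraMap T R (e y j) := by
  induction y using TensorProduct.induction_on with
  | zero => simp
  | tmul t b =>
    rw [Algebra.TensorProduct.map_tmul, AlgHom.id_apply, coord_tmul,
      show t ⊗ₜ[A] b = t • ((1 : T) ⊗ₜ[A] b) by simp [TensorProduct.smul_tmul'], map_smul, Pi.smul_apply,
      smul_eq_mul, map_mul, h_apply]
    rfl
  | add y z hy hz => simp only [map_add, Pi.add_apply, hy, hz]

theorem coord_eps (i j : Fin d) : coord e R j (eps e R i) = if j = i then 1 else 0 := by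
  rw [eps, coord_map, AlgEquiv.apply_symm_apply, Pi.single_apply]
  split_ifs <;> simp

theorem sum_eps (x : R ⊗[A] B) : ∑ i, coord e R i x • eps e R i = x := by
  classical
  induction x using TensorProduct.induction_on with
  | zero => simp
  | tmul r b =>
    let g := Algebra.TensorProduct.map (IsScalarTower.toAlgHom A T R) (AlgHom.id A B)
    have h1 : ∀ (t : T) (y : T ⊗[A] B), g (t • y) = algebraMap T R t • g y := by
      intro t y
      induction y using TensorProduct.induction_on with
      | zero => simp
      | tmul a c => simp [g, TensorProduct.smul_tmul', Algebra.smul_def]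
      | add y z hy hz => simp only [smul_add, map_add, hy, hz]
    have h2 : (1 : T) ⊗ₜ[A] b = ∑ i, h e i b • e.symm (Pi.single i 1) := by
      apply e.injective
      rw [map_sum]
      funext j
      simp [Finset.sum_apply, Pi.single_apply, h_apply]
    have h3 := congrArg g h2
    rw [map_sum] at h3
    simp only [h1] at h3
    rw [show g ((1 : T) ⊗ₜ[A] b) = (1 : R) ⊗ₜ[A] b by simp [g]] at h3
    simp only [coord_tmul]
    rw [show r ⊗ₜ[A] b = r • ((1 : R) ⊗ₜ[A] b) by simp [TensorProduct.smul_tmul'], h3, Finset.smul_sum]
    refine Finset.sum_congr rfl fun i _ => ?_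
    rw [smul_smul]
    rfl
  | add y z hy hz => simp only [map_add, add_smul, Finset.sum_add_distrib, hy, hz]

theorem ext_coord {x y : R ⊗[A] B} (hxy : ∀ i, coord e R i x = coord e R i y) : x = y := by
  rw [← sum_eps e R x, ← sum_eps e R y]
  simp only [hxy]

theorem norm_eq (x : R ⊗[A] B) : Algebra.norm R x = ∏ i, coord e R i x := by
  classical
  let f : R ⊗[A] B →ₐ[R] (Fin d → R) := Pi.algHom R _ (coord e R)
  have hf : Function.Bijective f := by
    refine ⟨fun a b hab => ext_coord e R fun i => congrFun hab i, fun v => ⟨∑ i, v i • eps e R i, ?_⟩⟩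
    funext j
    simp [f, coord_eps, Finset.sum_apply]
  exact (Algebra.norm_eq_of_algEquiv (AlgEquiv.ofBijective f hf) x).symm.trans (norm_pi _)

/-- The one-coordinate element. -/
noncomputable def one1 (i : Fin d) (r : R) : R ⊗[A] B := 1 + (r - 1) • eps e R i

theorem coord_one1 (i j : Fin d) (r : R) : coord e R j (one1 e R i r) = if j = i then r else 1 := by
  rw [one1, map_add, map_one, map_smul, coord_eps]
  split_ifs <;> simp

theorem prod_one1 (x : R ⊗[A] B) : ∏ i, one1 e R i (coord e R i x) = x := by
  classical
  refine ext_coord e R fun j => ?_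
  rw [map_prod]
  simp [coord_one1]

include e in
theorem ker_eq_bot [Module.FaithfullyFlat A T] (N : PolLaw.MulLaw A B A d)
    (hN : ∀ (S : Type u) [CommRing S] [Algebra A S] (x : S ⊗[A] B), N.law.toFun' S x = Algebra.norm S x ⊗ₜ[A] (1 : A)) :
    PolLaw.ker N.law = ⊥ := by
  classical
  refine le_bot_iff.mp fun b hb => ?_
  have h0 : ∀ i, h e i b = 0 := by
    intro i
    have h1 := hb T (one1 e T i 0) (eps e T i)
    have e1 : ∏ j, coord e T j (one1 e T i 0) = 0 :=
      Finset.prod_eq_zero (Finset.mem_univ i) (by rw [coord_one1, if_pos rfl])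
    have e2 : ∏ j, coord e T j (one1 e T i 0 + eps e T i * ((1 : T) ⊗ₜ[A] b)) = h e i b := by
      rw [Finset.prod_eq_single i (fun j _ hj => by
        rw [map_add, map_mul, coord_one1, coord_eps, if_neg hj, if_neg hj, zero_mul, add_zero])
        (fun hi => absurd (Finset.mem_univ i) hi), map_add, map_mul, coord_one1, coord_eps, if_pos rfl, if_pos rfl, one_mul,
        zero_add, coord_tmul, one_mul]
      rfl
    rw [hN, hN, norm_eq e, norm_eq e, e1, e2] at h1
    simpa using congrArg (TensorProduct.rid A T) h1
  refine (Module.FaithfullyFlat.tensorProduct_mk_injective (A := A) (B := T) B) ?_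
  show (1 : T) ⊗ₜ[A] b = (1 : T) ⊗ₜ[A] 0
  apply e.injective
  funext i
  rw [← h_apply, h0, TensorProduct.tmul_zero, map_zero]
  rfl

theorem aeval_idem_eq_X {S : Type u} [CommRing S] (u : Polynomial S)
    (hmul : ∀ (R : Type u) [CommRing R] [Algebra S R] (s t : R),
      Polynomial.aeval (s * t) u = Polynomial.aeval s u * Polynomial.aeval t u)
    (hfield : ∀ n ≠ 1, IsNilpotent (u.coeff n)) (h1 : u.eval 1 = 1) : u = Polynomial.X := by
  classical
  have hX := congrArg (fun p : Polynomial (Polynomial S) => p) (hmul (Polynomial (Polynomial S)) (Polynomial.C Polynomial.X) Polynomial.X)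
  have hl : ∀ (p : Polynomial S) (j : ℕ),
      (Polynomial.aeval (Polynomial.C Polynomial.X * Polynomial.X : Polynomial (Polynomial S)) p).coeff j =
        Polynomial.monomial j (p.coeff j) := by
    intro p j
    induction p using Polynomial.induction_on' with
    | add p q hp hq => simp [hp, hq]
    | monomial n a =>
      rw [Polynomial.aeval_monomial, mul_pow, ← Polynomial.C_pow, IsScalarTower.algebraMap_apply S (Polynomial S) (Polynomial (Polynomial S)),
        Polynomial.algebraMap_eq, Polynomial.algebraMap_eq, ← mul_assoc, ← map_mul, Polynomial.coeff_C_mul, Polynomial.coeff_X_pow,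
        Polynomial.coeff_monomial]
      split_ifs with h1 h2 h2
      · subst h1; rw [mul_one, Polynomial.C_mul_X_pow_eq_monomial]
      · exact absurd h1.symm h2
      · exact absurd h2.symm h1
      · simp
  have hr1 : ∀ q : Polynomial S, Polynomial.aeval (Polynomial.C Polynomial.X : Polynomial (Polynomial S)) q = Polynomial.C q := by
    intro q
    induction q using Polynomial.induction_on' with
    | add p q hp hq => simp only [map_add, hp, hq]
    | monomial n a =>
      rw [Polynomial.aeval_monomial, IsScalarTower.algebraMap_apply S (Polynomial S) (Polynomial (Polynomial S)),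
        Polynomial.algebraMap_eq, Polynomial.algebraMap_eq, ← Polynomial.C_pow, ← map_mul, Polynomial.C_mul_X_pow_eq_monomial]
  have hr2 : ∀ (q : Polynomial S) (j : ℕ),
      (Polynomial.aeval (Polynomial.X : Polynomial (Polynomial S)) q).coeff j = Polynomial.C (q.coeff j) := by
    intro q j
    induction q using Polynomial.induction_on' with
    | add p q hp hq => simp [hp, hq]
    | monomial n a =>
      rw [Polynomial.aeval_monomial, IsScalarTower.algebraMap_apply S (Polynomial S) (Polynomial (Polynomial S)),
        Polynomial.algebraMap_eq, Polynomial.algebraMap_eq, Polynomial.coeff_C_mul, Polynomial.coeff_X_pow, Polynomial.coeff_monomial]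
      split_ifs with h1 h2 h2
      · rw [mul_one]
      · exact absurd h1.symm h2
      · exact absurd h2.symm h1
      · simp
  have hidem : ∀ i, IsIdempotentElem (u.coeff i) := by
    intro i
    have h := congrArg (fun p : Polynomial (Polynomial S) => (p.coeff i).coeff i) hX
    simp only [hl, hr1, Polynomial.coeff_C_mul, hr2, Polynomial.coeff_monomial, Polynomial.coeff_mul_C, if_pos rfl] at h
    exact h.symm
  have h0 : ∀ n ≠ 1, u.coeff n = 0 := by
    intro n hn
    obtain ⟨k, hk⟩ := hfield n hn
    cases k with
    | zero =>
      have hs : (0 : S) = 1 := by simpa using hk.symm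
      exact (eq_zero_of_zero_eq_one hs _)
    | succ k => rwa [(hidem n).pow_succ_eq] at hk
  have hu : u = Polynomial.C (u.coeff 1) * Polynomial.X := by
    ext n
    rw [Polynomial.coeff_C_mul, Polynomial.coeff_X]
    by_cases hn : n = 1
    · subst hn; simp
    · simp [h0 n hn, Ne.symm hn]
  rw [hu, Polynomial.eval_mul, Polynomial.eval_C, Polynomial.eval_X, mul_one] at h1
  rw [hu, h1, map_one, one_mul]

theorem map_one1 {R' : Type u} [CommRing R'] [Algebra A R'] [Algebra T R'] [IsScalarTower A T R'] (φ : R →ₐ[T] R')
    (i : Fin d) (r : R) :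
    Algebra.TensorProduct.map (φ.restrictScalars A) (AlgHom.id A B) (one1 e R i r) = one1 e R' i (φ r) := by
  have hs : ∀ (c : R) (y : R ⊗[A] B), Algebra.TensorProduct.map (φ.restrictScalars A) (AlgHom.id A B) (c • y) =
      φ c • Algebra.TensorProduct.map (φ.restrictScalars A) (AlgHom.id A B) y := by
    intro c y
    induction y using TensorProduct.induction_on with
    | zero => simp
    | tmul a b => simp [TensorProduct.smul_tmul']
    | add y z hy hz => simp only [smul_add, map_add, hy, hz]
  have hε : Algebra.TensorProduct.map (φ.restrictScalars A) (AlgHom.id A B) (eps e R i) = eps e R' i := by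
    rw [eps, eps, ← AlgHom.comp_apply, ← Algebra.TensorProduct.map_comp]
    congr 2
    exact AlgHom.ext fun t => φ.commutes t
  rw [one1, one1, map_add, map_one, hs, hε, map_sub, map_one]

include e in
theorem unique [Module.FaithfullyFlat A T] (F N : PolLaw.MulLaw A B A d)
    (hN : ∀ (S : Type u) [CommRing S] [Algebra A S] (x : S ⊗[A] B), N.law.toFun' S x = Algebra.norm S x ⊗ₜ[A] (1 : A))
    (hF : PolLaw.ker F.law ≤ nilradical B) : F = N := by
  classical
  let val : ∀ (R : Type u) [CommRing R] [Algebra A R], R ⊗[A] B → R := fun R _ _ x => ridA R (F.law.toFun' R x)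
  have hnat : ∀ (R R' : Type u) [CommRing R] [Algebra A R] [CommRing R'] [Algebra A R'] (φ : R →ₐ[A] R') (x : R ⊗[A] B),
      φ (val R x) = val R' (Algebra.TensorProduct.map φ (AlgHom.id A B) x) := by
    intro R R' _ _ _ _ φ x
    show φ (ridA R _) = ridA R' _
    rw [← PolLaw.rTensor_algHom_apply, ← PolynomialLaw.isCompat_apply']
    generalize F.law.toFun' R x = y
    induction y using TensorProduct.induction_on with
    | zero => simp
    | tmul a b => simp [ridA_tmul]
    | add y z hy hz => simp only [map_add, hy, hz]
  let u : Fin d → Polynomial T := fun i => val (Polynomial T) (one1 e (Polynomial T) i Polynomial.X)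
  have hu : ∀ (R : Type u) [CommRing R] [Algebra A R] [Algebra T R] [IsScalarTower A T R] (i : Fin d) (r : R),
      val R (one1 e R i r) = Polynomial.aeval r (u i) := by
    intro R _ _ _ _ i r
    refine (Eq.symm ?_)
    refine (hnat _ _ ((Polynomial.aeval r : Polynomial T →ₐ[T] R).restrictScalars A) _).trans ?_
    rw [map_one1, Polynomial.aeval_X]
  have hval_mul : ∀ (R : Type u) [CommRing R] [Algebra A R] (x y : R ⊗[A] B), val R (x * y) = val R x * val R y := by
    intro R _ _ x y
    show ridA R _ = ridA R _ * ridA R _
    rw [(F.mult R).2, map_mul]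
  have hval_one : ∀ (R : Type u) [CommRing R] [Algebra A R], val R 1 = 1 := by
    intro R _ _
    show ridA R _ = 1
    rw [(F.mult R).1, map_one]
  have hX : ∀ i, u i = Polynomial.X := by
    intro i
    refine aeval_idem_eq_X (u i) (fun R _ _ s t => ?_) (fun n hn => ?_) ?_
    · letI : Algebra A R := ((algebraMap T R).comp (algebraMap A T)).toAlgebra
      haveI : IsScalarTower A T R := IsScalarTower.of_algebraMap_eq fun _ => rfl
      rw [← hu, ← hu, ← hu, ← hval_mul]
      congr 1
      refine ext_coord e R fun j => ?_
      rw [map_mul, coord_one1, coord_one1, coord_one1]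
      split_ifs <;> simp
    · refine nilpotent_iff_mem_prime.mpr fun P hP => ?_
      let L := AlgebraicClosure P.ResidueField
      obtain ⟨g, hg⟩ := exists_split F (Algebra.ofId A L)
      let hL : Fin d → (B →ₐ[A] L) := fun j => (IsScalarTower.toAlgHom A T L).comp (h e j)
      haveI : Nontrivial L := inferInstance
      have hex : ∀ j, ∃ k, g k = hL j := fun j => exists_eq_root F g hg (hL j) fun b hb => by
        obtain ⟨m, hm⟩ := hF hb
        exact IsReduced.eq_zero _ ⟨m, by rw [← map_pow, hm, map_zero]⟩
      choose σ hσ using hex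
      have hinj : Function.Injective σ := by
        intro j k hjk
        by_contra hne
        have h1 : ∀ j, Algebra.TensorProduct.lift (AlgHom.id L L) (hL j) (fun _ _ => Commute.all _ _) (eps e L j) = 1 := fun j => by
          have := coord_eps e L j j
          rwa [if_pos rfl] at this
        have h2 : Algebra.TensorProduct.lift (AlgHom.id L L) (hL k) (fun _ _ => Commute.all _ _) (eps e L j) = 0 := by
          have := coord_eps e L j k
          rwa [if_neg (Ne.symm hne)] at this
        have h3 : hL k = hL j := by rw [← hσ, ← hσ, hjk]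
        rw [h3, h1] at h2
        exact one_ne_zero h2
      let π : Equiv.Perm (Fin d) := Equiv.ofBijective σ ⟨hinj, Finite.injective_iff_surjective.mp hinj⟩
      have hvalL : ∀ (R : Type u) [CommRing R] [Algebra A R] [Algebra T R] [IsScalarTower A T R] [Algebra L R]
          [IsScalarTower A L R] [IsScalarTower T L R] (x : R ⊗[A] B), val R x = ∏ j, coord e R j x := by
        intro R _ _ _ _ _ _ _ x
        have h := congrFun (congrArg (fun G : B →ₚₗ[A] L => G.toFun' R) hg) x
        let μ : R ⊗[A] L →ₐ[A] R :=
          Algebra.TensorProduct.lift (AlgHom.id A R) (IsScalarTower.toAlgHom A L R) (fun _ _ => Commute.all _ _)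
        have h' := congrArg μ h
        have hl : ∀ y : R ⊗[A] A, μ ((Algebra.ofId A L).toLinearMap.lTensor R y) = ridA R y := by
          intro y
          induction y using TensorProduct.induction_on with
          | zero => simp
          | tmul a b => simp [μ, ridA_tmul, Algebra.smul_def, mul_comm]
          | add y z hy hz => simp only [map_add, hy, hz]
        refine (hl _).symm.trans (h'.trans ?_)
        rw [show (PolLaw.MulLaw.prodMap g d (Fintype.card_fin d)).law.toFun' R x =
          ∏ k, Algebra.TensorProduct.map (AlgHom.id R R) (g k) x from rfl, map_prod, ← Equiv.prod_comp π]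
        refine Finset.prod_congr rfl fun j _ => ?_
        rw [show π j = σ j from rfl, hσ]
        clear h h'
        induction x using TensorProduct.induction_on with
        | zero => simp
        | tmul a b => simp [μ, coord_tmul, hL, ← IsScalarTower.algebraMap_apply]
        | add y z hy hz => simp only [map_add, hy, hz]
      have h1 := hvalL (Polynomial L) (one1 e (Polynomial L) i Polynomial.X)
      rw [hu] at h1
      simp only [coord_one1, Finset.prod_ite_eq', Finset.mem_univ, if_true] at h1
      have h2 : (u i).map (algebraMap T L) = Polynomial.X := by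
        rw [← h1, ← Polynomial.aeval_X_left_apply ((u i).map (algebraMap T L)), Polynomial.aeval_map_algebraMap]
      have h3 := congrArg (fun p : Polynomial L => p.coeff n) h2
      simp only [Polynomial.coeff_map, Polynomial.coeff_X, if_neg (Ne.symm hn)] at h3
      rw [IsScalarTower.algebraMap_apply T P.ResidueField L, map_eq_zero, Ideal.algebraMap_residueField_eq_zero] at h3
      exact h3
    · have := hu T i (1 : T)
      rw [Polynomial.coe_aeval_eq_eval] at this
      rw [← this, one1, sub_self, zero_smul, add_zero, hval_one]
  refine PolLaw.MulLaw.ext (PolynomialLaw.ext ?_)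
  funext S _ _ x
  letI : CommRing S := { Algebra.semiringToRing A, (inferInstance : CommSemiring S) with }
  let R := T ⊗[A] S
  let j : S →ₐ[A] R := Algebra.TensorProduct.includeRight
  have hj : Function.Injective j := Module.FaithfullyFlat.tensorProduct_mk_injective S
  have key : ∀ (y : R ⊗[A] B), val R y = Algebra.norm R y := by
    intro y
    rw [norm_eq e]
    conv_lhs => rw [← prod_one1 e R y]
    have : ∀ s : Finset (Fin d), val R (∏ i ∈ s, one1 e R i (coord e R i y)) = ∏ i ∈ s, coord e R i y := by
      intro s
      induction s using Finset.induction_on with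
      | empty => simp [hval_one]
      | insert a s ha ih => rw [Finset.prod_insert ha, Finset.prod_insert ha, hval_mul, ih, hu, hX, Polynomial.aeval_X]
    exact this Finset.univ
  apply ridA_injective S
  apply hj
  rw [← ridA_rTensor, ← ridA_rTensor, PolynomialLaw.isCompat_apply', PolynomialLaw.isCompat_apply', hN]
  show val R _ = ridA R _
  rw [key, ridA_tmul, one_smul]

/-- A splitting exists. -/
theorem exists_split_etale (A B : Type u) [CommRing A] [Nontrivial A] [CommRing B] [Algebra A B] [Module.Free A B] [Module.Finite A B]
    [Algebra.Etale A B] (d : ℕ) (hd : Module.finrank A B = d) :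
    ∃ (T : Type u) (_ : CommRing T) (_ : Algebra A T) (_ : Module.FaithfullyFlat A T), Nonempty (T ⊗[A] B ≃ₐ[T] (Fin d → T)) := by
  have hn : Module.rankAtStalk (R := A) B = (d : PrimeSpectrum A → ℕ) := by
    rw [Module.rankAtStalk_eq_finrank_of_free, hd]
  obtain ⟨T, _, _, _, _, _, hT⟩ := Algebra.IsFiniteSplit.exists_tensorProduct_of_etale hn
  obtain ⟨n, ⟨e⟩⟩ := Algebra.IsFiniteSplit.nonempty_algEquiv_fun T (T ⊗[A] B)
  have hT' : Nontrivial T := by
    by_contra hsub
    rw [not_nontrivial_iff_subsingleton] at hsub
    have h := Module.FaithfullyFlat.tensorProduct_mk_injective (A := A) (B := T) A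
    exact not_subsingleton A (Function.Injective.subsingleton h)
  have h1 := e.toLinearEquiv.finrank_eq
  rw [Module.finrank_baseChange, hd, Module.finrank_fin_fun] at h1
  subst h1
  exact ⟨T, inferInstance, inferInstance, inferInstance, ⟨e⟩⟩

end Groth.Agent.DivPow.EtaleNorm
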