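import Groth.Agent.DivPow.Tensor
import Groth.Agent.ZeroCycGen
import Groth.Prelude.Def_SymTen

/-!
# The graded algebra of symmetric tensors of a graded algebra: base-point freeness
-/

set_option autoImplicit false
set_option linter.unusedSectionVars false
universe u

open scoped TensorProduct

namespace Groth.Agent.DivPow.SymGraded

variable {A B : Type u} [CommRing A] [CommRing B] [Algebra A B] (𝒜 : ℕ → Submodule A B)
  [GradedAlgebra 𝒜] (d : ℕ)

/-- The pure tensors with all factors of one degree. -/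
def pure : Set (⨂[A] _ : Fin d, B) :=
  {t | ∃ (k : ℕ) (b : Fin d → B), (∀ i, b i ∈ 𝒜 k) ∧ t = PiTensorProduct.tprod A b}

/-- The subalgebra of the tensor power generated by the pure tensors of one degree. -/
noncomputable def GC : Subalgebra A (⨂[A] _ : Fin d, B) := Algebra.adjoin A (pure 𝒜 d)

theorem tprod_mem {k : ℕ} {b : Fin d → B} (hb : ∀ i, b i ∈ 𝒜 k) :
    PiTensorProduct.tprod A b ∈ GC 𝒜 d :=
  Algebra.subset_adjoin ⟨k, b, hb, rfl⟩

theorem perm_mem (σ : Equiv.Perm (Fin d)) {x : ⨂[A] _ : Fin d, B} (hx : x ∈ GC 𝒜 d) :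
    SymTen.perm A B d σ x ∈ GC 𝒜 d := by
  have h : (GC 𝒜 d).map (SymTen.perm A B d σ) ≤ GC 𝒜 d := by
    rw [GC, AlgHom.map_adjoin, Algebra.adjoin_le_iff]
    rintro _ ⟨_, ⟨k, b, hb, rfl⟩, rfl⟩
    rw [SymTen.perm_tprod]
    exact tprod_mem 𝒜 d fun i => hb _
  exact h ⟨x, hx, rfl⟩

theorem perm_one (x : ⨂[A] _ : Fin d, B) : SymTen.perm A B d 1 x = x := by
  induction x using PiTensorProduct.induction_on with
  | smul_tprod r f => simp [Equiv.Perm.one_def]
  | add x y hx hy => simp [hx, hy]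

theorem perm_mul (σ τ : Equiv.Perm (Fin d)) (x : ⨂[A] _ : Fin d, B) :
    SymTen.perm A B d (σ * τ) x = SymTen.perm A B d σ (SymTen.perm A B d τ x) := by
  induction x using PiTensorProduct.induction_on with
  | smul_tprod r f =>
    simp [Equiv.Perm.mul_def]
  | add x y hx hy => simp [hx, hy]

noncomputable instance : MulSemiringAction (Equiv.Perm (Fin d)) (GC 𝒜 d) where
  smul σ x := ⟨SymTen.perm A B d σ x, perm_mem 𝒜 d σ x.2⟩
  one_smul x := Subtype.ext (perm_one d _)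
  mul_smul σ τ x := Subtype.ext (perm_mul d σ τ _)
  smul_zero σ := Subtype.ext (map_zero (SymTen.perm A B d σ))
  smul_add σ x y := Subtype.ext (map_add (SymTen.perm A B d σ) _ _)
  smul_one σ := Subtype.ext (map_one (SymTen.perm A B d σ))
  smul_mul σ x y := Subtype.ext (map_mul (SymTen.perm A B d σ) _ _)

theorem coe_smul (σ : Equiv.Perm (Fin d)) (x : GC 𝒜 d) :
    ((σ • x : GC 𝒜 d) : ⨂[A] _ : Fin d, B) = SymTen.perm A B d σ x := rfl

/-- Multilinear induction: pure tensors with entries in spans. -/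
theorem tprod_mem_of_span (S : Fin d → Set B) (N : Submodule A (⨂[A] _ : Fin d, B))
    (h : ∀ b : Fin d → B, (∀ i, b i ∈ S i) → PiTensorProduct.tprod A b ∈ N) {b : Fin d → B}
    (hb : ∀ i, b i ∈ Submodule.span A (S i)) : PiTensorProduct.tprod A b ∈ N := by
  classical
  have key : ∀ (s : Finset (Fin d)) (b : Fin d → B), (∀ i, b i ∈ Submodule.span A (S i)) →
      (∀ i ∉ s, b i ∈ S i) → PiTensorProduct.tprod A b ∈ N := by
    intro s
    induction s using Finset.induction_on with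
    | empty => exact fun b _ hb' => h b fun i => hb' i (Finset.notMem_empty i)
    | @insert a s ha ih =>
      intro b hb hb'
      suffices ∀ x ∈ Submodule.span A (S a),
          PiTensorProduct.tprod A (Function.update b a x) ∈ N by
        simpa using this _ (hb a)
      intro x hx
      induction hx using Submodule.span_induction with
      | zero => simp
      | add x y _ _ hx hy => rw [MultilinearMap.map_update_add]; exact add_mem hx hy
      | smul c x _ hx => rw [MultilinearMap.map_update_smul]; exact N.smul_mem c hx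
      | mem x hx =>
        refine ih _ (fun i => ?_) (fun i hi => ?_)
        · rcases eq_or_ne i a with rfl | hia
          · rw [Function.update_self]; exact Submodule.subset_span hx
          · rw [Function.update_of_ne hia]; exact hb i
        · rcases eq_or_ne i a with rfl | hia
          · rwa [Function.update_self]
          · rw [Function.update_of_ne hia]; exact hb' i (by simp [hi, hia])
  exact key Finset.univ b hb fun i hi => absurd (Finset.mem_univ i) hi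

variable {s : ℕ} (g : Fin s → B)

theorem adjoin_range_eq_top (hgen : Algebra.adjoin A (𝒜 1 : Set B) = ⊤)
    (hg : Submodule.span A (Set.range g) = 𝒜 1) : Algebra.adjoin A (Set.range g) = ⊤ := by
  refine eq_top_iff.mpr (hgen.ge.trans (Algebra.adjoin_le ?_))
  rw [← hg]
  exact Algebra.span_le_adjoin A _

theorem piece_succ_le (hgen : Algebra.adjoin A (𝒜 1 : Set B) = ⊤)
    (hg : Submodule.span A (Set.range g) = 𝒜 1) (j : ℕ) {x : B} (hx : x ∈ 𝒜 (j + 1)) :
    x ∈ Submodule.span A {z : B | ∃ u ∈ 𝒜 j, ∃ v ∈ 𝒜 1, z = u * v} := by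
  have hg1 : ∀ i, g i ∈ 𝒜 1 := fun i => hg ▸ Submodule.subset_span ⟨i, rfl⟩
  refine Submodule.span_le.mpr ?_
    (ZeroCycGen.mem_span_monomials 𝒜 g (fun _ => 1) hg1 (adjoin_range_eq_top 𝒜 g hgen hg) hx)
  rintro _ ⟨e, he, rfl⟩
  simp only [mul_one] at he
  obtain ⟨i, -, hi⟩ : ∃ i ∈ Finset.univ, e i ≠ 0 := by
    by_contra hz
    push_neg at hz
    rw [Finset.sum_eq_zero hz] at he
    omega
  refine Submodule.subset_span ⟨(∏ l, g l ^ Function.update e i (e i - 1) l), ?_, g i, hg1 i, ?_⟩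
  · have hw : ∑ l, Function.update e i (e i - 1) l = j := by
      rw [Finset.sum_update_of_mem (Finset.mem_univ i)]
      rw [← Finset.add_sum_erase _ _ (Finset.mem_univ i), Finset.erase_eq] at he
      omega
    rw [← hw]
    exact SetLike.prod_mem_graded 𝒜 _ _ fun l _ => by simpa using SetLike.pow_mem_graded _ (hg1 l)
  · rw [← Finset.mul_prod_erase _ (fun l => g l ^ e l) (Finset.mem_univ i),
      ← Finset.mul_prod_erase _ (fun l => g l ^ Function.update e i (e i - 1) l) (Finset.mem_univ i),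
      Function.update_self, mul_right_comm, ← pow_succ, show e i - 1 + 1 = e i by omega]
    congr 1
    exact Finset.prod_congr rfl fun l hl => by rw [Function.update_of_ne (Finset.mem_erase.mp hl).1]

/-- A map that is nonzero in positive degree is nonzero in degree one. -/
theorem exists_degOne_ne_zero (hgen : Algebra.adjoin A (𝒜 1 : Set B) = ⊤)
    (hg : Submodule.span A (Set.range g) = 𝒜 1) {K : Type u} [Field K] [Algebra A K]
    (φ : GC 𝒜 d →ₐ[A] K) {k : ℕ} (hk : 0 < k) {t : GC 𝒜 d}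
    (htk : (t : ⨂[A] _ : Fin d, B) ∈ Submodule.span A
      {s | ∃ b : Fin d → B, (∀ i, b i ∈ 𝒜 k) ∧ s = PiTensorProduct.tprod A b})
    (ht : φ t ≠ 0) :
    ∃ (b : Fin d → B) (hb : ∀ i, b i ∈ 𝒜 1), φ ⟨PiTensorProduct.tprod A b, tprod_mem 𝒜 d hb⟩ ≠ 0 := by
  by_contra hz
  push_neg at hz
  obtain ⟨j, rfl⟩ : ∃ j, k = j + 1 := ⟨k - 1, by omega⟩
  let N : Submodule A (⨂[A] _ : Fin d, B) :=
    (LinearMap.ker φ.toLinearMap).map (GC 𝒜 d).val.toLinearMap
  have hN : ∀ {z : GC 𝒜 d}, (z : ⨂[A] _ : Fin d, B) ∈ N → φ z = 0 := by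
    rintro z ⟨w, hw, hwz⟩
    rw [show z = w from Subtype.ext hwz.symm]
    exact hw
  refine ht (hN (Submodule.span_le.mpr ?_ htk))
  rintro _ ⟨b, hb, rfl⟩
  refine tprod_mem_of_span d _ N (fun b' hb' => ?_) (fun i => piece_succ_le 𝒜 g hgen hg j (hb i))
  choose u hu v hv huv using hb'
  refine ⟨⟨_, tprod_mem 𝒜 d hu⟩ * ⟨_, tprod_mem 𝒜 d hv⟩, ?_, ?_⟩
  · show φ _ = 0
    rw [map_mul, hz v hv, mul_zero]
  · show PiTensorProduct.tprod A u * PiTensorProduct.tprod A v = _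
    rw [PiTensorProduct.tprod_mul_tprod]
    exact congrArg _ (funext fun i => (huv i).symm)

section Point

variable {K : Type u} [Field K] [Algebra A K] (φ : GC 𝒜 d →ₐ[A] K) (g0 : Fin d → B)
  (h0 : ∀ i, g0 i ∈ 𝒜 1)

include h0 in
theorem update_mem {n : ℕ} (i : Fin d) {b : B} (hb : b ∈ 𝒜 n) :
    ∀ l, Function.update (fun l => g0 l ^ n) i b l ∈ 𝒜 n := by
  classical
  intro l
  rcases eq_or_ne l i with rfl | h
  · rwa [Function.update_self]
  · rw [Function.update_of_ne h]; simpa using SetLike.pow_mem_graded n (h0 l)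

/-- The `i`-th coordinate of a point, in degree `n`. -/
noncomputable def coord (n : ℕ) (i : Fin d) : 𝒜 n →ₗ[A] K :=
  φ.toLinearMap ∘ₗ LinearMap.codRestrict (GC 𝒜 d).toSubmodule
    (((PiTensorProduct.tprod A).toLinearMap (fun l => g0 l ^ n) i).comp (𝒜 n).subtype)
    (fun b => by classical exact tprod_mem 𝒜 d (update_mem 𝒜 d g0 h0 i b.2))

theorem coord_apply (n : ℕ) (i : Fin d) (b : 𝒜 n) : coord 𝒜 d φ g0 h0 n i b =
    φ ⟨PiTensorProduct.tprod A (Function.update (fun l => g0 l ^ n) i (b : B)),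
      tprod_mem 𝒜 d (update_mem 𝒜 d g0 h0 i b.2)⟩ := rfl

/-- The coordinate as a function on the whole algebra. -/
noncomputable def ev (n : ℕ) (i : Fin d) (b : B) : K :=
  haveI := Classical.propDecidable (b ∈ 𝒜 n)
  if h : b ∈ 𝒜 n then coord 𝒜 d φ g0 h0 n i ⟨b, h⟩ else 0

theorem ev_eq {n : ℕ} (i : Fin d) {b : B} (h : b ∈ 𝒜 n) :
    ev 𝒜 d φ g0 h0 n i b = coord 𝒜 d φ g0 h0 n i ⟨b, h⟩ := dif_pos h

theorem ev_add {n : ℕ} (i : Fin d) {a b : B} (ha : a ∈ 𝒜 n) (hb : b ∈ 𝒜 n) :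
    ev 𝒜 d φ g0 h0 n i (a + b) = ev 𝒜 d φ g0 h0 n i a + ev 𝒜 d φ g0 h0 n i b := by
  rw [ev_eq _ _ _ _ _ _ (add_mem ha hb), ev_eq _ _ _ _ _ _ ha, ev_eq _ _ _ _ _ _ hb, ← map_add]
  rfl

theorem ev_mul {n m : ℕ} (i : Fin d) {a b : B} (ha : a ∈ 𝒜 n) (hb : b ∈ 𝒜 m) :
    ev 𝒜 d φ g0 h0 (n + m) i (a * b) = ev 𝒜 d φ g0 h0 n i a * ev 𝒜 d φ g0 h0 m i b := by
  classical
  rw [ev_eq _ _ _ _ _ _ (SetLike.GradedMul.mul_mem ha hb), ev_eq _ _ _ _ _ _ ha,
    ev_eq _ _ _ _ _ _ hb, coord_apply, coord_apply, coord_apply, ← map_mul]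
  congr 1
  refine Subtype.ext ?_
  show _ = PiTensorProduct.tprod A _ * PiTensorProduct.tprod A _
  rw [PiTensorProduct.tprod_mul_tprod]
  refine congrArg (PiTensorProduct.tprod A) (funext fun l => ?_)
  rcases eq_or_ne l i with rfl | h
  · simp
  · simp [Function.update_of_ne h, pow_add]

theorem ev_pow {n : ℕ} (i : Fin d) {a : B} (ha : a ∈ 𝒜 n) :
    ∀ m : ℕ, ev 𝒜 d φ g0 h0 (m * n) i (a ^ m) = ev 𝒜 d φ g0 h0 n i a ^ m := by
  classical
  intro m
  induction m with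
  | zero =>
    have h1 : (1 : B) ∈ 𝒜 (0 * n) := by rw [zero_mul]; exact SetLike.GradedOne.one_mem
    rw [pow_zero, pow_zero, ev_eq _ _ _ _ _ _ h1, coord_apply]
    refine (congrArg φ (Subtype.ext ?_)).trans (map_one φ)
    show PiTensorProduct.tprod A _ = 1
    rw [PiTensorProduct.one_def]
    refine congrArg (PiTensorProduct.tprod A) (funext fun l => ?_)
    rcases eq_or_ne l i with rfl | h
    · simp
    · simp [Function.update_of_ne h]
  | succ m ih =>
    rw [pow_succ, pow_succ, add_mul, one_mul, ev_mul 𝒜 d φ g0 h0 i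
      (by simpa using SetLike.pow_mem_graded m ha) ha, ih]

/-- The base pure tensor. -/
noncomputable def base : GC 𝒜 d := ⟨PiTensorProduct.tprod A g0, tprod_mem 𝒜 d h0⟩

theorem ev_base (i : Fin d) : ev 𝒜 d φ g0 h0 1 i (g0 i) = φ (base 𝒜 d g0 h0) := by
  classical
  rw [ev_eq _ _ _ _ _ _ (h0 i), coord_apply]
  refine congrArg φ (Subtype.ext (congrArg (PiTensorProduct.tprod A) (funext fun l => ?_)))
  rcases eq_or_ne l i with rfl | h
  · simp
  · simp [Function.update_of_ne h]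

theorem prod_ev {n : ℕ} {b : Fin d → B} (hb : ∀ i, b i ∈ 𝒜 n) :
    ∏ i, ev 𝒜 d φ g0 h0 n i (b i) =
      φ ⟨PiTensorProduct.tprod A b, tprod_mem 𝒜 d hb⟩ * φ (base 𝒜 d g0 h0) ^ (n * (d - 1)) := by
  classical
  rw [← map_pow, ← map_mul, Finset.prod_congr rfl fun i _ => by
    rw [ev_eq _ _ _ _ _ _ (hb i), coord_apply], ← map_prod]
  congr 1
  refine Subtype.ext ?_
  rw [SubmonoidClass.coe_finsetProd, Subalgebra.coe_mul, Subalgebra.coe_pow]
  rw [← PiTensorProduct.tprod_prod]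
  show _ = PiTensorProduct.tprod A b * (PiTensorProduct.tprod A g0) ^ (n * (d - 1))
  rw [← Fin.prod_const, ← PiTensorProduct.tprod_prod, PiTensorProduct.tprod_mul_tprod]
  refine congrArg (PiTensorProduct.tprod A) (funext fun l => ?_)
  rw [Pi.mul_apply, Finset.prod_apply, Finset.prod_apply,
    ← Finset.mul_prod_erase _ _ (Finset.mem_univ l), Function.update_self,
    Finset.prod_congr rfl (g := fun _ => g0 l ^ n) (fun i hi =>
      Function.update_of_ne (Finset.mem_erase.mp hi).1.symm _ _),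
    Finset.prod_const, Finset.prod_const, Finset.card_erase_of_mem (Finset.mem_univ l),
    Finset.card_univ, Fintype.card_fin, Finset.card_univ, Fintype.card_fin, ← pow_mul]

variable (hφ : φ (base 𝒜 d g0 h0) ≠ 0)

include hφ in
theorem phi_diag_ne_zero {n : ℕ} {f : B} (hf : f ∈ 𝒜 n) (hne : ∀ i, ev 𝒜 d φ g0 h0 n i f ≠ 0) :
    φ ⟨PiTensorProduct.tprod A (fun _ : Fin d => f), tprod_mem 𝒜 d fun _ => hf⟩ ≠ 0 := by
  intro h
  have h1 := prod_ev 𝒜 d φ g0 h0 (b := fun _ : Fin d => f) fun _ => hf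
  rw [h, zero_mul] at h1
  exact Finset.prod_ne_zero_iff.mpr (fun i _ => hne i) h1

include hφ in
/-- Avoiding the hyperplanes in degree one, given enough scalars. -/
theorem exists_avoid_one (hres : ∀ p : PrimeSpectrum A, (d : Cardinal) ≤ Cardinal.mk p.asIdeal.ResidueField) :
    ∃ f ∈ 𝒜 1, ∀ i, ev 𝒜 d φ g0 h0 1 i f ≠ 0 := by
  classical
  haveI : (RingHom.ker (algebraMap A K)).IsPrime := RingHom.ker_isPrime _
  obtain ⟨f, hf⟩ := ZeroCycGen.exists_forall_notMem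
    (fun i : Fin d => LinearMap.ker (coord 𝒜 d φ g0 h0 1 i)) (RingHom.ker (algebraMap A K))
    (fun i r m hr hm => by
      rw [LinearMap.mem_ker, map_smul, Algebra.smul_def, mul_eq_zero] at hm
      exact hm.resolve_left hr)
    (fun i h => hφ (by
      rw [← ev_base 𝒜 d φ g0 h0 i, ev_eq _ _ _ _ _ _ (h0 i)]
      exact LinearMap.congr_fun (LinearMap.ker_eq_top.mp h) _))
    Finset.univ (by simpa using hres ⟨_, inferInstance⟩)
  exact ⟨f, f.2, fun i => by
    rw [ev_eq _ _ _ _ _ _ f.2]; exact hf i (Finset.mem_univ i)⟩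

include hφ in
/-- Homogeneous prime avoidance. -/
theorem exists_avoid (s : Finset (Fin d)) :
    ∃ n f, 0 < n ∧ f ∈ 𝒜 n ∧ ∀ i ∈ s, ev 𝒜 d φ g0 h0 n i f ≠ 0 := by
  classical
  induction s using Finset.strongInduction with
  | _ s ih =>
    rcases s.eq_empty_or_nonempty with rfl | hs
    · exact ⟨1, 0, one_pos, zero_mem _, by simp⟩
    let Z : Fin d → Set (ℕ × B) :=
      fun i => {x | x.2 ∈ 𝒜 x.1 ∧ ev 𝒜 d φ g0 h0 x.1 i x.2 = 0}
    obtain ⟨i, his, hmin⟩ := s.exists_minimalFor Z hs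
    obtain ⟨n, f, hn, hf, hfs⟩ := ih (s.erase i) (Finset.erase_ssubset his)
    by_cases hfi : ev 𝒜 d φ g0 h0 n i f = 0
    swap
    · exact ⟨n, f, hn, hf, fun j hj => by
        rcases eq_or_ne j i with rfl | h
        · exact hfi
        · exact hfs j (Finset.mem_erase.mpr ⟨h, hj⟩)⟩
    have hex : ∀ j ∈ s.erase i, ∃ x : ℕ × B, x.2 ∈ 𝒜 x.1 ∧ ev 𝒜 d φ g0 h0 x.1 j x.2 = 0 ∧
        ev 𝒜 d φ g0 h0 x.1 i x.2 ≠ 0 := by
      intro j hj
      by_contra hcon
      push_neg at hcon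
      have hle : Z j ≤ Z i := fun x hx => ⟨hx.1, hcon x hx.1 hx.2⟩
      exact hfs j hj (hmin (Finset.mem_of_mem_erase hj) hle (show (n, f) ∈ Z i from ⟨hf, hfi⟩)).2
    choose x hx1 hx2 hx3 using hex
    have hprod : ∀ t : Finset {j // j ∈ s.erase i}, ∃ m gg, 0 < m ∧ gg ∈ 𝒜 m ∧
        ev 𝒜 d φ g0 h0 m i gg ≠ 0 ∧ ∀ j ∈ t, ev 𝒜 d φ g0 h0 m j.1 gg = 0 := by
      intro t
      induction t using Finset.induction_on with
      | empty => exact ⟨1, g0 i, one_pos, h0 i, by rw [ev_base]; exact hφ, by simp⟩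
      | @insert j t hjt iht =>
        obtain ⟨m, gg, hm, hgg, hgi, hgt⟩ := iht
        refine ⟨m + (x j.1 j.2).1, gg * (x j.1 j.2).2, by omega,
          SetLike.GradedMul.mul_mem hgg (hx1 _ _), ?_, ?_⟩
        · rw [ev_mul 𝒜 d φ g0 h0 i hgg (hx1 _ _)]
          exact mul_ne_zero hgi (hx3 _ _)
        · intro l hl
          rw [ev_mul 𝒜 d φ g0 h0 l.1 hgg (hx1 _ _)]
          rcases Finset.mem_insert.mp hl with rfl | hl
          · rw [hx2, mul_zero]
          · rw [hgt l hl, zero_mul]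
    obtain ⟨m, gg, hm, hgg, hgi, hgt⟩ := hprod Finset.univ
    have h1 : f ^ m ∈ 𝒜 (m * n) := by simpa using SetLike.pow_mem_graded m hf
    have h2 : gg ^ n ∈ 𝒜 (m * n) := by rw [mul_comm]; simpa using SetLike.pow_mem_graded n hgg
    refine ⟨m * n, f ^ m + gg ^ n, Nat.mul_pos hm hn, add_mem h1 h2, fun j hj => ?_⟩
    rw [ev_add 𝒜 d φ g0 h0 j h1 h2, ev_pow 𝒜 d φ g0 h0 j hf, mul_comm m n,
      ev_pow 𝒜 d φ g0 h0 j hgg]
    rcases eq_or_ne j i with rfl | h
    · rw [hfi, zero_pow hm.ne', zero_add]; exact pow_ne_zero _ hgi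
    · rw [hgt ⟨j, Finset.mem_erase.mpr ⟨h, hj⟩⟩ (Finset.mem_univ _), zero_pow hn.ne', add_zero]
      exact pow_ne_zero _ (hfs j (Finset.mem_erase.mpr ⟨h, hj⟩))

/-- An orbit sum of pure tensors. -/
noncomputable def orbit (α : Fin s →₀ ℕ) : ⨂[A] _ : Fin d, B :=
  ∑ p ∈ Finset.univ.filter (fun p : Fin d → Fin s => ms p = α), PiTensorProduct.tprod A (g ∘ p)

include hφ in
/-- Some orbit sum of degree one does not vanish at the point. -/
theorem exists_orbit (hg : Submodule.span A (Set.range g) = 𝒜 1) :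
    ∃ α, ∃ h : orbit d g α ∈ GC 𝒜 d, φ ⟨orbit d g α, h⟩ ≠ 0 := by
  classical
  have hg1 : ∀ i, g i ∈ 𝒜 1 := fun i => hg ▸ Submodule.subset_span ⟨i, rfl⟩
  have hmem : ∀ α, orbit d g α ∈ GC 𝒜 d := fun α =>
    sum_mem fun p _ => tprod_mem 𝒜 d fun i => hg1 (p i)
  by_contra hz
  push_neg at hz
  let F : Fin d → MvPolynomial (Fin s) K := fun i =>
    ∑ j, MvPolynomial.C (ev 𝒜 d φ g0 h0 1 i (g j)) * MvPolynomial.X j
  have hF : ∀ i, F i ≠ 0 := by
    intro i hi
    apply hφ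
    rw [← ev_base 𝒜 d φ g0 h0 i, ev_eq _ _ _ _ _ _ (h0 i)]
    have hj : ∀ j, ev 𝒜 d φ g0 h0 1 i (g j) = 0 := by
      intro j
      have := congrArg (fun P => MvPolynomial.coeff (Finsupp.single j 1) P) hi
      simpa [F, MvPolynomial.coeff_sum, MvPolynomial.coeff_C_mul, MvPolynomial.coeff_X,
        Finsupp.single_left_inj] using this
    have hle : 𝒜 1 ≤ (LinearMap.ker (coord 𝒜 d φ g0 h0 1 i)).map (𝒜 1).subtype := by
      refine hg.ge.trans (Submodule.span_le.mpr ?_)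
      rintro _ ⟨j, rfl⟩
      exact ⟨⟨g j, hg ▸ Submodule.subset_span ⟨j, rfl⟩⟩, by
        have := hj j; rwa [ev_eq _ _ _ _ _ _ (hg1 j)] at this, rfl⟩
    obtain ⟨z, hz, hzz⟩ := hle (h0 i)
    rw [show (⟨g0 i, h0 i⟩ : 𝒜 1) = z from Subtype.ext hzz.symm]
    exact hz
  refine Finset.prod_ne_zero_iff.mpr (fun i (_ : i ∈ Finset.univ) => hF i) ?_
  have hpX : ∀ p : Fin d → Fin s,
      (∏ i, MvPolynomial.X (p i) : MvPolynomial (Fin s) K) = MvPolynomial.monomial (ms p) 1 :=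
    fun p => by rw [ms, MvPolynomial.monomial_sum_one]; rfl
  simp only [F, Fintype.prod_sum, Finset.prod_mul_distrib, ← map_prod, hpX,
    MvPolynomial.C_mul_monomial, mul_one]
  refine MvPolynomial.ext _ _ fun α => ?_
  rw [MvPolynomial.coeff_sum, MvPolynomial.coeff_zero]
  simp only [MvPolynomial.coeff_monomial]
  rw [← Finset.sum_filter, Finset.sum_congr rfl fun p _ =>
    prod_ev 𝒜 d φ g0 h0 (b := fun i => g (p i)) fun i => hg1 (p i), ← Finset.sum_mul, ← map_sum]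
  rw [show (∑ p ∈ Finset.univ.filter (fun p : Fin d → Fin s => ms p = α), (⟨PiTensorProduct.tprod A (fun i => g (p i)), tprod_mem 𝒜 d fun i => hg1 (p i)⟩ : GC 𝒜 d)) =
    (⟨orbit d g α, hmem α⟩ : GC 𝒜 d) from Subtype.ext (by
      rw [AddSubmonoidClass.coe_finsetSum]; rfl), hz α (hmem α), zero_mul]

end Point

theorem orbit_mem_TS (α : Fin s →₀ ℕ) : orbit (A := A) d g α ∈ SymTen.TS A B d := by
  classical
  intro σ
  rw [← SymTen.perm_apply, orbit, map_sum]
  refine Finset.sum_equiv (σ.arrowCongr (Equiv.refl _)) (fun p => ?_) (fun p _ => ?_)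
  · simp only [Finset.mem_filter, Finset.mem_univ, true_and]
    rw [show (σ.arrowCongr (Equiv.refl _)) p = p ∘ σ.symm from rfl, ms_comp]
  · rw [SymTen.perm_tprod]
    rfl

/-- The criterion: a set meeting every point generates an ideal with full radical. -/
theorem pow_mem (hgen : Algebra.adjoin A (𝒜 1 : Set B) = ⊤)
    (hg : Submodule.span A (Set.range g) = 𝒜 1) (D : Subalgebra A (⨂[A] _ : Fin d, B))
    (hD : D = GC 𝒜 d ⊓ SymTen.TS A B d) (k : ℕ) (hk : 0 < k) (t : ⨂[A] _ : Fin d, B) (htD : t ∈ D)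
    (htk : t ∈ Submodule.span A
      {s | ∃ b : Fin d → B, (∀ i, b i ∈ 𝒜 k) ∧ s = PiTensorProduct.tprod A b})
    (X : Set D) (h : ∀ (K : Type u) [Field K] [Algebra A K] (φ : GC 𝒜 d →ₐ[A] K) (g0 : Fin d → B)
      (h0 : ∀ i, g0 i ∈ 𝒜 1), φ (base 𝒜 d g0 h0) ≠ 0 →
      ∃ x ∈ X, ∃ hx : (x : ⨂[A] _ : Fin d, B) ∈ GC 𝒜 d, φ ⟨x, hx⟩ ≠ 0) :
    ∃ m : ℕ, 0 < m ∧ (⟨t, htD⟩ : D) ^ m ∈ Ideal.span X := by
  classical
  suffices hr : (⟨t, htD⟩ : D) ∈ (Ideal.span X).radical by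
    obtain ⟨m, hm⟩ := Ideal.mem_radical_iff.mp hr
    exact ⟨m + 1, m.succ_pos, by rw [pow_succ]; exact Ideal.mul_mem_right _ _ hm⟩
  rw [Ideal.radical_eq_sInf, Ideal.mem_sInf]
  rintro P ⟨hP, hPp⟩
  have hle : D ≤ GC 𝒜 d := hD ▸ inf_le_left
  letI : Algebra D (GC 𝒜 d) := (Subalgebra.inclusion hle).toRingHom.toAlgebra
  haveI : Algebra.IsInvariant D (GC 𝒜 d) (Equiv.Perm (Fin d)) := ⟨fun b hb => by
    refine ⟨⟨b, ?_⟩, rfl⟩
    rw [hD]
    refine ⟨b.2, fun σ => ?_⟩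
    rw [← SymTen.perm_apply, ← coe_smul, hb σ]⟩
  haveI : Algebra.IsIntegral D (GC 𝒜 d) :=
    Algebra.IsInvariant.isIntegral D (GC 𝒜 d) (Equiv.Perm (Fin d))
  obtain ⟨Q, -, hQ, hQP⟩ := Ideal.exists_ideal_over_prime_of_isIntegral
    (S := GC 𝒜 d) P ⊥ (fun a ha => by
      have h1 : algebraMap D (GC 𝒜 d) a = 0 := Ideal.mem_bot.mp (Ideal.mem_comap.mp ha)
      have h2 := congrArg Subtype.val h1
      have : a = 0 := Subtype.ext h2
      rw [this]; exact zero_mem _)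
  by_contra ht
  let φ : GC 𝒜 d →ₐ[A] FractionRing (GC 𝒜 d ⧸ Q) :=
    (IsScalarTower.toAlgHom A (GC 𝒜 d ⧸ Q) _).comp (Ideal.Quotient.mkₐ A Q)
  have hφ : ∀ z, φ z = 0 → z ∈ Q := fun z hz => Ideal.Quotient.eq_zero_iff_mem.mp
    ((IsFractionRing.injective (GC 𝒜 d ⧸ Q) (FractionRing (GC 𝒜 d ⧸ Q))) (hz.trans (map_zero _).symm))
  obtain ⟨g0, h0, hne⟩ := exists_degOne_ne_zero 𝒜 d g hgen hg φ hk (t := ⟨t, hle htD⟩) htk
    (fun hz => ht (hQP ▸ Ideal.mem_comap.mpr (hφ _ hz)))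
  obtain ⟨x, hxX, hx, hxne⟩ := h _ φ g0 h0 hne
  refine hxne ?_
  have hxQ : (⟨x, hx⟩ : GC 𝒜 d) ∈ Q := by
    have := hP (Ideal.subset_span hxX)
    rw [← hQP] at this
    exact this
  show algebraMap _ _ (Ideal.Quotient.mk Q _) = 0
  rw [Ideal.Quotient.eq_zero_iff_mem.mpr hxQ, map_zero]

end Groth.Agent.DivPow.SymGraded
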