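import Groth.Agent.DivPow.Gamma
import Groth.Agent.DivPow.SymGraded

/-!
# Points of the divided powers of a finite field extension
-/

set_option autoImplicit false
set_option linter.unusedSectionVars false
universe u

open scoped TensorProduct

namespace Groth.Agent.DivPow.FieldPoints

/-- Two families with equal multisets of values differ by a permutation. -/
theorem exists_perm_eq {d : ℕ} {X : Type*} (s s' : Fin d → X)
    (h : (Finset.univ : Finset (Fin d)).val.map s = Finset.univ.val.map s') :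
    ∃ σ : Equiv.Perm (Fin d), s' = s ∘ σ := by
  classical
  have hc : ∀ y : X, Fintype.card {i // s' i = y} = Fintype.card {i // s i = y} := by
    intro y
    have h1 : ∀ g : Fin d → X, Fintype.card {i // g i = y} =
        (Finset.univ.val.map g).count y := by
      intro g
      rw [Fintype.card_subtype, Multiset.count_map, Finset.card, Finset.filter_val]
      exact congrArg _ (Multiset.filter_congr fun _ _ => eq_comm)
    rw [h1, h1, h]
  refine ⟨Equiv.ofFiberEquiv (f := s') (g := s) fun y => Fintype.equivOfCardEq (hc y),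
    funext fun i => ?_⟩
  exact (Equiv.ofFiberEquiv_map _ i).symm

variable {k K : Type u} [Field k] [Field K] [Algebra k K] {d : ℕ}

local notation "Ω" => AlgebraicClosure k

/-- Evaluation of the tensor power at a tuple of embeddings. -/
noncomputable def evalT (s : Fin d → (K →ₐ[k] Ω)) : (⨂[k] _ : Fin d, K) →ₐ[k] Ω :=
  PiTensorProduct.liftAlgHom
    ((MultilinearMap.mkPiAlgebra k (Fin d) Ω).compLinearMap fun i => (s i).toLinearMap)
    (by simp) (fun x y => by simp [Finset.prod_mul_distrib])

theorem evalT_tprod (s : Fin d → (K →ₐ[k] Ω)) (b : Fin d → K) :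
    evalT s (PiTensorProduct.tprod k b) = ∏ i, s i (b i) := by
  simp [evalT]

theorem evalT_single (s : Fin d → (K →ₐ[k] Ω)) (i : Fin d) (x : K) :
    evalT s (PiTensorProduct.singleAlgHom (A := fun _ : Fin d => K) i x) = s i x := by
  classical
  rw [PiTensorProduct.singleAlgHom_apply, evalT_tprod,
    Finset.prod_eq_single i (fun j _ h => by simp [MonoidHom.mulSingle_apply, h]) (by simp)]
  simp [MonoidHom.mulSingle_apply]

theorem algHom_ext_single {S : Type u} [CommRing S] [Algebra k S]
    {f g : (⨂[k] _ : Fin d, K) →ₐ[k] S}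
    (h : ∀ i x, f (PiTensorProduct.singleAlgHom (A := fun _ : Fin d => K) i x) =
      g (PiTensorProduct.singleAlgHom (A := fun _ : Fin d => K) i x)) : f = g := by
  classical
  refine AlgHom.ext fun t => ?_
  induction t using PiTensorProduct.induction_on with
  | smul_tprod r b =>
    rw [map_smul, map_smul]
    congr 1
    rw [← Finset.univ_prod_mulSingle b, PiTensorProduct.tprod_prod, map_prod, map_prod]
    refine Finset.prod_congr rfl fun i _ => ?_
    simpa [PiTensorProduct.singleAlgHom_apply, MonoidHom.mulSingle_apply] using h i (b i)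
  | add x y hx hy => rw [map_add, map_add, hx, hy]

theorem evalT_perm (s : Fin d → (K →ₐ[k] Ω)) (σ : Equiv.Perm (Fin d)) (t : ⨂[k] _ : Fin d, K) :
    evalT s (SymTen.perm k K d σ t) = evalT (s ∘ σ) t := by
  induction t using PiTensorProduct.induction_on with
  | smul_tprod r b =>
    rw [map_smul, map_smul, map_smul, SymTen.perm_tprod, evalT_tprod, evalT_tprod]
    congr 1
    exact (Fintype.prod_equiv σ _ _ fun i => by simp).symm
  | add x y hx hy => rw [map_add, map_add, map_add, hx, hy]

/-- The permutation action on the tensor power. -/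
noncomputable local instance permAction :
    MulSemiringAction (Equiv.Perm (Fin d)) (⨂[k] _ : Fin d, K) where
  smul σ x := SymTen.perm k K d σ x
  one_smul x := SymGraded.perm_one d x
  mul_smul σ τ x := SymGraded.perm_mul d σ τ x
  smul_zero σ := map_zero (SymTen.perm k K d σ)
  smul_add σ x y := map_add (SymTen.perm k K d σ) x y
  smul_one σ := map_one (SymTen.perm k K d σ)
  smul_mul σ x y := map_mul (SymTen.perm k K d σ) x y

theorem exists_ext [FiniteDimensional k K] (φ : SymTen.TS k K d →ₐ[k] k) :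
    ∃ s : Fin d → (K →ₐ[k] Ω), ∀ t : SymTen.TS k K d,
      evalT s (t : ⨂[k] _ : Fin d, K) = algebraMap k Ω (φ t) := by
  haveI : Module.Finite k (⨂[k] _ : Fin d, K) :=
    Module.Finite.of_basis (Basis.piTensorProduct fun _ : Fin d => Module.finBasis k K)
  haveI : Algebra.IsInvariant (SymTen.TS k K d) (⨂[k] _ : Fin d, K) (Equiv.Perm (Fin d)) :=
    ⟨fun b hb => ⟨⟨b, fun σ => by rw [← SymTen.perm_apply]; exact hb σ⟩, rfl⟩⟩
  haveI : Algebra.IsIntegral (SymTen.TS k K d) (⨂[k] _ : Fin d, K) :=
    Algebra.IsInvariant.isIntegral (SymTen.TS k K d) _ (Equiv.Perm (Fin d))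
  haveI : (RingHom.ker φ).IsPrime := RingHom.ker_isPrime φ
  obtain ⟨Q, -, hQ, hQP⟩ := Ideal.exists_ideal_over_prime_of_isIntegral
    (S := ⨂[k] _ : Fin d, K) (RingHom.ker φ) ⊥ (fun a ha => by
      have h1 := Ideal.mem_bot.mp (Ideal.mem_comap.mp ha)
      have : a = 0 := Subtype.ext h1
      rw [this]; exact zero_mem _)
  let L := (⨂[k] _ : Fin d, K) ⧸ Q
  haveI : Module.Finite k L :=
    Module.Finite.of_surjective (Ideal.Quotient.mkₐ k Q).toLinearMap Ideal.Quotient.mk_surjective
  have hL : IsField L := (Algebra.IsIntegral.isField_iff_isField (R := k) (S := L)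
    (algebraMap k L).injective).mp (Field.toIsField k)
  letI : Field L := hL.toField
  let ψ : (⨂[k] _ : Fin d, K) →ₐ[k] Ω :=
    (IsAlgClosed.lift : L →ₐ[k] Ω).comp (Ideal.Quotient.mkₐ k Q)
  refine ⟨fun i => ψ.comp (PiTensorProduct.singleAlgHom (A := fun _ : Fin d => K) i), fun t => ?_⟩
  rw [show evalT (fun i => ψ.comp (PiTensorProduct.singleAlgHom (A := fun _ : Fin d => K) i)) = ψ from
    algHom_ext_single fun i x => by rw [evalT_single]; rfl]
  have hmem : t - algebraMap k (SymTen.TS k K d) (φ t) ∈ RingHom.ker φ := by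
    rw [RingHom.mem_ker, map_sub, AlgHom.commutes, Algebra.algebraMap_self, RingHom.id_apply, sub_self]
  rw [← hQP, Ideal.mem_comap, map_sub] at hmem
  have h0 := Ideal.Quotient.eq_zero_iff_mem.mpr hmem
  rw [map_sub, sub_eq_zero] at h0
  show (IsAlgClosed.lift : L →ₐ[k] Ω) (Ideal.Quotient.mk Q ((t : ⨂[k] _ : Fin d, K))) = _
  exact (congrArg (IsAlgClosed.lift : L →ₐ[k] Ω) h0).trans (AlgHom.commutes _ (φ t))

/-- The values of an element at a tuple are determined by the symmetric tensors. -/
theorem map_values_eq (s s' : Fin d → (K →ₐ[k] Ω))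
    (h : ∀ t : SymTen.TS k K d, evalT s (t : ⨂[k] _ : Fin d, K) = evalT s' (t : ⨂[k] _ : Fin d, K))
    (x : K) :
    (Finset.univ : Finset (Fin d)).val.map (fun i => s i x) = Finset.univ.val.map (fun i => s' i x) := by
  classical
  let Q : Polynomial (⨂[k] _ : Fin d, K) := ∏ i,
    (Polynomial.X - Polynomial.C (PiTensorProduct.singleAlgHom (A := fun _ : Fin d => K) i x))
  have hperm : ∀ σ, Q.map (SymTen.perm k K d σ).toRingHom = Q := by
    intro σ
    simp only [Q, Polynomial.map_prod, Polynomial.map_sub, Polynomial.map_X, Polynomial.map_C]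
    refine Fintype.prod_equiv σ _ _ fun i => ?_
    congr 2
    show SymTen.perm k K d σ _ = _
    rw [PiTensorProduct.singleAlgHom_apply, PiTensorProduct.singleAlgHom_apply, SymTen.perm_tprod]
    refine congrArg (PiTensorProduct.tprod k) (funext fun j => ?_)
    simp only [MonoidHom.mulSingle_apply, Pi.mulSingle_apply, Equiv.symm_apply_eq]
  have hev : ∀ r : Fin d → (K →ₐ[k] Ω), Q.map (evalT r).toRingHom =
      (((Finset.univ : Finset (Fin d)).val.map fun i => r i x).map
        fun a => Polynomial.X - Polynomial.C a).prod := by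
    intro r
    rw [Multiset.map_map]
    simp only [Q, Polynomial.map_prod, Polynomial.map_sub, Polynomial.map_X, Polynomial.map_C]
    refine Finset.prod_congr rfl fun i _ => ?_
    exact congrArg (fun z : Ω => Polynomial.X - Polynomial.C z) (evalT_single r i x)
  have heq : Q.map (evalT s).toRingHom = Q.map (evalT s').toRingHom := by
    ext n
    rw [Polynomial.coeff_map, Polynomial.coeff_map]
    refine h ⟨Q.coeff n, fun σ => ?_⟩
    rw [← SymTen.perm_apply]
    conv_rhs => rw [← hperm σ]
    rw [Polynomial.coeff_map]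
    rfl
  have := congrArg Polynomial.roots ((hev s).symm.trans (heq.trans (hev s')))
  rwa [Polynomial.roots_multiset_prod_X_sub_C, Polynomial.roots_multiset_prod_X_sub_C] at this

variable [FiniteDimensional k K]

/-- A generator of the separable closure separates the embeddings. -/
theorem exists_separating : ∃ θ : K, θ ∈ separableClosure k K ∧
    Function.Injective fun σ : K →ₐ[k] Ω => σ θ := by
  obtain ⟨θ, hθ⟩ := Field.exists_primitive_element k (separableClosure k K)
  refine ⟨θ, θ.2, fun σ σ' h => ?_⟩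
  have h1 : σ.comp (separableClosure k K).val = σ'.comp (separableClosure k K).val := by
    refine AlgHom.ext fun y => ?_
    have hy : y ∈ IntermediateField.adjoin k ({θ} : Set (separableClosure k K)) := hθ ▸ trivial
    induction hy using IntermediateField.adjoin_induction with
    | mem z hz => rw [Set.mem_singleton_iff.mp hz]; exact h
    | algebraMap z => rw [AlgHom.commutes, AlgHom.commutes]
    | add a b _ _ ha hb => rw [map_add, map_add, ha, hb]
    | inv a _ ha => rw [map_inv₀, map_inv₀, ha]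
    | mul a b _ _ ha hb => rw [map_mul, map_mul, ha, hb]
  refine AlgHom.ext fun x => ?_
  obtain ⟨q, hq⟩ := ExpChar.exists k
  haveI : ExpChar (separableClosure k K) q :=
    expChar_of_injective_algebraMap (algebraMap k (separableClosure k K)).injective q
  haveI : ExpChar Ω q := expChar_of_injective_algebraMap (algebraMap k Ω).injective q
  obtain ⟨n, y, hy⟩ := IsPurelyInseparable.pow_mem (separableClosure k K) q x
  apply (iterateFrobenius Ω q n).injective
  simp only [iterateFrobenius_def, ← map_pow, ← hy]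
  exact AlgHom.congr_fun h1 y

theorem map_eq (s s' : Fin d → (K →ₐ[k] Ω))
    (h : ∀ t : SymTen.TS k K d, evalT s (t : ⨂[k] _ : Fin d, K) = evalT s' (t : ⨂[k] _ : Fin d, K)) :
    (Finset.univ : Finset (Fin d)).val.map s = Finset.univ.val.map s' := by
  obtain ⟨θ, -, hθ⟩ := exists_separating (k := k) (K := K)
  apply Multiset.map_injective hθ
  simpa [Multiset.map_map, Function.comp_def] using map_values_eq s s' h θ

theorem exists_algEquiv (σ σ' : K →ₐ[k] Ω) : ∃ τ : Ω ≃ₐ[k] Ω, ∀ x, τ (σ x) = σ' x := by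
  let χ : σ.fieldRange ≃ₐ[k] σ'.fieldRange :=
    (AlgEquiv.ofInjectiveField σ).symm.trans (AlgEquiv.ofInjectiveField σ')
  refine ⟨χ.liftNormal Ω, fun x => ?_⟩
  have h := AlgEquiv.liftNormal_commutes χ Ω (AlgEquiv.ofInjectiveField σ x)
  exact h.trans (congrArg (fun z : σ'.fieldRange => (z : Ω))
    (congrArg (AlgEquiv.ofInjectiveField σ') ((AlgEquiv.ofInjectiveField σ).symm_apply_apply x)))

open scoped Classical in
/-- All embeddings occur equally often at a rational point. -/
theorem exists_mult (φ : SymTen.TS k K d →ₐ[k] k) (s : Fin d → (K →ₐ[k] Ω))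
    (hs : ∀ t : SymTen.TS k K d, evalT s (t : ⨂[k] _ : Fin d, K) = algebraMap k Ω (φ t)) :
    ∃ m, Field.finSepDegree k K * m = d ∧
      ∀ σ, ((Finset.univ : Finset (Fin d)).val.map s) = m • (Finset.univ : Finset (K →ₐ[k] Ω)).val ∧
        ((Finset.univ : Finset (Fin d)).val.map s).count σ = m := by
  classical
  obtain ⟨σ0⟩ : Nonempty (K →ₐ[k] Ω) := ⟨IsAlgClosed.lift⟩
  set M := (Finset.univ : Finset (Fin d)).val.map s with hM
  have hc : ∀ σ, M.count σ = M.count σ0 := by
    intro σ
    obtain ⟨τ, hτ⟩ := exists_algEquiv σ0 σ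
    let f : (K →ₐ[k] Ω) → (K →ₐ[k] Ω) := fun r => τ.toAlgHom.comp r
    have hτs : M = (Finset.univ : Finset (Fin d)).val.map (f ∘ s) := by
      refine map_eq _ _ fun t => ?_
      have h1 : evalT (f ∘ s) = τ.toAlgHom.comp (evalT s) :=
        algHom_ext_single fun i x => by rw [AlgHom.comp_apply, evalT_single, evalT_single]; rfl
      rw [h1, AlgHom.comp_apply, hs, AlgHom.commutes]
    have hinj : Function.Injective f := fun a b hab =>
      AlgHom.ext fun x => τ.injective (AlgHom.congr_fun hab x)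
    have hfσ : f σ0 = σ := AlgHom.ext hτ
    conv_lhs => rw [hτs, ← Multiset.map_map, ← hfσ]
    exact Multiset.count_map_eq_count' _ _ hinj _
  have hMeq : M = M.count σ0 • (Finset.univ : Finset (K →ₐ[k] Ω)).val := by
    ext σ
    rw [Multiset.count_nsmul, Multiset.count_eq_one_of_mem Finset.univ.nodup (Finset.mem_univ σ),
      mul_one, hc]
  refine ⟨M.count σ0, ?_, fun σ => ⟨hMeq, hc σ⟩⟩
  have := congrArg Multiset.card hMeq
  rw [Multiset.card_nsmul, Multiset.card_map] at this
  simp only [Finset.card_val, Finset.card_univ, Fintype.card_fin] at this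
  rw [Field.finSepDegree_eq_of_isAlgClosed k K Ω, Nat.card_eq_fintype_card]
  exact (mul_comm _ _).trans this.symm

theorem phi_unique (φ φ' : SymTen.TS k K d →ₐ[k] k) : φ = φ' := by
  obtain ⟨s, hs⟩ := exists_ext φ
  obtain ⟨s', hs'⟩ := exists_ext φ'
  obtain ⟨m, hm, hM⟩ := exists_mult φ s hs
  obtain ⟨m', hm', hM'⟩ := exists_mult φ' s' hs'
  obtain ⟨σ0⟩ : Nonempty (K →ₐ[k] Ω) := ⟨IsAlgClosed.lift⟩
  have : m = m' := mul_left_cancel₀ (NeZero.ne (Field.finSepDegree k K)) (hm.trans hm'.symm)
  subst this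
  obtain ⟨σ, hσ⟩ := exists_perm_eq s s' ((hM σ0).1.trans (hM' σ0).1.symm)
  refine AlgHom.ext fun t => (algebraMap k Ω).injective ?_
  rw [← hs, ← hs', hσ, ← evalT_perm, SymTen.perm_apply, t.2 σ]

open scoped Classical in
/-- A single coordinate powers into any field receiving all values at `θ`. -/
theorem coord_pow (φ : SymTen.TS k K d →ₐ[k] k) (s : Fin d → (K →ₐ[k] Ω))
    (hs : ∀ t : SymTen.TS k K d, evalT s (t : ⨂[k] _ : Fin d, K) = algebraMap k Ω (φ t))
    (σ0 : K →ₐ[k] Ω) (x θ : K) (hinj : Function.Injective fun σ : K →ₐ[k] Ω => σ θ)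
    (L : Type u) [Field L] [Algebra k L] (v : L →ₐ[k] Ω) (a : (K →ₐ[k] Ω) → L)
    (ha : ∀ σ, v (a σ) = σ θ) :
    ∃ a0, v a0 = σ0 x ^ ((Finset.univ : Finset (Fin d)).val.map s).count σ0 := by
  set m := ((Finset.univ : Finset (Fin d)).val.map s).count σ0 with hm
  let e := Module.Free.chooseBasis k K
  let mu : (K →ₐ[k] Ω) → (L ⊗[k] K →ₐ[k] Ω) := fun σ =>
    Algebra.TensorProduct.lift v σ fun _ _ => Commute.all _ _
  let z : L ⊗[k] K := ∏ σ ∈ Finset.univ.erase σ0,
    ((a σ0 - a σ)⁻¹ • ((1 : L) ⊗ₜ[k] θ - a σ ⊗ₜ[k] (1 : K)))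
  let w : L ⊗[k] K := z * ((1 : L) ⊗ₜ[k] x) + (1 - z)
  have hz : ∀ σ, mu σ z = if σ = σ0 then 1 else 0 := by
    intro σ
    have hterm : ∀ r : K →ₐ[k] Ω, mu σ ((a σ0 - a r)⁻¹ • ((1 : L) ⊗ₜ[k] θ - a r ⊗ₜ[k] (1 : K))) =
        (σ0 θ - r θ)⁻¹ * (σ θ - r θ) := by
      intro r
      rw [smul_sub, TensorProduct.smul_tmul', TensorProduct.smul_tmul']
      simp [mu, ha]
      ring
    simp only [z, map_prod, hterm]
    split_ifs with h
    · subst h
      refine Finset.prod_eq_one fun r hr => inv_mul_cancel₀ (sub_ne_zero.mpr fun he => ?_)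
      exact (Finset.mem_erase.mp hr).1 (hinj he).symm
    · exact Finset.prod_eq_zero (Finset.mem_erase.mpr ⟨h, Finset.mem_univ _⟩) (by rw [sub_self, mul_zero])
  have hw : ∀ σ, mu σ w = if σ = σ0 then σ0 x else 1 := by
    intro σ
    simp only [w, map_add, map_mul, map_sub, map_one, hz]
    split_ifs with h
    · subst h; simp [mu]
    · simp
  let Ev : L ⊗[k] (⨂[k] _ : Fin d, K) →ₐ[k] Ω :=
    Algebra.TensorProduct.lift v (evalT s) fun _ _ => Commute.all _ _
  let a0 : L := Algebra.TensorProduct.rid k k L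
    (φ.toLinearMap.lTensor L ((tauFree (d := d) e).law.toFun' L w))
  have hEv : ∀ y : L ⊗[k] SymTen.TS k K d,
      Ev ((SymTen.TS k K d).val.toLinearMap.lTensor L y) =
      v (Algebra.TensorProduct.rid k k L (φ.toLinearMap.lTensor L y)) := by
    intro y
    induction y using TensorProduct.induction_on with
    | zero => simp
    | tmul l t =>
      simp [Ev, hs, Algebra.smul_def, mul_comm]
    | add y y' hy hy' => simp only [map_add, hy, hy']
  have htau : (SymTen.TS k K d).val.toLinearMap.lTensor L ((tauFree (d := d) e).law.toFun' L w) =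
      (SymTen.tpowLaw k K d).law.toFun' L w := by
    rw [tpowLaw_eq_tp]
    exact congrFun (congrArg (fun T : K →ₚₗ[k] (⨂[k] _ : Fin d, K) => T.toFun' L) (val_symProj_tp e)) w
  have hval : v a0 = σ0 x ^ m := by
    rw [show v a0 = Ev ((SymTen.TS k K d).val.toLinearMap.lTensor L
        ((tauFree (d := d) e).law.toFun' L w)) from (hEv _).symm, htau, SymTen.tpowLaw,
      PolLaw.MulLaw.prodMap_toFun', map_prod]
    have hcomp : ∀ (i : Fin d) (y : L ⊗[k] K), Ev (Algebra.TensorProduct.map (AlgHom.id L L)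
        (PiTensorProduct.singleAlgHom (A := fun _ : Fin d => K) i) y) = mu (s i) y := by
      intro i y
      induction y using TensorProduct.induction_on with
      | zero => simp
      | tmul l t =>
        simp only [Ev, mu, Algebra.TensorProduct.map_tmul, AlgHom.id_apply,
          Algebra.TensorProduct.lift_tmul, evalT_single]
      | add y y' hy hy' => simp only [map_add, hy, hy']
    simp only [hcomp, hw]
    rw [Finset.prod_ite, Finset.prod_const, Finset.prod_const_one, mul_one]
    congr 1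
    rw [hm, Multiset.count_map, Finset.card, Finset.filter_val]
    exact congrArg _ (Multiset.filter_congr fun _ _ => eq_comm)
  exact ⟨a0, hval⟩

open scoped Classical in
/-- A single coordinate powers into the separable closure at a rational point. -/
theorem pow_mult_mem (φ : SymTen.TS k K d →ₐ[k] k) (s : Fin d → (K →ₐ[k] Ω))
    (hs : ∀ t : SymTen.TS k K d, evalT s (t : ⨂[k] _ : Fin d, K) = algebraMap k Ω (φ t))
    (σ0 : K →ₐ[k] Ω) (x : K) :
    x ^ ((Finset.univ : Finset (Fin d)).val.map s).count σ0 ∈ separableClosure k K := by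
  obtain ⟨θ, hθ, hinj⟩ := exists_separating (k := k) (K := K)
  obtain ⟨a0, h0⟩ := coord_pow φ s hs σ0 x θ hinj (separableClosure k Ω)
    (separableClosure k Ω).val (fun σ => ⟨σ θ, (map_mem_separableClosure_iff σ).mpr hθ⟩)
    (fun σ => rfl)
  refine (map_mem_separableClosure_iff σ0).mp ?_
  rw [map_pow, ← h0]
  exact a0.2

theorem isPow (e : ℕ) (he : 0 < e) (hexp : ∀ x : K, x ^ e ∈ separableClosure k K)
    (hmin : ∀ n : ℕ, 0 < n → (∀ x : K, x ^ n ∈ separableClosure k K) → e ≤ n) :
    (∀ m, (∀ x : K, x ^ m ∈ separableClosure k K) → e ∣ m) ∧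
      ∀ q, ExpChar k q → ∃ n, e = q ^ n := by
  have hdvd : ∀ m, (∀ x : K, x ^ m ∈ separableClosure k K) → e ∣ m := by
    intro m hm
    rw [← Nat.gcd_eq_left_iff_dvd]
    refine le_antisymm (Nat.gcd_le_left _ he) (hmin _ (Nat.gcd_pos_of_pos_left _ he) fun x => ?_)
    rcases eq_or_ne x 0 with rfl | hx
    · rw [zero_pow (Nat.gcd_pos_of_pos_left m he).ne']; exact zero_mem _
    rw [← zpow_natCast, Nat.gcd_eq_gcd_ab, zpow_add₀ hx, zpow_mul, zpow_mul, zpow_natCast,
      zpow_natCast]
    exact mul_mem (zpow_mem (hexp x) _) (zpow_mem (hm x) _)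
  refine ⟨hdvd, fun q hq => ?_⟩
  haveI := hq
  haveI : ExpChar K q := expChar_of_injective_algebraMap (algebraMap k K).injective q
  haveI : ExpChar (separableClosure k K) q :=
    expChar_of_injective_algebraMap (algebraMap k (separableClosure k K)).injective q
  let b := Module.finBasis k K
  choose N hN using fun i => IsPurelyInseparable.pow_mem (separableClosure k K) q (b i)
  have hall : ∀ x : K, x ^ q ^ (∑ i, N i) ∈ separableClosure k K := by
    intro x
    rw [← b.sum_repr x, ← iterateFrobenius_def, map_sum]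
    refine sum_mem fun i _ => ?_
    rw [iterateFrobenius_def, Algebra.smul_def, mul_pow]
    refine mul_mem (pow_mem ((separableClosure k K).algebraMap_mem _) _) ?_
    obtain ⟨y, hy⟩ := hN i
    rw [← Nat.add_sub_of_le (Finset.single_le_sum (fun j _ => Nat.zero_le (N j)) (Finset.mem_univ i)),
      pow_add, pow_mul, ← hy]
    exact pow_mem y.2 _
  rcases expChar_is_prime_or_one k q with hp | h1
  · obtain ⟨n, -, hn⟩ := (Nat.dvd_prime_pow hp).mp (hdvd _ hall)
    exact ⟨n, hn⟩
  · exact ⟨0, Nat.eq_one_of_dvd_one (by simpa [h1] using hdvd _ hall)⟩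

theorem dvd_of_point (φ : SymTen.TS k K d →ₐ[k] k) (e : ℕ)
    (hdvd : ∀ m, (∀ x : K, x ^ m ∈ separableClosure k K) → e ∣ m) :
    Field.finSepDegree k K * e ∣ d := by
  obtain ⟨s, hs⟩ := exists_ext φ
  obtain ⟨m, hm, hM⟩ := exists_mult φ s hs
  obtain ⟨σ0⟩ : Nonempty (K →ₐ[k] Ω) := ⟨IsAlgClosed.lift⟩
  have h := hdvd m fun x => by rw [← (hM σ0).2]; exact pow_mult_mem φ s hs σ0 x
  calc Field.finSepDegree k K * e ∣ Field.finSepDegree k K * m := mul_dvd_mul_left _ h
    _ = d := hm

theorem exists_point (e r : ℕ) (hd : Field.finSepDegree k K * e * r = d) (q : ℕ) [ExpChar k q]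
    (n : ℕ) (hq : e = q ^ n) (hexp : ∀ x : K, x ^ e ∈ separableClosure k K) :
    Nonempty (SymTen.TS k K d →ₐ[k] k) := by
  classical
  haveI : ExpChar Ω q := expChar_of_injective_algebraMap (algebraMap k Ω).injective q
  let bK := Module.Free.chooseBasis k K
  let ι := Module.Free.ChooseBasisIndex k K
  let P := MvPolynomial ι Ω
  have hcard : Fintype.card (Fin d) = Fintype.card ((K →ₐ[k] Ω) × Fin (e * r)) := by
    rw [Fintype.card_prod, Fintype.card_fin, Fintype.card_fin, ← Nat.card_eq_fintype_card,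
      ← Field.finSepDegree_eq_of_isAlgClosed k K Ω, ← mul_assoc, hd]
  let E : Fin d ≃ (K →ₐ[k] Ω) × Fin (e * r) := Fintype.equivOfCardEq hcard
  let s : Fin d → (K →ₐ[k] Ω) := fun i => (E i).1
  let F : (K →ₐ[k] Ω) → P := fun σ => ∑ j, MvPolynomial.C (σ (bK j)) * MvPolynomial.X j
  have hprod : ∏ i, F (s i) = (∏ σ, F σ ^ e) ^ r := by
    rw [← Fintype.prod_equiv E.symm (fun x => F x.1) (fun i => F (s i)) fun x => by simp [s],
      Fintype.prod_prod_type]
    simp only [Finset.prod_const, Finset.card_univ, Fintype.card_fin, pow_mul, Finset.prod_pow]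
  have hcoeff : ∀ α : ι →₀ ℕ, evalT s ((orb (d := d) bK α : SymTen.TS k K d) : ⨂[k] _ : Fin d, K) =
      MvPolynomial.coeff α (∏ i, F (s i)) := by
    intro α
    show evalT s (cf (tp k K d) bK α) = _
    rw [cf_tp, map_sum]
    simp only [F, Fintype.prod_sum, Finset.prod_mul_distrib, ← map_prod, prod_X,
      MvPolynomial.C_mul_monomial, mul_one, MvPolynomial.coeff_sum, MvPolynomial.coeff_monomial,
      ← Finset.sum_filter, evalT_tprod]
    refine Finset.sum_congr (Finset.ext fun p => ?_) fun _ _ => rfl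
    simp [mem_fib]
  let L := separableClosure k Ω
  have hsep : ∀ α, MvPolynomial.coeff α ((∏ σ, F σ ^ e) ^ r) ∈ L := by
    intro α
    obtain ⟨G, hG⟩ : ((∏ σ, F σ ^ e) ^ r) ∈ (MvPolynomial.map (σ := ι) L.val.toRingHom).range := by
      refine pow_mem ?_ r
      refine prod_mem fun σ _ => ?_
      refine ⟨∑ j, MvPolynomial.C (⟨σ (bK j ^ e),
        (map_mem_separableClosure_iff σ).mpr (hexp _)⟩ : L) * MvPolynomial.X j ^ e, ?_⟩
      haveI : ExpChar (MvPolynomial ι Ω) q :=
        expChar_of_injective_algebraMap (algebraMap Ω (MvPolynomial ι Ω)).injective q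
      have key : F σ ^ e = ∑ j, (MvPolynomial.C (σ (bK j)) * MvPolynomial.X j) ^ e := by
        show (∑ j, MvPolynomial.C (σ (bK j)) * MvPolynomial.X j) ^ e = _
        rw [hq, ← iterateFrobenius_def, map_sum]
        exact Finset.sum_congr rfl fun j _ => iterateFrobenius_def q n _
      rw [map_sum, key]
      refine Finset.sum_congr rfl fun j _ => ?_
      simp [mul_pow]
    rw [← hG, MvPolynomial.coeff_map]
    exact (MvPolynomial.coeff α G).2
  have hfix : ∀ (τ : Ω ≃ₐ[k] Ω) α,
      τ (MvPolynomial.coeff α ((∏ σ, F σ ^ e) ^ r)) = MvPolynomial.coeff α ((∏ σ, F σ ^ e) ^ r) := by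
    intro τ α
    have h := MvPolynomial.coeff_map τ.toAlgHom.toRingHom ((∏ σ, F σ ^ e) ^ r) α
    refine h.symm.trans (congrArg (MvPolynomial.coeff α) ?_)
    rw [map_pow, map_prod]
    congr 1
    let f : (K →ₐ[k] Ω) → (K →ₐ[k] Ω) := fun σ => τ.toAlgHom.comp σ
    have hf : Function.Bijective f :=
      Finite.injective_iff_bijective.mp fun a b hab =>
        AlgHom.ext fun x => τ.injective (AlgHom.congr_fun hab x)
    refine Fintype.prod_equiv (Equiv.ofBijective f hf) _ _ fun σ => ?_
    simp [F, f]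
  have hrange : ∀ α, MvPolynomial.coeff α ((∏ σ, F σ ^ e) ^ r) ∈ Set.range (algebraMap k Ω) := by
    intro α
    obtain ⟨c, hc⟩ := (InfiniteGalois.mem_range_algebraMap_iff_fixed
      (⟨_, hsep α⟩ : L)).mpr fun g => by
        refine Subtype.ext ?_
        exact (AlgEquiv.liftNormal_commutes g Ω ⟨_, hsep α⟩).symm.trans (hfix _ α)
    exact ⟨c, congrArg (Subtype.val : L → Ω) hc⟩
  have hall : ∀ t : SymTen.TS k K d,
      evalT s (t : ⨂[k] _ : Fin d, K) ∈ (⊥ : Subalgebra k Ω) := by
    intro t
    have ht : t ∈ Submodule.span k (Set.range (orb (d := d) bK)) := span_orb bK ▸ trivial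
    induction ht using Submodule.span_induction with
    | zero => simp
    | add a b _ _ ha hb =>
      rw [AddMemClass.coe_add, map_add]
      exact add_mem ha hb
    | smul c a _ ha =>
      rw [SetLike.val_smul, map_smul]
      exact Subalgebra.smul_mem _ ha c
    | mem a ha =>
      obtain ⟨α, rfl⟩ := ha
      rw [hcoeff, hprod]
      exact Algebra.mem_bot.mpr (hrange α)
  exact ⟨(Algebra.botEquiv k Ω).toAlgHom.comp
    (((evalT s).comp (SymTen.TS k K d).val).codRestrict ⊥ hall)⟩

theorem main (d e : ℕ) (he : 0 < e) (hexp : ∀ x : K, x ^ e ∈ separableClosure k K)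
    (hmin : ∀ n : ℕ, 0 < n → (∀ x : K, x ^ n ∈ separableClosure k K) → e ≤ n) :
    (∀ F F' : PolLaw.MulLaw k K k d, F = F') ∧
      (Nonempty (PolLaw.MulLaw k K k d) ↔ Field.finSepDegree k K * e ∣ d) := by
  let bK := Module.Free.chooseBasis k K
  obtain ⟨hdvd, hpow⟩ := isPow e he hexp hmin
  refine ⟨fun F F' => PolLaw.MulLaw.ext ?_, ⟨fun ⟨F⟩ => dvd_of_point (rho bK F) e hdvd, ?_⟩⟩
  · rw [← rho_tauFree bK F, ← rho_tauFree bK F', phi_unique (rho bK F) (rho bK F')]
  · rintro ⟨r, hr⟩
    obtain ⟨q, hq⟩ := ExpChar.exists k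
    obtain ⟨n, hn⟩ := hpow q hq
    obtain ⟨φ⟩ := exists_point (k := k) (K := K) e r hr.symm q n hn hexp
    exact ⟨(tauFree bK).postcomp φ⟩

end Groth.Agent.DivPow.FieldPoints
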