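import Groth.Agent.DivPow.Canon

/-!
# Finiteness properties of divided power algebras
-/

set_option autoImplicit false
set_option linter.unusedSectionVars false
universe u

open scoped TensorProduct
open MvPolynomial

namespace Groth.Agent.DivPow

variable {A B C : Type u} [CommRing A] [CommRing B] [Algebra A B] [CommRing C] [Algebra A C] {d : ℕ}
  {γ : PolLaw.MulLaw A B C d}

theorem pow_factorial_eq_zero (hγ : PolLaw.IsGammaD γ) (φ : C →ₐ[A] SymTen.TS A B d)
    (hφ : PolLaw.postcomp ((SymTen.TS A B d).val.comp φ).toLinearMap γ.law = (SymTen.tpowLaw A B d).law)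
    (x : C) (hx : φ x = 0) : x ^ d.factorial = 0 := by
  obtain ⟨F, -, hF⟩ := exists_norm_law γ φ hφ
  have h := hF hγ A ((1 : A) ⊗ₜ[A] x)
  have h0 := F.homog A 0 ((0 : A) ⊗ₜ[A] (0 : ⨂[A] _ : Fin d, B))
  simp only [zero_smul, zero_pow (Nat.factorial_ne_zero d), TensorProduct.tmul_zero] at h0
  simp only [LinearMap.lTensor_tmul, AlgHom.toLinearMap_apply, hx, map_zero, TensorProduct.tmul_zero,
    Algebra.TensorProduct.tmul_pow, one_pow, h0] at h
  simpa using (congrArg (TensorProduct.lid A C) h).symm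

theorem isIntegral (hγ : PolLaw.IsGammaD γ) [Algebra.IsIntegral A B] : Algebra.IsIntegral A C := by
  classical
  obtain ⟨φ, hφ⟩ := exists_phi hγ
  have hT : Algebra.IsIntegral A (⨂[A] _ : Fin d, B) := by
    refine ⟨fun z => ?_⟩
    induction z using PiTensorProduct.induction_on with
    | smul_tprod r f =>
      refine IsIntegral.smul r ?_
      rw [← prod_singleAlgHom]
      exact IsIntegral.prod _ fun j _ => (Algebra.IsIntegral.isIntegral (f j)).map _
    | add x y hx hy => exact hx.add hy
  refine ⟨fun x => ?_⟩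
  obtain ⟨p, hp, hpx⟩ := Algebra.IsIntegral.isIntegral (R := A) (((SymTen.TS A B d).val.comp φ) x)
  refine ⟨p ^ d.factorial, hp.pow _, ?_⟩
  have hpx' : φ (Polynomial.aeval x p) = 0 := by
    apply Subtype.val_injective
    show ((SymTen.TS A B d).val.comp φ) (Polynomial.aeval x p) = 0
    rw [← Polynomial.aeval_algHom_apply]
    exact hpx
  show Polynomial.aeval x (p ^ d.factorial) = 0
  rw [map_pow, pow_factorial_eq_zero hγ φ hφ _ hpx']

theorem moduleFinite (hγ : PolLaw.IsGammaD γ) [Module.Finite A B] : Module.Finite A C := by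
  obtain ⟨n, g, hg⟩ := Module.Finite.exists_fin' A B
  refine Module.Finite.of_surjective (linG γ g) fun c => ?_
  obtain ⟨n', g', x, hx, rfl⟩ := exists_linG_eq γ hγ c
  obtain ⟨h, hh⟩ := Module.projective_lifting_property g g' hg
  exact ⟨pmap d h x, by rw [linG_pmap γ g h hx, hh]⟩

theorem surjective_map {B' C' : Type u} [CommRing B'] [Algebra A B'] [CommRing C'] [Algebra A C']
    {γ' : PolLaw.MulLaw A B' C' d} (hγ' : PolLaw.IsGammaD γ') (π : B →ₐ[A] B') (hπ : Function.Surjective π)
    (φ : C →ₐ[A] C') (hφ : PolLaw.postcomp φ.toLinearMap γ.law = (γ'.precomp π).law) : Function.Surjective φ := by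
  let π₀ : MvPolynomial B A →ₐ[A] B := aeval id
  let e := MvPolynomial.basisMonomials B A
  have h : φ.comp (rho e (γ.precomp π₀)) = rho e (γ'.precomp (π.comp π₀)) := by
    refine TS_hom_ext e fun α => ?_
    show φ.toLinearMap (rho e (γ.precomp π₀) (orb e α)) = _
    rw [rho_orb, rho_orb]
    show φ.toLinearMap (cf (PolLaw.precomp γ.law π₀.toLinearMap) e α) =
      cf (PolLaw.precomp γ'.law (π.comp π₀).toLinearMap) e α
    rw [cf_precomp, cf_precomp, ← cf_postcomp, hφ]
    show cf (PolLaw.precomp γ'.law π.toLinearMap) _ α = _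
    rw [cf_precomp]
    rfl
  intro c
  obtain ⟨u, hu⟩ := rho_surjective e (π.comp π₀) (hπ.comp (exists_presentation A B)) hγ' c
  exact ⟨rho e (γ.precomp π₀) u, (AlgHom.congr_fun h u).trans hu⟩

/-- Extension of scalars on a tensor power of polynomial rings over the integers. -/
theorem exists_intHom (A : Type u) [CommRing A] (m d : ℕ) :
    ∃ F : (⨂[ℤ] _ : Fin d, MvPolynomial (Fin m) ℤ) →+* (⨂[A] _ : Fin d, MvPolynomial (ULift.{u} (Fin m)) A),
      ∀ f, F (PiTensorProduct.tprod ℤ f) =
        PiTensorProduct.tprod A (fun j => aeval (fun i => (X (ULift.up i) : MvPolynomial (ULift.{u} (Fin m)) A)) (f j)) := by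
  classical
  let j : MvPolynomial (Fin m) ℤ →ₐ[ℤ] MvPolynomial (ULift.{u} (Fin m)) A := aeval fun i => X (ULift.up i)
  letI : Module ℤ (MvPolynomial (Fin m) ℤ) := Algebra.toModule
  letI : Module ℤ (⨂[A] _ : Fin d, MvPolynomial (ULift.{u} (Fin m)) A) := Algebra.toModule
  let T : MultilinearMap ℤ (fun _ : Fin d => MvPolynomial (Fin m) ℤ)
      (⨂[A] _ : Fin d, MvPolynomial (ULift.{u} (Fin m)) A) :=
    { toFun := fun f => PiTensorProduct.tprod A (j ∘ f)
      map_update_add' := fun {_} f i x y => by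
        simp only [Function.comp_update, map_add, MultilinearMap.map_update_add]
      map_update_smul' := fun {_} f i c x => by
        simp only [Function.comp_update, map_zsmul]
        rw [← Int.cast_smul_eq_zsmul A c (j x), MultilinearMap.map_update_smul, Int.cast_smul_eq_zsmul]
        first
          | rfl
          | exact int_smul_eq_zsmul _ _ _
          | exact (int_smul_eq_zsmul _ _ _).symm }
  have hT : ∀ f, T f = PiTensorProduct.tprod A (fun i => j (f i)) := fun f => rfl
  refine ⟨(PiTensorProduct.liftAlgHom T ?_ ?_).toRingHom, fun f => ?_⟩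
  · rw [hT]
    simp only [Pi.one_apply, map_one, PiTensorProduct.one_def]
    rfl
  · intro x y
    rw [hT, hT, hT, PiTensorProduct.tprod_mul_tprod]
    simp only [Pi.mul_apply, map_mul]
    rfl
  · show PiTensorProduct.liftAlgHom T _ _ (PiTensorProduct.tprod ℤ f) = _
    simp [hT, j]

/-- The symmetric tensors of a polynomial ring over the integers are of finite type. -/
theorem finiteType_TS_int (m d : ℕ) : Algebra.FiniteType ℤ (SymTen.TS ℤ (MvPolynomial (Fin m) ℤ) d) := by
  classical
  let P := MvPolynomial (Fin m) ℤ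
  let T := ⨂[ℤ] _ : Fin d, P
  let R := SymTen.TS ℤ P d
  have hft : Algebra.FiniteType ℤ T := by
    refine ⟨⟨Finset.univ.image fun p : Fin d × Fin m => PiTensorProduct.singleAlgHom (R := ℤ) (A := fun _ : Fin d => P) p.1 (X p.2), ?_⟩⟩
    rw [eq_top_iff]
    rintro z -
    induction z using PiTensorProduct.induction_on with
    | smul_tprod r f =>
      refine Subalgebra.smul_mem _ ?_ r
      rw [← prod_singleAlgHom]
      refine Subalgebra.prod_mem _ fun j _ => ?_
      have hle : (Algebra.adjoin ℤ (Set.range (X : Fin m → P))).map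
          (PiTensorProduct.singleAlgHom (R := ℤ) (A := fun _ : Fin d => P) j) ≤ Algebra.adjoin ℤ ((Finset.univ.image fun p : Fin d × Fin m => PiTensorProduct.singleAlgHom (R := ℤ) (A := fun _ : Fin d => P) p.1 (X p.2) : Finset T) : Set T) := by
        rw [AlgHom.map_adjoin]
        refine Algebra.adjoin_mono ?_
        rintro _ ⟨_, ⟨i, rfl⟩, rfl⟩
        exact Finset.mem_coe.mpr (Finset.mem_image.mpr ⟨(j, i), Finset.mem_univ _, rfl⟩)
      exact hle ⟨f j, by rw [MvPolynomial.adjoin_range_X]; trivial, rfl⟩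
    | add x y hx hy => exact add_mem hx hy
  have hint : Algebra.IsIntegral R T := by
    refine ⟨fun z => ?_⟩
    let q : Polynomial T := ∏ σ : Equiv.Perm (Fin d), (Polynomial.X - Polynomial.C (SymTen.perm ℤ P d σ z))
    have hq : ∀ τ, q.map (SymTen.perm ℤ P d τ).toRingHom = q := by
      intro τ
      rw [Polynomial.map_prod]
      simp only [Polynomial.map_sub, Polynomial.map_X, Polynomial.map_C, AlgHom.toRingHom_eq_coe, RingHom.coe_coe,
        perm_perm]
      exact Equiv.prod_comp (Equiv.mulLeft τ) fun σ => Polynomial.X - Polynomial.C (SymTen.perm ℤ P d σ z)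
    have hlift : q ∈ Polynomial.lifts (algebraMap R T) := by
      rw [Polynomial.lifts_iff_coeff_lifts]
      intro i
      refine ⟨⟨q.coeff i, fun τ => ?_⟩, rfl⟩
      rw [← SymTen.perm_apply]
      have := congrArg (fun r => Polynomial.coeff r i) (hq τ)
      rw [Polynomial.coeff_map] at this
      exact this
    rcases subsingleton_or_nontrivial T with hsub | hnt
    · rw [Subsingleton.elim z 0]; exact isIntegral_zero
    obtain ⟨q₀, hq₀, -, hmon⟩ := Polynomial.lifts_and_degree_eq_and_monic hlift (Polynomial.monic_prod_of_monic _ _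
      fun σ _ => Polynomial.monic_X_sub_C _)
    refine ⟨q₀, hmon, ?_⟩
    rw [← Polynomial.eval_map, hq₀, Polynomial.eval_prod]
    refine Finset.prod_eq_zero (Finset.mem_univ 1) ?_
    rw [SymTen.perm_apply, Equiv.Perm.one_def, PiTensorProduct.reindex_refl]
    simp
  have : Algebra.FiniteType R T := Algebra.FiniteType.of_restrictScalars_finiteType ℤ R T
  have hfin : Module.Finite R T := Algebra.IsIntegral.finite
  exact ⟨fg_of_fg_of_fg ℤ R T hft.out (Module.finite_def.mp hfin) Subtype.val_injective⟩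

theorem finiteType (hγ : PolLaw.IsGammaD γ) [Algebra.FiniteType A B] : Algebra.FiniteType A C := by
  classical
  obtain ⟨m, π₁, hπ₁⟩ := Algebra.FiniteType.iff_quotient_mvPolynomial''.mp (inferInstance : Algebra.FiniteType A B)
  let π : MvPolynomial (ULift.{u} (Fin m)) A →ₐ[A] B := π₁.comp (rename ULift.down)
  have hπ : Function.Surjective π :=
    hπ₁.comp (rename_surjective _ ULift.down_surjective)
  let P := MvPolynomial (ULift.{u} (Fin m)) A
  let e := MvPolynomial.basisMonomials (ULift.{u} (Fin m)) A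
  suffices h : Algebra.FiniteType A (SymTen.TS A P d) from
    Algebra.FiniteType.of_surjective (rho e (γ.precomp π)) (rho_surjective e π hπ hγ)
  obtain ⟨F, hF⟩ := exists_intHom A m d
  obtain ⟨gens, hgens⟩ := (finiteType_TS_int m d).out
  have hsym : ∀ z : SymTen.TS ℤ (MvPolynomial (Fin m) ℤ) d, F z.1 ∈ SymTen.TS A P d := by
    intro z σ
    have h : ∀ w, PiTensorProduct.reindex A (fun _ : Fin d => P) σ (F w) =
        F (PiTensorProduct.reindex ℤ (fun _ : Fin d => MvPolynomial (Fin m) ℤ) σ w) := by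
      intro w
      induction w using PiTensorProduct.induction_on with
      | smul_tprod r f =>
        simp only [map_zsmul, PiTensorProduct.reindex_tprod, hF]
      | add x y hx hy => simp only [map_add, hx, hy]
    rw [h, z.2 σ]
  let F₀ : SymTen.TS ℤ (MvPolynomial (Fin m) ℤ) d →+* SymTen.TS A P d :=
    (F.comp (SymTen.TS ℤ (MvPolynomial (Fin m) ℤ) d).val.toRingHom).codRestrict (SymTen.TS A P d).toSubring hsym
  refine ⟨⟨gens.image F₀, ?_⟩⟩
  rw [eq_top_iff]
  rintro z -
  have hrange : ∀ w, F₀ w ∈ Algebra.adjoin A ((gens.image F₀ : Finset _) : Set (SymTen.TS A P d)) := by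
    intro w
    have hw : w ∈ Algebra.adjoin ℤ (gens : Set _) := by rw [hgens]; trivial
    induction hw using Algebra.adjoin_induction with
    | mem x hx => exact Algebra.subset_adjoin (Finset.mem_coe.mpr (Finset.mem_image_of_mem F₀ hx))
    | algebraMap r => rw [eq_intCast (algebraMap ℤ (SymTen.TS ℤ (MvPolynomial (Fin m) ℤ) d)) r, map_intCast]; exact intCast_mem _ r
    | add x y _ _ hx hy => rw [map_add]; exact add_mem hx hy
    | mul x y _ _ hx hy => rw [map_mul]; exact mul_mem hx hy
  have hz : z ∈ Submodule.span A (Set.range (orb (d := d) e)) := by rw [span_orb]; trivial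
  refine (Submodule.span_le (p := Subalgebra.toSubmodule (Algebra.adjoin A ((gens.image F₀ : Finset _) : Set (SymTen.TS A P d))))).mpr ?_ hz
  rintro _ ⟨α, rfl⟩
  let e₀ := MvPolynomial.basisMonomials (Fin m) ℤ
  let r : (Fin m →₀ ℕ) ≃ (ULift.{u} (Fin m) →₀ ℕ) := Finsupp.domCongr Equiv.ulift.symm |>.toEquiv
  let α₀ : (Fin m →₀ ℕ) →₀ ℕ := α.mapDomain r.symm
  suffices h : F₀ ⟨_, cf_tp_mem (A := ℤ) (d := d) e₀ α₀⟩ = orb e α by rw [← h]; exact hrange _
  apply Subtype.ext
  show F (cf (tp ℤ (MvPolynomial (Fin m) ℤ) d) e₀ α₀) = cf (tp A P d) e α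
  rw [cf_tp, cf_tp, map_sum]
  have hms : ∀ p : Fin d → (Fin m →₀ ℕ), ms (r ∘ p) = (ms p).mapDomain r := by
    intro p
    simp only [ms, Finsupp.mapDomain_finsetSum, Finsupp.mapDomain_single]
    rfl
  refine Finset.sum_bij' (fun p _ => r ∘ p) (fun p _ => r.symm ∘ p) ?_ ?_ ?_ ?_ ?_
  · intro p hp
    rw [mem_fib, hms, mem_fib.mp hp, ← Finsupp.mapDomain_comp]
    simp
  · intro p hp
    rw [mem_fib, show α₀ = α.mapDomain r.symm from rfl, ← mem_fib.mp hp]
    simp only [ms, Finsupp.mapDomain_finsetSum, Finsupp.mapDomain_single]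
    rfl
  · intro p _; funext j; simp
  · intro p _; funext j; simp
  · intro p _
    rw [hF]
    congr 1
    funext j
    simp only [e₀, e, coe_basisMonomials, Function.comp_apply, aeval_monomial, map_one, one_mul]
    rw [monomial_eq, C_1, one_mul]
    show _ = (Finsupp.equivMapDomain Equiv.ulift.symm (p j)).prod fun i n => X i ^ n
    rw [Finsupp.prod_equivMapDomain]
    rfl

end Groth.Agent.DivPow
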