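import Groth.Agent.DivPow.NormThm

/-!
# Tensor powers of flat modules are filtered colimits of tensor powers of free modules
-/

set_option autoImplicit false
set_option linter.unusedSectionVars false
universe u

open scoped TensorProduct
open MvPolynomial

namespace Groth.Agent.DivPow

variable {A : Type u} [CommRing A] {M : Type u} [AddCommGroup M] [Module A M]

/-- The linear map between tensor powers. -/
noncomputable abbrev pmap (d : ℕ) {X Y : Type u} [AddCommGroup X] [Module A X] [AddCommGroup Y] [Module A Y]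
    (f : X →ₗ[A] Y) : (⨂[A] _ : Fin d, X) →ₗ[A] (⨂[A] _ : Fin d, Y) :=
  PiTensorProduct.map fun _ : Fin d => f

theorem pmap_pmap (d : ℕ) {X Y Z : Type u} [AddCommGroup X] [Module A X] [AddCommGroup Y] [Module A Y]
    [AddCommGroup Z] [Module A Z] (g : Y →ₗ[A] Z) (f : X →ₗ[A] Y) (x : ⨂[A] _ : Fin d, X) :
    pmap d g (pmap d f x) = pmap d (g ∘ₗ f) x := by
  rw [← LinearMap.comp_apply, ← PiTensorProduct.map_comp]

/-- A single tensor factor: killing an element of the kernel. -/
theorem kill_one [Module.Flat A M] (N : Type u) [AddCommGroup N] [Module A N] {n : ℕ} (g : (Fin n → A) →ₗ[A] M)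
    (x : N ⊗[A] (Fin n → A)) (hx : g.lTensor N x = 0) :
    ∃ (m : ℕ) (h : (Fin n → A) →ₗ[A] (Fin m → A)) (g' : (Fin m → A) →ₗ[A] M), g' ∘ₗ h = g ∧ h.lTensor N x = 0 := by
  classical
  let b := Pi.basisFun A (Fin n)
  obtain ⟨s, hs⟩ : ∃ s : Fin n → N, x = ∑ i, s i ⊗ₜ[A] b i := by
    induction x using TensorProduct.induction_on with
    | zero => exact ⟨0, by simp⟩
    | tmul a v =>
      refine ⟨fun i => b.repr v i • a, ?_⟩
      conv_lhs => rw [← b.sum_repr v, TensorProduct.tmul_sum]
      simp only [TensorProduct.tmul_smul, TensorProduct.smul_tmul']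
    | add p q hp hq =>
      have hp0 : ∀ z : N ⊗[A] (Fin n → A), ∃ s : Fin n → N, z = ∑ i, s i ⊗ₜ[A] b i := fun z => by
        induction z using TensorProduct.induction_on with
        | zero => exact ⟨0, by simp⟩
        | tmul a v =>
          refine ⟨fun i => b.repr v i • a, ?_⟩
          conv_lhs => rw [← b.sum_repr v, TensorProduct.tmul_sum]
          simp only [TensorProduct.tmul_smul, TensorProduct.smul_tmul']
        | add p q hp hq =>
          obtain ⟨s, rfl⟩ := hp; obtain ⟨t, rfl⟩ := hq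
          exact ⟨s + t, by simp [TensorProduct.add_tmul, Finset.sum_add_distrib]⟩
      exact hp0 (p + q)
  rw [hs, map_sum] at hx
  simp only [LinearMap.lTensor_tmul] at hx
  obtain ⟨k, a, y, hy, hs0⟩ := TensorProduct.vanishesTrivially_of_sum_tmul_eq_zero_of_rTensor_injective A
    (Module.Flat.rTensor_preserves_injective_linearMap (M := M) _ (Submodule.injective_subtype _)) hx
  refine ⟨k, b.constr A a, Fintype.linearCombination A y, b.ext fun i => ?_, ?_⟩
  · rw [LinearMap.comp_apply, Module.Basis.constr_basis, Fintype.linearCombination_apply]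
    exact (hy i).symm
  · rw [hs, map_sum]
    simp only [LinearMap.lTensor_tmul, Module.Basis.constr_basis]
    have : ∀ i, s i ⊗ₜ[A] a i = ∑ j, (a i j • s i) ⊗ₜ[A] (Pi.single j 1 : Fin k → A) := fun i => by
      conv_lhs => rw [pi_eq_sum_univ (a i), TensorProduct.tmul_sum]
      refine Finset.sum_congr rfl fun j _ => ?_
      rw [TensorProduct.tmul_smul, TensorProduct.smul_tmul']
      congr 1
      funext l
      simp [Pi.single_apply, eq_comm]
    simp only [this]
    rw [Finset.sum_comm]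
    simp only [← TensorProduct.sum_tmul, hs0, TensorProduct.zero_tmul, Finset.sum_const_zero]

section Split

variable (A)

/-- Splitting off the last factor of a tensor power. -/
noncomputable def splitLast (d : ℕ) (X : Type u) [AddCommGroup X] [Module A X] :
    (⨂[A] _ : Fin (d + 1), X) ≃ₗ[A] (⨂[A] _ : Fin d, X) ⊗[A] X :=
  PiTensorProduct.reindex A (fun _ : Fin (d + 1) => X) (finSumFinEquiv (m := d) (n := 1)).symm ≪≫ₗ
    (PiTensorProduct.tmulEquiv A X).symm ≪≫ₗ
    TensorProduct.congr (LinearEquiv.refl A _) (PiTensorProduct.subsingletonEquiv (0 : Fin 1))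

variable {A}

theorem splitLast_tprod (d : ℕ) {X : Type u} [AddCommGroup X] [Module A X] (p : Fin (d + 1) → X) :
    splitLast A d X (PiTensorProduct.tprod A p) =
      PiTensorProduct.tprod A (fun j : Fin d => p j.castSucc) ⊗ₜ[A] p (Fin.last d) := by
  simp only [splitLast, LinearEquiv.trans_apply, PiTensorProduct.reindex_tprod,
    PiTensorProduct.tmulEquiv_symm_apply, TensorProduct.congr_tmul, LinearEquiv.refl_apply,
    PiTensorProduct.subsingletonEquiv_apply_tprod]
  rfl

theorem splitLast_pmap (d : ℕ) {X Y : Type u} [AddCommGroup X] [Module A X] [AddCommGroup Y] [Module A Y]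
    (f : X →ₗ[A] Y) (x : ⨂[A] _ : Fin (d + 1), X) :
    splitLast A d Y (pmap (d + 1) f x) = TensorProduct.map (pmap d f) f (splitLast A d X x) := by
  have : (splitLast A d Y).toLinearMap ∘ₗ pmap (d + 1) f =
      TensorProduct.map (pmap d f) f ∘ₗ (splitLast A d X).toLinearMap := by
    refine PiTensorProduct.ext (MultilinearMap.ext fun p => ?_)
    simp only [LinearMap.compMultilinearMap_apply, LinearMap.comp_apply, LinearEquiv.coe_coe, pmap,
      PiTensorProduct.map_tprod, splitLast_tprod, TensorProduct.map_tmul]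
  exact LinearMap.congr_fun this x

/-- Splitting off the last factor, with a parameter module. -/
noncomputable def splitN (N : Type u) [AddCommGroup N] [Module A N] (d : ℕ) (X : Type u) [AddCommGroup X]
    [Module A X] : N ⊗[A] (⨂[A] _ : Fin (d + 1), X) ≃ₗ[A] (N ⊗[A] (⨂[A] _ : Fin d, X)) ⊗[A] X :=
  (splitLast A d X).lTensor N ≪≫ₗ (TensorProduct.assoc A N _ X).symm

theorem splitN_pmap (N : Type u) [AddCommGroup N] [Module A N] (d : ℕ) {X Y : Type u} [AddCommGroup X]
    [Module A X] [AddCommGroup Y] [Module A Y] (f : X →ₗ[A] Y) (x : N ⊗[A] (⨂[A] _ : Fin (d + 1), X)) :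
    splitN N d Y ((pmap (d + 1) f).lTensor N x) = TensorProduct.map ((pmap d f).lTensor N) f (splitN N d X x) := by
  induction x using TensorProduct.induction_on with
  | zero => simp
  | tmul a v =>
    simp only [splitN, LinearEquiv.trans_apply, LinearEquiv.lTensor_tmul, LinearMap.lTensor_tmul, splitLast_pmap]
    generalize splitLast A d X v = w
    induction w using TensorProduct.induction_on with
    | zero => simp
    | tmul p q => simp
    | add p q hp hq => simp only [map_add, TensorProduct.tmul_add, hp, hq]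
  | add p q hp hq => simp only [map_add, hp, hq]

end Split

variable [Module.Flat A M]

/-- Lazard's principle for tensor powers of a flat module. -/
theorem killPow (d : ℕ) : ∀ (N : Type u) [AddCommGroup N] [Module A N] {n : ℕ} (g : (Fin n → A) →ₗ[A] M)
    (x : N ⊗[A] (⨂[A] _ : Fin d, (Fin n → A))), (pmap d g).lTensor N x = 0 →
    ∃ (m : ℕ) (h : (Fin n → A) →ₗ[A] (Fin m → A)) (g' : (Fin m → A) →ₗ[A] M),
      g' ∘ₗ h = g ∧ (pmap d h).lTensor N x = 0 := by
  induction d with
  | zero =>
    intro N _ _ n g x hx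
    refine ⟨n, LinearMap.id, g, LinearMap.comp_id g, ?_⟩
    let E : ∀ (X : Type u) [AddCommGroup X] [Module A X], (⨂[A] _ : Fin 0, X) ≃ₗ[A] A := fun X _ _ =>
      PiTensorProduct.isEmptyEquiv (Fin 0)
    have h : (E M).toLinearMap ∘ₗ pmap 0 g = (E (Fin n → A)).toLinearMap := by
      refine PiTensorProduct.ext (MultilinearMap.ext fun p => ?_)
      simp [E, pmap]
    have h1 : (E (Fin n → A)).toLinearMap.lTensor N x = 0 := by
      rw [← h, LinearMap.lTensor_comp, LinearMap.comp_apply, hx, map_zero]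
    have h2 : x = 0 := ((E (Fin n → A)).lTensor N).injective (h1.trans (map_zero _).symm)
    rw [h2, map_zero]
  | succ d ih =>
    intro N _ _ n g x hx
    set y := splitN N d (Fin n → A) x with hy
    have h0 : TensorProduct.map ((pmap d g).lTensor N) g y = 0 := by rw [hy, ← splitN_pmap, hx, map_zero]
    obtain ⟨m₁, h₁, g₁, hg₁, hk₁⟩ := kill_one (N ⊗[A] (⨂[A] _ : Fin d, M)) g
      (((pmap d g).lTensor N).rTensor (Fin n → A) y) (by
        rw [← LinearMap.comp_apply, LinearMap.lTensor_comp_rTensor]; exact h0)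
    let y₁ := TensorProduct.map ((pmap d h₁).lTensor N) h₁ y
    have h01 : ((pmap d g₁).lTensor N).rTensor (Fin m₁ → A) y₁ = 0 := by
      have e1 : ((pmap d g₁).lTensor N).rTensor (Fin m₁ → A) ∘ₗ TensorProduct.map ((pmap d h₁).lTensor N) h₁ =
          h₁.lTensor _ ∘ₗ ((pmap d g).lTensor N).rTensor (Fin n → A) := by
        rw [LinearMap.lTensor_comp_rTensor, LinearMap.rTensor_comp_map, ← LinearMap.lTensor_comp]
        congr
        refine LinearMap.ext fun v => ?_
        rw [LinearMap.comp_apply, pmap_pmap, hg₁]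
      rw [show y₁ = TensorProduct.map ((pmap d h₁).lTensor N) h₁ y from rfl, ← LinearMap.comp_apply, e1,
        LinearMap.comp_apply, hk₁]
    let R : ∀ (X : Type u) [AddCommGroup X] [Module A X],
        (N ⊗[A] X) ⊗[A] (Fin m₁ → A) ≃ₗ[A] (N ⊗[A] (Fin m₁ → A)) ⊗[A] X :=
      fun X _ _ => TensorProduct.rightComm A N X (Fin m₁ → A)
    have hR : ∀ {X Y : Type u} [AddCommGroup X] [Module A X] [AddCommGroup Y] [Module A Y] (f : X →ₗ[A] Y) (z),
        R Y ((f.lTensor N).rTensor _ z) = f.lTensor _ (R X z) := by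
      intro X Y _ _ _ _ f z
      induction z using TensorProduct.induction_on with
      | zero => simp
      | tmul p q =>
        induction p using TensorProduct.induction_on with
        | zero => simp
        | tmul a b => simp [R]
        | add a b ha hb => simp only [TensorProduct.add_tmul, map_add, ha, hb]
      | add a b ha hb => simp only [map_add, ha, hb]
    obtain ⟨m₂, h₂, g₂, hg₂, hk₂⟩ := ih (N ⊗[A] (Fin m₁ → A)) g₁ (R _ y₁) (by rw [← hR, h01, map_zero])
    refine ⟨m₂, h₂ ∘ₗ h₁, g₂, by rw [← LinearMap.comp_assoc, hg₂, hg₁], ?_⟩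
    have h3 : ((pmap d h₂).lTensor N).rTensor (Fin m₁ → A) y₁ = 0 :=
      (R _).injective (by rw [hR, hk₂, map_zero])
    apply (splitN N d (Fin m₂ → A)).injective
    rw [map_zero, splitN_pmap, ← hy]
    have e2 : TensorProduct.map ((pmap d (h₂ ∘ₗ h₁)).lTensor N) (h₂ ∘ₗ h₁) =
        h₂.lTensor _ ∘ₗ ((pmap d h₂).lTensor N).rTensor (Fin m₁ → A) ∘ₗ TensorProduct.map ((pmap d h₁).lTensor N) h₁ := by
      rw [← LinearMap.comp_assoc, LinearMap.lTensor_comp_rTensor, ← TensorProduct.map_comp, ← LinearMap.lTensor_comp]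
      congr
      refine LinearMap.ext fun v => ?_
      rw [LinearMap.comp_apply, pmap_pmap]
    rw [e2, LinearMap.comp_apply, LinearMap.comp_apply]
    show h₂.lTensor _ (((pmap d h₂).lTensor N).rTensor (Fin m₁ → A) y₁) = 0
    rw [h3, map_zero]

theorem killPow' (d : ℕ) {n : ℕ} (g : (Fin n → A) →ₗ[A] M) (x : ⨂[A] _ : Fin d, (Fin n → A)) (hx : pmap d g x = 0) :
    ∃ (m : ℕ) (h : (Fin n → A) →ₗ[A] (Fin m → A)) (g' : (Fin m → A) →ₗ[A] M), g' ∘ₗ h = g ∧ pmap d h x = 0 := by
  obtain ⟨m, h, g', hg, hk⟩ := killPow d A g ((1 : A) ⊗ₜ[A] x) (by rw [LinearMap.lTensor_tmul, hx, TensorProduct.tmul_zero])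
  refine ⟨m, h, g', hg, ?_⟩
  simpa using congrArg (TensorProduct.lid A _) hk

omit [Module.Flat A M] in
theorem pmap_reindex (d : ℕ) {X Y : Type u} [AddCommGroup X] [Module A X] [AddCommGroup Y] [Module A Y]
    (f : X →ₗ[A] Y) (σ : Equiv.Perm (Fin d)) (x : ⨂[A] _ : Fin d, X) :
    PiTensorProduct.reindex A (fun _ : Fin d => Y) σ (pmap d f x) =
      pmap d f (PiTensorProduct.reindex A (fun _ : Fin d => X) σ x) := by
  have : (PiTensorProduct.reindex A (fun _ : Fin d => Y) σ).toLinearMap ∘ₗ pmap d f =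
      pmap d f ∘ₗ (PiTensorProduct.reindex A (fun _ : Fin d => X) σ).toLinearMap := by
    refine PiTensorProduct.ext (MultilinearMap.ext fun p => ?_)
    simp [pmap]
  exact LinearMap.congr_fun this x

omit [Module.Flat A M] in
theorem exists_join {n n' : ℕ} (g : (Fin n → A) →ₗ[A] M) (g' : (Fin n' → A) →ₗ[A] M) :
    ∃ (m : ℕ) (h : (Fin n → A) →ₗ[A] (Fin m → A)) (h' : (Fin n' → A) →ₗ[A] (Fin m → A))
      (G : (Fin m → A) →ₗ[A] M), G ∘ₗ h = g ∧ G ∘ₗ h' = g' := by
  classical
  let b := Pi.basisFun A (Fin (n + n'))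
  refine ⟨n + n', (Pi.basisFun A (Fin n)).constr A fun i => b (Fin.castAdd n' i),
    (Pi.basisFun A (Fin n')).constr A fun i => b (Fin.natAdd n i),
    b.constr A (Fin.addCases (fun i => g (Pi.basisFun A (Fin n) i)) fun i => g' (Pi.basisFun A (Fin n') i)), ?_, ?_⟩
  · refine (Pi.basisFun A (Fin n)).ext fun i => ?_
    rw [LinearMap.comp_apply, Module.Basis.constr_basis, Module.Basis.constr_basis, Fin.addCases_left]
  · refine (Pi.basisFun A (Fin n')).ext fun i => ?_
    rw [LinearMap.comp_apply, Module.Basis.constr_basis, Module.Basis.constr_basis, Fin.addCases_right]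

omit [Module.Flat A M] in
theorem exists_lift (d : ℕ) (y : ⨂[A] _ : Fin d, M) :
    ∃ (n : ℕ) (g : (Fin n → A) →ₗ[A] M) (x : ⨂[A] _ : Fin d, (Fin n → A)), pmap d g x = y := by
  induction y using PiTensorProduct.induction_on with
  | smul_tprod r f =>
    refine ⟨d, (Pi.basisFun A (Fin d)).constr A f, r • PiTensorProduct.tprod A fun i => Pi.basisFun A (Fin d) i, ?_⟩
    simp only [pmap, map_smul, PiTensorProduct.map_tprod, Module.Basis.constr_basis]
  | add x y hx hy =>
    obtain ⟨n, g, x, rfl⟩ := hx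
    obtain ⟨n', g', y, rfl⟩ := hy
    obtain ⟨m, h, h', G, hh, hh'⟩ := exists_join g g'
    exact ⟨m, G, pmap d h x + pmap d h' y, by rw [map_add, pmap_pmap, pmap_pmap, hh, hh']⟩

/-- Symmetric tensors of a flat module come from symmetric tensors of free modules. -/
theorem exists_symm_lift (d : ℕ) {y : ⨂[A] _ : Fin d, M} (hy : y ∈ symTen A M d) :
    ∃ (n : ℕ) (g : (Fin n → A) →ₗ[A] M) (x : ⨂[A] _ : Fin d, (Fin n → A)),
      x ∈ symTen A (Fin n → A) d ∧ pmap d g x = y := by
  classical
  suffices ∀ s : Finset (Equiv.Perm (Fin d)), ∃ (n : ℕ) (g : (Fin n → A) →ₗ[A] M) (x : ⨂[A] _ : Fin d, (Fin n → A)),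
      (∀ σ ∈ s, PiTensorProduct.reindex A (fun _ : Fin d => (Fin n → A)) σ x = x) ∧ pmap d g x = y by
    obtain ⟨n, g, x, hx, hgx⟩ := this Finset.univ
    exact ⟨n, g, x, fun σ => hx σ (Finset.mem_univ σ), hgx⟩
  intro s
  induction s using Finset.induction_on with
  | empty =>
    obtain ⟨n, g, x, hx⟩ := exists_lift d y
    exact ⟨n, g, x, fun σ hσ => absurd hσ (Finset.notMem_empty σ), hx⟩
  | insert σ s _ ih =>
    obtain ⟨n, g, x, hx, rfl⟩ := ih
    obtain ⟨m, h, g', hg, hk⟩ := killPow' d g (PiTensorProduct.reindex A (fun _ : Fin d => (Fin n → A)) σ x - x) (by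
      rw [map_sub, ← pmap_reindex, hy σ, sub_self])
    refine ⟨m, g', pmap d h x, fun τ hτ => ?_, by rw [pmap_pmap, hg]⟩
    rcases Finset.mem_insert.mp hτ with rfl | hτ
    · rwa [map_sub, sub_eq_zero, ← pmap_reindex] at hk
    · rw [pmap_reindex, hx τ hτ]

/-! ## Divided powers of a flat algebra -/

variable {B C : Type u} [CommRing B] [Algebra A B] [CommRing C] [Algebra A C] {d : ℕ} (γ : PolLaw.MulLaw A B C d)

/-- The linear map `⨂ F → C` attached to a linear map from a finite free module. -/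
noncomputable abbrev linG {n : ℕ} (g : (Fin n → A) →ₗ[A] B) : (⨂[A] _ : Fin d, (Fin n → A)) →ₗ[A] C :=
  lin ((Pi.basisFun A (Fin n)).reindex Equiv.ulift.{u, 0}.symm) (PolLaw.precomp γ.law g)

omit [Module.Flat A M] in
theorem linG_pmap {n m : ℕ} (g : (Fin m → A) →ₗ[A] B) (h : (Fin n → A) →ₗ[A] (Fin m → A))
    {x : ⨂[A] _ : Fin d, (Fin n → A)} (hx : x ∈ symTen A (Fin n → A) d) :
    linG γ g (pmap d h x) = linG γ (g ∘ₗ h) x := by
  rw [linG, linG, pmap, lin_map _ _ (precomp_homog _ γ.homog g) h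
    ((Pi.basisFun A (Fin n)).reindex Equiv.ulift.{u, 0}.symm) hx]
  congr 2
  apply PolynomialLaw.ext
  funext S _ _ z
  show γ.law.toFun' S (g.lTensor S (h.lTensor S z)) = γ.law.toFun' S ((g ∘ₗ h).lTensor S z)
  rw [LinearMap.lTensor_comp, LinearMap.comp_apply]

omit [Module.Flat A M] in
theorem val_linG (φ : C →ₐ[A] SymTen.TS A B d)
    (hφ : PolLaw.postcomp ((SymTen.TS A B d).val.comp φ).toLinearMap γ.law = (SymTen.tpowLaw A B d).law)
    {n : ℕ} (g : (Fin n → A) →ₗ[A] B) {x : ⨂[A] _ : Fin d, (Fin n → A)} (hx : x ∈ symTen A (Fin n → A) d) :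
    ((SymTen.TS A B d).val.comp φ) (linG γ g x) = pmap d g x := by
  have hs := mem_span_cf_tp ((Pi.basisFun A (Fin n)).reindex Equiv.ulift.{u, 0}.symm) hx
  clear hx
  induction hs using Submodule.span_induction with
  | zero => simp
  | add a b _ _ ha hb => simp only [map_add, ha, hb]
  | smul c a _ ha => simp only [map_smul, ha]
  | mem a ha =>
    obtain ⟨α, rfl⟩ := ha
    rw [linG, lin_cf_tp _ _ (precomp_homog _ γ.homog g), cf_precomp, pmap, map_cf_tp]
    exact (cf_postcomp _ _ _ _).symm.trans (by rw [hφ, tpowLaw_eq_tp])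

/-- Coefficients are natural in the index type. -/
theorem cf_comp {ι κ : Type u} (j : κ → ι) (hj : Function.Injective j) {X Y : Type u} [AddCommGroup X] [Module A X]
    [AddCommGroup Y] [Module A Y] (G : X →ₚₗ[A] Y) (m : ι → X) (β : κ →₀ ℕ) :
    cf G (m ∘ j) β = cf G m (β.mapDomain j) := by
  classical
  have hs : (β.mapDomain j).support = β.support.image j :=
    Finsupp.mapDomain_support_of_injective hj β
  have hg : (rename j : MvPolynomial κ A →ₐ[A] MvPolynomial ι A).toLinearMap.rTensor X (gen β.support (m ∘ j)) =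
      gen (β.mapDomain j).support m := by
    rw [gen, gen, hs, map_sum, Finset.sum_image hj.injOn]
    exact Finset.sum_congr rfl fun i _ => by
      rw [LinearMap.rTensor_tmul, AlgHom.toLinearMap_apply, rename_X]; rfl
  rw [cf, cf, ← hg, ← PolynomialLaw.isCompat_apply']
  generalize G.toFun' (MvPolynomial κ A) (gen β.support (m ∘ j)) = z
  induction z using TensorProduct.induction_on with
  | zero => simp
  | tmul p y => rw [LinearMap.rTensor_tmul, AlgHom.toLinearMap_apply, co_tmul, co_tmul, coeff_rename_mapDomain j hj]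
  | add a b ha hb => simp only [map_add, ha, hb]

omit [Module.Flat A M] in
theorem exists_linG_eq (hγ : PolLaw.IsGammaD γ) (c : C) :
    ∃ (n : ℕ) (g : (Fin n → A) →ₗ[A] B) (x : ⨂[A] _ : Fin d, (Fin n → A)),
      x ∈ symTen A (Fin n → A) d ∧ linG γ g x = c := by
  classical
  let π : MvPolynomial B A →ₐ[A] B := aeval id
  let e := MvPolynomial.basisMonomials B A
  obtain ⟨u, rfl⟩ := rho_surjective e π (exists_presentation A B) hγ c
  have hu : u ∈ Submodule.span A (Set.range (orb (d := d) e)) := by rw [span_orb]; exact Submodule.mem_top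
  induction hu using Submodule.span_induction with
  | zero => exact ⟨0, 0, 0, zero_mem _, by simp⟩
  | add a b _ _ ha hb =>
    obtain ⟨n, g, x, hx, hga⟩ := ha
    obtain ⟨n', g', y, hy, hgb⟩ := hb
    obtain ⟨m, h, h', G, hh, hh'⟩ := exists_join g g'
    refine ⟨m, G, pmap d h x + pmap d h' y, add_mem ?_ ?_, ?_⟩
    · intro σ; rw [pmap_reindex, hx σ]
    · intro σ; rw [pmap_reindex, hy σ]
    · rw [map_add, linG_pmap γ G h hx, linG_pmap γ G h' hy, hh, hh', hga, hgb, map_add]
  | smul r a _ ha =>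
    obtain ⟨n, g, x, hx, hga⟩ := ha
    exact ⟨n, g, r • x, Submodule.smul_mem _ r hx, by rw [map_smul, map_smul, hga]⟩
  | mem a ha =>
    obtain ⟨α, rfl⟩ := ha
    let s := α.support
    let j : ULift.{u} (Fin s.card) → (B →₀ ℕ) := fun i => (s.equivFin.symm i.down : B →₀ ℕ)
    have hj : Function.Injective j := fun a b h => ULift.down_injective (s.equivFin.symm.injective (Subtype.ext h))
    obtain ⟨β, hβ⟩ : ∃ β, Finsupp.mapDomain j β = α := by
      refine ⟨α.comapDomain j hj.injOn, Finsupp.mapDomain_comapDomain j hj _ fun i hi => ?_⟩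
      exact ⟨⟨s.equivFin ⟨i, hi⟩⟩, by simp [j]⟩
    let b0 := (Pi.basisFun A (Fin s.card)).reindex Equiv.ulift.{u, 0}.symm
    let g := b0.constr A fun i => π (e (j i))
    refine ⟨s.card, g, cf (tp A (Fin s.card → A) d) b0 β, cf_tp_mem _ β, ?_⟩
    rw [linG, lin_cf_tp _ _ (precomp_homog _ γ.homog g), cf_precomp, rho_orb,
      show g ∘ b0 = (π ∘ e) ∘ j from funext fun i => b0.constr_basis A _ i, cf_comp j hj, hβ]
    show _ = cf (PolLaw.precomp γ.law π.toLinearMap) e α
    rw [cf_precomp]
    rfl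

variable (φ : C →ₐ[A] SymTen.TS A B d)
  (hφ : PolLaw.postcomp ((SymTen.TS A B d).val.comp φ).toLinearMap γ.law = (SymTen.tpowLaw A B d).law)

include hφ in
/-- For a flat algebra the comparison map is injective after any tensor product. -/
theorem lTensor_injective [Module.Flat A B] (hγ : PolLaw.IsGammaD γ) (N : Type u) [AddCommGroup N] [Module A N] :
    Function.Injective (((SymTen.TS A B d).val.comp φ).toLinearMap.lTensor N) := by
  classical
  rw [injective_iff_map_eq_zero]
  intro z hz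
  suffices h : ∃ (n : ℕ) (g : (Fin n → A) →ₗ[A] B) (w : N ⊗[A] (⨂[A] _ : Fin d, (Fin n → A))),
      w ∈ LinearMap.range ((symTen A (Fin n → A) d).subtype.lTensor N) ∧ (linG γ g).lTensor N w = z by
    obtain ⟨n, g, w, ⟨w0, rfl⟩, rfl⟩ := h
    have e1 : ((SymTen.TS A B d).val.comp φ).toLinearMap ∘ₗ linG γ g ∘ₗ (symTen A (Fin n → A) d).subtype =
        pmap d g ∘ₗ (symTen A (Fin n → A) d).subtype := LinearMap.ext fun x => val_linG γ φ hφ g x.2
    simp only [← LinearMap.comp_apply, ← LinearMap.lTensor_comp] at hz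
    rw [e1, LinearMap.lTensor_comp, LinearMap.comp_apply] at hz
    obtain ⟨m, h, g', hg, hk⟩ := killPow d N g _ hz
    have e2 : linG γ g' ∘ₗ pmap d h ∘ₗ (symTen A (Fin n → A) d).subtype =
        linG γ g ∘ₗ (symTen A (Fin n → A) d).subtype := LinearMap.ext fun x => by
      simp only [LinearMap.comp_apply, Submodule.coe_subtype, linG_pmap γ g' h x.2, hg]
    rw [← LinearMap.comp_apply, ← LinearMap.lTensor_comp, ← e2, LinearMap.lTensor_comp, LinearMap.lTensor_comp,
      LinearMap.comp_apply, LinearMap.comp_apply, hk, map_zero]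
  clear hz
  induction z using TensorProduct.induction_on with
  | zero => exact ⟨0, 0, 0, zero_mem _, map_zero _⟩
  | tmul k c =>
    obtain ⟨n, g, x, hx, rfl⟩ := exists_linG_eq γ hγ c
    exact ⟨n, g, k ⊗ₜ[A] x, ⟨k ⊗ₜ[A] ⟨x, hx⟩, rfl⟩, rfl⟩
  | add a b ha hb =>
    obtain ⟨n, g, _, ⟨w, rfl⟩, rfl⟩ := ha
    obtain ⟨n', g', _, ⟨w', rfl⟩, rfl⟩ := hb
    obtain ⟨m, h, h', G, hh, hh'⟩ := exists_join g g'
    have key : ∀ {n : ℕ} (g₀ : (Fin n → A) →ₗ[A] B) (h₀ : (Fin n → A) →ₗ[A] (Fin m → A)), G ∘ₗ h₀ = g₀ →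
        ∀ w₀ : N ⊗[A] symTen A (Fin n → A) d, ∃ v ∈ LinearMap.range ((symTen A (Fin m → A) d).subtype.lTensor N),
          (linG γ G).lTensor N v = (linG γ g₀).lTensor N ((symTen A (Fin n → A) d).subtype.lTensor N w₀) := by
      intro n g₀ h₀ h0 w₀
      let p : symTen A (Fin n → A) d →ₗ[A] symTen A (Fin m → A) d :=
        (pmap d h₀ ∘ₗ (symTen A (Fin n → A) d).subtype).codRestrict _ fun x σ => by
          show PiTensorProduct.reindex A _ σ (pmap d h₀ x.1) = pmap d h₀ x.1
          rw [pmap_reindex, x.2 σ]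
      refine ⟨_, ⟨p.lTensor N w₀, rfl⟩, ?_⟩
      simp only [← LinearMap.comp_apply, ← LinearMap.lTensor_comp]
      congr 2
      exact LinearMap.ext fun x => by
        show linG γ G (pmap d h₀ x.1) = linG γ g₀ x.1
        rw [linG_pmap γ G h₀ x.2, h0]
    obtain ⟨v, hv, hv'⟩ := key g h hh w
    obtain ⟨v', hv2, hv2'⟩ := key g' h' hh' w'
    exact ⟨m, G, v + v', add_mem hv hv2, by rw [map_add, hv', hv2']⟩

include hφ in
/-- For a flat algebra the divided powers are the symmetric tensors. -/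
theorem bijective_of_flat [Module.Flat A B] (hγ : PolLaw.IsGammaD γ) : Function.Bijective φ := by
  refine ⟨fun a b h => ?_, fun y => ?_⟩
  · have := lTensor_injective γ φ hφ hγ A (a₁ := (1 : A) ⊗ₜ[A] a) (a₂ := (1 : A) ⊗ₜ[A] b) (by
      simp only [LinearMap.lTensor_tmul, AlgHom.toLinearMap_apply, AlgHom.comp_apply, h])
    simpa using congrArg (TensorProduct.lid A C) this
  · obtain ⟨n, g, x, hx, hxy⟩ := exists_symm_lift d y.2
    exact ⟨linG γ g x, Subtype.ext ((val_linG γ φ hφ g hx).trans hxy)⟩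

include γ φ hφ in
theorem flat_of_flat [Module.Flat A B] (hγ : PolLaw.IsGammaD γ) : Module.Flat A C := by
  classical
  refine Module.Flat.of_forall_isTrivialRelation fun {l r c} hrc => ?_
  have : ∀ s : Finset (Fin l), ∃ (n : ℕ) (g : (Fin n → A) →ₗ[A] B) (x : Fin l → ⨂[A] _ : Fin d, (Fin n → A)),
      (∀ i, x i ∈ symTen A (Fin n → A) d) ∧ ∀ i ∈ s, linG γ g (x i) = c i := by
    intro s
    induction s using Finset.induction_on with
    | empty => exact ⟨0, 0, 0, fun _ => zero_mem _, fun i hi => absurd hi (Finset.notMem_empty i)⟩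
    | insert a s _ ih =>
      obtain ⟨n, g, x, hx, hgx⟩ := ih
      obtain ⟨n', g', y, hy, hgy⟩ := exists_linG_eq γ hγ (c a)
      obtain ⟨m, h, h', G, hh, hh'⟩ := exists_join g g'
      refine ⟨m, G, fun i => if i = a then pmap d h' y else pmap d h (x i), fun i => ?_, fun i hi => ?_⟩
      · dsimp only
        split_ifs
        · intro σ; rw [pmap_reindex, hy σ]
        · intro σ; rw [pmap_reindex, hx i σ]
      · by_cases h0 : i = a
        · subst h0; simp only [if_pos, linG_pmap γ G h' hy, hh', hgy]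
        · simp only [if_neg h0, linG_pmap γ G h (hx i), hh]
          exact hgx i ((Finset.mem_insert.mp hi).resolve_left h0)
  obtain ⟨n, g, x, hx, hgx⟩ := this Finset.univ
  have h0 : pmap d g (∑ i, r i • x i) = 0 := by
    have h1 := congrArg ((SymTen.TS A B d).val.comp φ) hrc
    simp only [map_sum, map_smul, map_zero] at h1
    rw [map_sum, ← h1]
    refine Finset.sum_congr rfl fun i _ => ?_
    rw [map_smul, ← val_linG γ φ hφ g (hx i), hgx i (Finset.mem_univ i)]
  obtain ⟨m, h, g', hg, hk⟩ := killPow' d g _ h0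
  rw [map_sum] at hk
  simp only [map_smul] at hk
  have : Module.Free A (⨂[A] _ : Fin d, (Fin m → A)) :=
    Module.Free.of_basis (Basis.piTensorProduct fun _ : Fin d => Pi.basisFun A (Fin m))
  obtain ⟨k, a, y, hy, ha⟩ := Module.Flat.isTrivialRelation_of_sum_smul_eq_zero hk
  refine ⟨k, a, fun j => linG γ g' (y j), fun i => ?_, ha⟩
  rw [← hgx i (Finset.mem_univ i), ← hg, ← linG_pmap γ g' h (hx i),
    show pmap d h (x i) = ∑ j, a i j • y j from hy i, map_sum]
  simp only [map_smul]

end Groth.Agent.DivPow
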