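import Groth.Agent.DivPow.Tensor

/-!
# Symmetric tensors of a free algebra and the divided power algebra of a quotient
-/

set_option autoImplicit false
set_option linter.unusedSectionVars false
universe u

open scoped TensorProduct
open MvPolynomial

namespace Groth.Agent.DivPow

variable {A : Type u} [CommRing A] {d : ℕ}

section Descend

variable {M N Q : Type u} [AddCommGroup M] [Module A M] [AddCommGroup N] [Module A N] [AddCommGroup Q] [Module A Q]

/-- A law is constant on the fibres of a surjection as soon as it is so over polynomial rings. -/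
theorem const_fibers (G : M →ₚₗ[A] N) (g : M →ₗ[A] Q) (hg : Function.Surjective g)
    (hgen : ∀ (σ : Type u) (x y : MvPolynomial σ A ⊗[A] M),
      g.lTensor _ x = g.lTensor _ y → G.toFun' _ x = G.toFun' _ y)
    (S : Type u) [CommSemiring S] [Algebra A S] (x y : S ⊗[A] M) (h : g.lTensor S x = g.lTensor S y) :
    G.toFun' S x = G.toFun' S y := by
  classical
  letI : Ring S := Algebra.semiringToRing A
  have hex := lTensor_exact S (LinearMap.exact_subtype_ker_map g) hg
  obtain ⟨z, hz⟩ := (hex (y - x)).mp (by rw [map_sub, h, sub_self])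
  obtain ⟨s, t, hx⟩ := exists_sum (id : M → M) span_range_id S x
  obtain ⟨s', t', rfl⟩ := exists_sum (id : LinearMap.ker g → LinearMap.ker g) span_range_id S z
  have hy : y = x + ∑ i ∈ s', t' i ⊗ₜ[A] (i : M) := by
    rw [map_sum] at hz
    simp only [LinearMap.lTensor_tmul, Submodule.coe_subtype, id] at hz
    rw [hz, add_sub_cancel]
  let σ := M ⊕ LinearMap.ker g
  let X0 : MvPolynomial σ A ⊗[A] M := ∑ i ∈ s, X (Sum.inl i) ⊗ₜ[A] i
  let Y0 : MvPolynomial σ A ⊗[A] M := X0 + ∑ i ∈ s', X (Sum.inr i) ⊗ₜ[A] (i : M)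
  have h0 := hgen σ X0 Y0 (by
    simp only [Y0, map_add, map_sum, LinearMap.lTensor_tmul, LinearMap.map_coe_ker, TensorProduct.tmul_zero,
      Finset.sum_const_zero, add_zero])
  let ev : MvPolynomial σ A →ₐ[A] S := aeval (Sum.elim t t')
  have e1 : ev.toLinearMap.rTensor M X0 = x := by
    rw [hx]
    simp only [X0, map_sum, LinearMap.rTensor_tmul, AlgHom.toLinearMap_apply, ev, aeval_X, Sum.elim_inl, id]
  have e2 : ev.toLinearMap.rTensor M Y0 = y := by
    rw [hy]
    simp only [Y0, map_add, e1]
    simp only [map_sum, LinearMap.rTensor_tmul, AlgHom.toLinearMap_apply, ev, aeval_X, Sum.elim_inr]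
  rw [← e1, ← e2, ← PolynomialLaw.isCompat_apply', ← PolynomialLaw.isCompat_apply', h0]

/-- The law on the quotient. -/
noncomputable def descend (G : M →ₚₗ[A] N) (g : M →ₗ[A] Q) (hg : Function.Surjective g)
    (hgen : ∀ (σ : Type u) (x y : MvPolynomial σ A ⊗[A] M),
      g.lTensor _ x = g.lTensor _ y → G.toFun' _ x = G.toFun' _ y) : Q →ₚₗ[A] N where
  toFun' S _ _ := fun q => G.toFun' S (Function.surjInv (LinearMap.lTensor_surjective S hg) q)
  isCompat' {S} _ _ {S'} _ _ φ := by
    funext q
    simp only [Function.comp_apply]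
    rw [PolynomialLaw.isCompat_apply']
    refine const_fibers G g hg hgen S' _ _ ?_
    rw [Function.surjInv_eq (LinearMap.lTensor_surjective S' hg), ← LinearMap.comp_apply,
      LinearMap.lTensor_comp_rTensor, ← LinearMap.rTensor_comp_lTensor, LinearMap.comp_apply,
      Function.surjInv_eq (LinearMap.lTensor_surjective S hg)]

theorem descend_apply {G : M →ₚₗ[A] N} {g : M →ₗ[A] Q} {hg : Function.Surjective g}
    {hgen : ∀ (σ : Type u) (x y : MvPolynomial σ A ⊗[A] M),
      g.lTensor _ x = g.lTensor _ y → G.toFun' _ x = G.toFun' _ y}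
    (S : Type u) [CommSemiring S] [Algebra A S] (x : S ⊗[A] M) :
    (descend G g hg hgen).toFun' S (g.lTensor S x) = G.toFun' S x :=
  const_fibers G g hg hgen S _ _ (Function.surjInv_eq (LinearMap.lTensor_surjective S hg) _)

theorem descend_precomp {G : M →ₚₗ[A] N} {g : M →ₗ[A] Q} {hg : Function.Surjective g}
    {hgen : ∀ (σ : Type u) (x y : MvPolynomial σ A ⊗[A] M),
      g.lTensor _ x = g.lTensor _ y → G.toFun' _ x = G.toFun' _ y} :
    PolLaw.precomp (descend G g hg hgen) g = G := by
  apply PolynomialLaw.ext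
  funext S _ _ x
  show (descend G g hg hgen).toFun' S (g.lTensor S x) = G.toFun' S x
  exact descend_apply (G := G) (g := g) (hg := hg) (hgen := hgen) S x

theorem precomp_cancel {G H : Q →ₚₗ[A] N} {g : M →ₗ[A] Q} (hg : Function.Surjective g)
    (h : PolLaw.precomp G g = PolLaw.precomp H g) : G = H := by
  apply PolynomialLaw.ext
  funext S _ _ q
  obtain ⟨x, rfl⟩ := LinearMap.lTensor_surjective S hg q
  exact congrFun (congrArg (fun L : M →ₚₗ[A] N => L.toFun' S) h) x

end Descend

variable {B P C : Type u} [CommRing B] [Algebra A B] [CommRing P] [Algebra A P] [CommRing C] [Algebra A C]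

/-- The descent of a multiplicative law along a surjection of algebras. -/
noncomputable def descendMul (G : PolLaw.MulLaw A P C d) (π : P →ₐ[A] B) (hπ : Function.Surjective π)
    (hgen : ∀ (σ : Type u) (x y : MvPolynomial σ A ⊗[A] P),
      π.toLinearMap.lTensor _ x = π.toLinearMap.lTensor _ y → G.law.toFun' _ x = G.law.toFun' _ y) :
    PolLaw.MulLaw A B C d where
  law := descend G.law π.toLinearMap hπ hgen
  homog S _ _ s q := by
    have hπ' : Function.Surjective π.toLinearMap := hπ
    obtain ⟨x, rfl⟩ := LinearMap.lTensor_surjective S hπ' q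
    have h : ∀ z, (descend G.law π.toLinearMap hπ hgen).toFun' S (π.toLinearMap.lTensor S z) = G.law.toFun' S z :=
      fun z => descend_apply (G := G.law) (g := π.toLinearMap) (hg := hπ) (hgen := hgen) S z
    have e1 : s • π.toLinearMap.lTensor S x = π.toLinearMap.lTensor S (s • x) :=
      ((π.toLinearMap.baseChange S).map_smul s x).symm
    rw [e1, h, h]
    exact G.homog S s x
  mult S _ _ := by
    have hπ' : Function.Surjective π.toLinearMap := hπ
    have h : ∀ z, (descend G.law π.toLinearMap hπ hgen).toFun' S (π.toLinearMap.lTensor S z) = G.law.toFun' S z :=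
      fun z => descend_apply (G := G.law) (g := π.toLinearMap) (hg := hπ) (hgen := hgen) S z
    have hm : ∀ z, π.toLinearMap.lTensor S z = Algebra.TensorProduct.map (AlgHom.id S S) π z :=
      fun z => PolLaw.lTensor_algHom_apply π S z
    refine ⟨?_, fun q r => ?_⟩
    · have e1 : (1 : S ⊗[A] B) = π.toLinearMap.lTensor S 1 := by rw [hm]; exact (map_one _).symm
      rw [e1, h]
      exact (G.mult S).1
    · obtain ⟨x, rfl⟩ := LinearMap.lTensor_surjective S hπ' q
      obtain ⟨y, rfl⟩ := LinearMap.lTensor_surjective S hπ' r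
      have e1 : π.toLinearMap.lTensor S x * π.toLinearMap.lTensor S y = π.toLinearMap.lTensor S (x * y) := by
        rw [hm, hm, hm]; exact (map_mul _ x y).symm
      rw [e1, h, h, h]
      exact (G.mult S).2 x y

theorem descendMul_apply {G : PolLaw.MulLaw A P C d} {π : P →ₐ[A] B} {hπ : Function.Surjective π}
    {hgen : ∀ (σ : Type u) (x y : MvPolynomial σ A ⊗[A] P),
      π.toLinearMap.lTensor _ x = π.toLinearMap.lTensor _ y → G.law.toFun' _ x = G.law.toFun' _ y}
    (S : Type u) [CommSemiring S] [Algebra A S] (x : S ⊗[A] P) :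
    (descendMul G π hπ hgen).law.toFun' S (π.toLinearMap.lTensor S x) = G.law.toFun' S x :=
  descend_apply (G := G.law) (g := π.toLinearMap) (hg := hπ) (hgen := hgen) S x

section FreeAlgebra

variable {ι : Type u} (e : Module.Basis ι A P)

theorem mem_TS_iff_symTen (x : ⨂[A] _ : Fin d, P) : x ∈ SymTen.TS A P d ↔ x ∈ symTen A P d := Iff.rfl

/-- The orbit sum attached to a multi-index, as a symmetric tensor. -/
noncomputable def orb (α : ι →₀ ℕ) : SymTen.TS A P d := ⟨cf (tp A P d) e α, cf_tp_mem e α⟩

theorem span_orb : Submodule.span A (Set.range (orb (d := d) e)) = ⊤ := by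
  rw [eq_top_iff]
  rintro ⟨x, hx⟩ -
  have h := mem_span_cf_tp e ((mem_TS_iff_symTen x).mp hx)
  have himg : (Set.range fun α => cf (tp A P d) e α) =
      (SymTen.TS A P d).val.toLinearMap '' Set.range (orb (d := d) e) := by
    rw [← Set.range_comp]; rfl
  rw [himg, ← Submodule.map_span] at h
  obtain ⟨y, hy, hyx⟩ := h
  have : y = ⟨x, hx⟩ := Subtype.ext hyx
  rwa [← this]

theorem TS_hom_ext {D : Type u} [CommRing D] [Algebra A D] {f g : SymTen.TS A P d →ₐ[A] D}
    (h : ∀ α, f (orb e α) = g (orb e α)) : f = g :=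
  AlgHom.toLinearMap_injective (LinearMap.ext_on_range (span_orb e) h)

/-- The values of the linear map of a multiplicative law at products of orbit sums. -/
theorem lin_mul (G : PolLaw.MulLaw A P C d) {x y : ⨂[A] _ : Fin d, P} (hx : x ∈ symTen A P d)
    (hy : y ∈ symTen A P d) : lin e G.law (x * y) = lin e G.law x * lin e G.law y := by
  classical
  have key : ∀ α β : ι →₀ ℕ, lin e G.law (cf (tp A P d) e α * cf (tp A P d) e β) =
      cf G.law e α * cf G.law e β := by
    intro α β
    let xx : (MvPolynomial (ι ⊕ ι) A) ⊗[A] P := ∑ i ∈ α.support, X (Sum.inl i) ⊗ₜ[A] e i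
    let yy : (MvPolynomial (ι ⊕ ι) A) ⊗[A] P := ∑ i ∈ β.support, X (Sum.inr i) ⊗ₜ[A] e i
    have h1 := (G.mult (MvPolynomial (ι ⊕ ι) A)).2 xx yy
    rw [eq_postcomp_lin e G.law G.homog] at h1
    change (lin e G.law).lTensor (MvPolynomial (ι ⊕ ι) A) ((tp A P d).toFun' (MvPolynomial (ι ⊕ ι) A) (xx * yy)) =
      (lin e G.law).lTensor (MvPolynomial (ι ⊕ ι) A) ((tp A P d).toFun' (MvPolynomial (ι ⊕ ι) A) xx) * (lin e G.law).lTensor (MvPolynomial (ι ⊕ ι) A) ((tp A P d).toFun' (MvPolynomial (ι ⊕ ι) A) yy) at h1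
    rw [← tpowLaw_eq_tp, ((SymTen.tpowLaw A P d).mult (MvPolynomial (ι ⊕ ι) A)).2, tpowLaw_eq_tp] at h1
    have h2 : ∀ (j : ι → ι ⊕ ι) (s : Finset ι), (tp A P d).toFun' (MvPolynomial (ι ⊕ ι) A) (∑ i ∈ s, X (j i) ⊗ₜ[A] e i) =
        ∑ p ∈ Fintype.piFinset (fun _ : Fin d => s),
          monomial (Finsupp.mapDomain j (ms p)) (1 : A) ⊗ₜ[A] PiTensorProduct.tprod A (fun l => e (p l)) := by
      intro j s
      rw [tp_sum]
      refine Finset.sum_congr rfl fun p _ => ?_
      rw [show (∏ l, X (j (p l)) : (MvPolynomial (ι ⊕ ι) A)) = rename j (∏ l, X (p l) : MvPolynomial ι A) by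
        rw [map_prod]; simp [rename_X], prod_X, rename_monomial]
    simp only [xx, yy, h2] at h1
    rw [Finset.sum_mul_sum] at h1
    simp only [map_sum, Algebra.TensorProduct.tmul_mul_tmul, monomial_mul, one_mul, LinearMap.lTensor_tmul] at h1
    rw [Finset.sum_mul_sum] at h1
    simp only [Algebra.TensorProduct.tmul_mul_tmul, monomial_mul, one_mul] at h1
    have h3 := congrArg (co (Finsupp.mapDomain Sum.inl α + Finsupp.mapDomain Sum.inr β)) h1
    simp only [map_sum, co_monomial, one_smul] at h3
    have hinj : ∀ a b a' b' : ι →₀ ℕ, Finsupp.mapDomain Sum.inl a + Finsupp.mapDomain Sum.inr b =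
        Finsupp.mapDomain (Sum.inl : ι → ι ⊕ ι) a' + Finsupp.mapDomain Sum.inr b' ↔ a = a' ∧ b = b' := by
      refine fun a b a' b' => ⟨fun h => ⟨Finsupp.ext fun i => ?_, Finsupp.ext fun i => ?_⟩, fun h => by rw [h.1, h.2]⟩
      · have := DFunLike.congr_fun h (Sum.inl i)
        simpa [Finsupp.mapDomain_apply Sum.inl_injective, Finsupp.mapDomain_of_notMem_range] using this
      · have := DFunLike.congr_fun h (Sum.inr i)
        simpa [Finsupp.mapDomain_apply Sum.inr_injective, Finsupp.mapDomain_of_notMem_range] using this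
    simp only [hinj, ite_and, Finset.sum_ite_irrel, Finset.sum_const_zero] at h3
    simp only [← Finset.sum_filter] at h3
    have hf : ∀ γ : ι →₀ ℕ, (Fintype.piFinset fun _ : Fin d => γ.support).filter (fun p => ms p = γ) = fib d γ :=
      fun γ => by rw [fib]
    rw [hf, hf] at h3
    rw [cf_tp, cf_tp, Finset.sum_mul_sum, map_sum]
    simp only [map_sum]
    rw [h3, ← Finset.sum_mul_sum, ← map_sum (lin e G.law), ← map_sum (lin e G.law), ← cf_tp, ← cf_tp,
      lin_cf_tp e G.law G.homog, lin_cf_tp e G.law G.homog]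
  have hx' := mem_span_cf_tp e hx
  have hy' := mem_span_cf_tp e hy
  clear hx hy
  induction hx' using Submodule.span_induction with
  | zero => simp
  | add a b _ _ ha hb => rw [add_mul, map_add, map_add, add_mul, ha, hb]
  | smul c a _ ha => rw [smul_mul_assoc, map_smul, map_smul, smul_mul_assoc, ha]
  | mem a ha =>
    induction hy' using Submodule.span_induction with
    | zero => simp
    | add a b _ _ ha hb => rw [mul_add, map_add, map_add, mul_add, ha, hb]
    | smul c a _ ha => rw [mul_smul_comm, map_smul, map_smul, mul_smul_comm, ha]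
    | mem b hb =>
      obtain ⟨α, rfl⟩ := ha
      obtain ⟨β, rfl⟩ := hb
      rw [key, lin_cf_tp e G.law G.homog, lin_cf_tp e G.law G.homog]

theorem lin_one (G : PolLaw.MulLaw A P C d) : lin e G.law (1 : ⨂[A] _ : Fin d, P) = 1 := by
  have h := (G.mult A).1
  rw [eq_postcomp_lin e G.law G.homog] at h
  change (lin e G.law).lTensor A ((tp A P d).toFun' A 1) = 1 at h
  rw [← tpowLaw_eq_tp, ((SymTen.tpowLaw A P d).mult A).1, Algebra.TensorProduct.one_def, LinearMap.lTensor_tmul] at h
  simpa [Algebra.TensorProduct.one_def] using congrArg (TensorProduct.lid A C) h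

/-- The algebra map out of the symmetric tensors of a free algebra attached to a multiplicative law. -/
noncomputable def rho (G : PolLaw.MulLaw A P C d) : SymTen.TS A P d →ₐ[A] C :=
  AlgHom.ofLinearMap ((lin e G.law).comp (SymTen.TS A P d).val.toLinearMap) (lin_one e G)
    fun x y => lin_mul e G ((mem_TS_iff_symTen _).mp x.2) ((mem_TS_iff_symTen _).mp y.2)

theorem rho_apply (G : PolLaw.MulLaw A P C d) (x : SymTen.TS A P d) : rho e G x = lin e G.law (x : ⨂[A] _ : Fin d, P) := rfl

theorem rho_orb (G : PolLaw.MulLaw A P C d) (α : ι →₀ ℕ) : rho e G (orb e α) = cf G.law e α :=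
  lin_cf_tp e G.law G.homog α

/-- The projection of the tensor power onto the symmetric tensors of a free algebra. -/
noncomputable def symProj : (⨂[A] _ : Fin d, P) →ₗ[A] SymTen.TS A P d :=
  (Basis.piTensorProduct fun _ : Fin d => e).constr A fun p =>
    haveI := Classical.decPred (IsRep (ι := ι) (d := d))
    if IsRep p then orb e (ms p) else 0

theorem symProj_val (x : ⨂[A] _ : Fin d, P) :
    (symProj e x : ⨂[A] _ : Fin d, P) = lin e (tp A P d) x := by
  have : (SymTen.TS A P d).val.toLinearMap ∘ₗ symProj e = lin e (tp A P d) := by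
    refine (Basis.piTensorProduct fun _ : Fin d => e).ext fun p => ?_
    rw [LinearMap.comp_apply, symProj, lin, Module.Basis.constr_basis, Module.Basis.constr_basis]
    split_ifs <;> rfl
  exact LinearMap.congr_fun this x

theorem symProj_of_mem (x : SymTen.TS A P d) : symProj e (x : ⨂[A] _ : Fin d, P) = x := by
  have : symProj e ∘ₗ (SymTen.TS A P d).val.toLinearMap = LinearMap.id := by
    refine LinearMap.ext_on_range (span_orb e) fun α => Subtype.ext ?_
    rw [LinearMap.comp_apply, symProj_val]
    exact lin_cf_tp e (tp A P d) (tp_homog A P d) α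
  exact LinearMap.congr_fun this x

include e in
theorem val_lTensor_injective (S : Type u) [CommSemiring S] [Algebra A S] :
    Function.Injective ((SymTen.TS A P d).val.toLinearMap.lTensor S) := by
  have h : symProj e ∘ₗ (SymTen.TS A P d).val.toLinearMap = LinearMap.id := LinearMap.ext (symProj_of_mem e)
  intro a b hab
  have := congrArg ((symProj e).lTensor S) hab
  rwa [← LinearMap.comp_apply, ← LinearMap.comp_apply, ← LinearMap.lTensor_comp, h, LinearMap.lTensor_id] at this

theorem val_symProj_tp :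
    PolLaw.postcomp (SymTen.TS A P d).val.toLinearMap (PolLaw.postcomp (symProj e) (tp A P d)) = tp A P d := by
  refine law_ext_cf e e.span_eq fun α => ?_
  rw [cf_postcomp, cf_postcomp]
  show (symProj e (cf (tp A P d) e α) : ⨂[A] _ : Fin d, P) = _
  rw [symProj_val, lin_cf_tp e _ (tp_homog A P d)]

/-- The universal law into the symmetric tensors of a free algebra. -/
noncomputable def tauFree : PolLaw.MulLaw A P (SymTen.TS A P d) d where
  law := PolLaw.postcomp (symProj e) (tp A P d)
  homog S _ _ s x := by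
    show (symProj e).lTensor S ((tp A P d).toFun' S (s • x)) = s ^ d • (symProj e).lTensor S _
    rw [tp_homog A P d S s x]
    exact ((symProj e).baseChange S).map_smul (s ^ d) _
  mult S _ _ := by
    have hv : ∀ z, (SymTen.TS A P d).val.toLinearMap.lTensor S ((PolLaw.postcomp (symProj e) (tp A P d)).toFun' S z) =
        (SymTen.tpowLaw A P d).law.toFun' S z := fun z => by
      rw [tpowLaw_eq_tp]
      exact congrFun (congrArg (fun L : P →ₚₗ[A] (⨂[A] _ : Fin d, P) => L.toFun' S) (val_symProj_tp e)) z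
    refine ⟨val_lTensor_injective e S ?_, fun x y => val_lTensor_injective e S ?_⟩
    · rw [hv, ((SymTen.tpowLaw A P d).mult S).1, PolLaw.lTensor_algHom_apply, map_one]
    · rw [hv, ((SymTen.tpowLaw A P d).mult S).2, ← hv, ← hv, PolLaw.lTensor_algHom_apply,
        PolLaw.lTensor_algHom_apply, PolLaw.lTensor_algHom_apply, map_mul]

theorem cf_tauFree (α : ι →₀ ℕ) : cf (tauFree (d := d) e).law e α = orb e α := by
  rw [show (tauFree (d := d) e).law = PolLaw.postcomp (symProj e) (tp A P d) from rfl, cf_postcomp]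
  exact symProj_of_mem e (orb e α)

theorem rho_tauFree (G : PolLaw.MulLaw A P C d) :
    PolLaw.postcomp (rho e G).toLinearMap (tauFree e).law = G.law := by
  refine law_ext_cf e e.span_eq fun α => ?_
  rw [cf_postcomp, cf_tauFree]
  exact rho_orb e G α

theorem isGammaD_tauFree : PolLaw.IsGammaD (tauFree (d := d) e) := by
  intro C' _ _ F
  refine ⟨rho e F, rho_tauFree e F, fun f hf => TS_hom_ext e fun α => ?_⟩
  rw [rho_orb, ← hf, cf_postcomp, cf_tauFree]
  rfl

end FreeAlgebra

section Quotient

variable {ι : Type u} (e : Module.Basis ι A P) (π : P →ₐ[A] B)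

theorem hom_ext {γ : PolLaw.MulLaw A B C d} (hγ : PolLaw.IsGammaD γ) {D : Type u} [CommRing D] [Algebra A D]
    {f g : C →ₐ[A] D} (h : PolLaw.postcomp f.toLinearMap γ.law = PolLaw.postcomp g.toLinearMap γ.law) : f = g :=
  (hγ D (γ.postcomp g)).unique h rfl

theorem rho_precomp_tau (γ : PolLaw.MulLaw A B C d) :
    PolLaw.postcomp (rho e (γ.precomp π)).toLinearMap (tauFree e).law = PolLaw.precomp γ.law π.toLinearMap :=
  rho_tauFree e (γ.precomp π)

/-- The divided powers of a quotient are a quotient of the symmetric tensors. -/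
theorem rho_surjective (hπ : Function.Surjective π) {γ : PolLaw.MulLaw A B C d} (hγ : PolLaw.IsGammaD γ) :
    Function.Surjective (rho e (γ.precomp π)) := by
  set ρ := rho e (γ.precomp π) with hρ
  let G := (tauFree (d := d) e).postcomp ρ.rangeRestrict
  have hG : PolLaw.postcomp ρ.range.val.toLinearMap G.law = PolLaw.precomp γ.law π.toLinearMap := by
    rw [← rho_precomp_tau e π γ]
    apply PolynomialLaw.ext
    funext S _ _ x
    show ρ.range.val.toLinearMap.lTensor S (ρ.rangeRestrict.toLinearMap.lTensor S _) = ρ.toLinearMap.lTensor S _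
    rw [← LinearMap.comp_apply, ← LinearMap.lTensor_comp]
    rfl
  let H := descendMul G π hπ fun σ x y hxy => by
    have hinj : Function.Injective (ρ.range.val.toLinearMap.lTensor (MvPolynomial σ A)) :=
      Module.Flat.lTensor_preserves_injective_linearMap _ Subtype.val_injective
    apply hinj
    have h : ∀ z, ρ.range.val.toLinearMap.lTensor (MvPolynomial σ A) (G.law.toFun' _ z) =
        γ.law.toFun' _ (π.toLinearMap.lTensor _ z) := fun z =>
      congrFun (congrArg (fun L : P →ₚₗ[A] C => L.toFun' (MvPolynomial σ A)) hG) z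
    rw [h, h, hxy]
  obtain ⟨f, hf, -⟩ := hγ ρ.range H
  have hid : ρ.range.val.comp f = AlgHom.id A C := by
    refine hom_ext hγ (precomp_cancel (g := π.toLinearMap) hπ ?_)
    apply PolynomialLaw.ext
    funext S _ _ x
    show (ρ.range.val.toLinearMap ∘ₗ f.toLinearMap).lTensor S (γ.law.toFun' S (π.toLinearMap.lTensor S x)) =
      (LinearMap.id : C →ₗ[A] C).lTensor S (γ.law.toFun' S (π.toLinearMap.lTensor S x))
    rw [LinearMap.lTensor_comp, LinearMap.lTensor_id, LinearMap.id_apply, LinearMap.comp_apply]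
    have h1 : f.toLinearMap.lTensor S (γ.law.toFun' S (π.toLinearMap.lTensor S x)) =
        H.law.toFun' S (π.toLinearMap.lTensor S x) :=
      congrFun (congrArg (fun L : B →ₚₗ[A] ρ.range => L.toFun' S) hf) _
    rw [h1]
    refine Eq.trans (congrArg _ (descendMul_apply S x)) ?_
    exact congrFun (congrArg (fun L : P →ₚₗ[A] C => L.toFun' S) hG) x
  intro c
  obtain ⟨u, hu⟩ := (f c).2
  exact ⟨u, hu.trans (AlgHom.congr_fun hid c)⟩

/-- Divided power algebras exist. -/
theorem exists_gammaD (hπ : Function.Surjective π) (e : Module.Basis ι A P) :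
    ∃ (D : Type u) (_ : CommRing D) (_ : Algebra A D) (γ : PolLaw.MulLaw A B D d), PolLaw.IsGammaD γ := by
  let J : Ideal (SymTen.TS A P d) := sInf {I | ∃ (C' : Type u) (_ : CommRing C') (_ : Algebra A C')
    (γ : PolLaw.MulLaw A B C' d), I = RingHom.ker (rho e (γ.precomp π))}
  let q : SymTen.TS A P d →ₐ[A] SymTen.TS A P d ⧸ J := Ideal.Quotient.mkₐ A J
  let G : PolLaw.MulLaw A P (SymTen.TS A P d ⧸ J) d := (tauFree (d := d) e).postcomp (C' := SymTen.TS A P d ⧸ J) q
  let H := descendMul G π hπ fun σ x y hxy => by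
    refine co_ext fun α => ?_
    show co α (q.toLinearMap.lTensor _ ((tauFree e).law.toFun' _ x)) = co α (q.toLinearMap.lTensor _ ((tauFree e).law.toFun' _ y))
    rw [co_lTensor, co_lTensor, ← sub_eq_zero, ← map_sub]
    refine Ideal.Quotient.eq_zero_iff_mem.mpr (Ideal.mem_sInf.mpr ?_)
    rintro I ⟨C', _, _, γ, rfl⟩
    rw [RingHom.mem_ker, map_sub, sub_eq_zero]
    have h : ∀ z, (rho e (γ.precomp π)).toLinearMap (co α ((tauFree e).law.toFun' (MvPolynomial σ A) z)) =
        co α (γ.law.toFun' _ (π.toLinearMap.lTensor _ z)) := fun z => by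
      rw [← co_lTensor]
      exact congrArg _ (congrFun (congrArg (fun L : P →ₚₗ[A] C' => L.toFun' (MvPolynomial σ A)) (rho_precomp_tau e π γ)) z)
    exact (h x).trans ((congrArg _ (congrArg _ hxy)).trans (h y).symm)
  refine ⟨SymTen.TS A P d ⧸ J, inferInstance, inferInstance, H, fun C' _ _ F => ?_⟩
  let f : (SymTen.TS A P d ⧸ J) →ₐ[A] C' := Ideal.Quotient.liftₐ J (rho e (F.precomp π)) fun a ha =>
    (Ideal.mem_sInf.mp ha) ⟨C', inferInstance, inferInstance, F, rfl⟩
  have hfq : f.comp q = rho e (F.precomp π) := AlgHom.ext fun a => rfl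
  have hf : PolLaw.postcomp f.toLinearMap H.law = F.law := by
    refine precomp_cancel (g := π.toLinearMap) hπ ?_
    rw [← rho_precomp_tau e π F]
    apply PolynomialLaw.ext
    funext S _ _ x
    show f.toLinearMap.lTensor S (H.law.toFun' S (π.toLinearMap.lTensor S x)) = _
    refine Eq.trans (congrArg _ (descendMul_apply S x)) ?_
    show f.toLinearMap.lTensor S (q.toLinearMap.lTensor S _) = (rho e (F.precomp π)).toLinearMap.lTensor S _
    rw [← LinearMap.comp_apply, ← LinearMap.lTensor_comp, ← hfq]
    rfl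
  refine ⟨f, hf, fun g hg => ?_⟩
  have hgq : g.comp q = rho e (F.precomp π) := by
    refine TS_hom_ext e fun α => ?_
    rw [rho_orb, ← cf_tauFree e α]
    show (g.toLinearMap ∘ₗ q.toLinearMap) (cf (tauFree e).law e α) = cf (PolLaw.precomp F.law π.toLinearMap) e α
    rw [← cf_postcomp, ← hg]
    congr 1
    apply PolynomialLaw.ext
    funext S _ _ x
    show (g.toLinearMap ∘ₗ q.toLinearMap).lTensor S _ = g.toLinearMap.lTensor S (H.law.toFun' S (π.toLinearMap.lTensor S x))
    refine Eq.trans ?_ (congrArg _ (descendMul_apply S x)).symm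
    rw [LinearMap.lTensor_comp]
    rfl
  refine Ideal.Quotient.algHom_ext A ?_
  rw [hgq, hfq]

end Quotient

/-- Every algebra is a quotient of a free one. -/
theorem exists_presentation (A : Type u) [CommRing A] (B : Type u) [CommRing B] [Algebra A B] :
    Function.Surjective (aeval (id : B → B) : MvPolynomial B A →ₐ[A] B) := fun b => ⟨X b, aeval_X _ _⟩

theorem exists_gammaD' (A : Type u) [CommRing A] (B : Type u) [CommRing B] [Algebra A B] (d : ℕ) :
    ∃ (D : Type u) (_ : CommRing D) (_ : Algebra A D) (γ : PolLaw.MulLaw A B D d), PolLaw.IsGammaD γ :=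
  exists_gammaD (aeval (id : B → B)) (exists_presentation A B) (MvPolynomial.basisMonomials B A)

end Groth.Agent.DivPow
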