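import Groth.Agent.DivPow.Fin
import Groth.Agent.Tower.Colim
import Groth.Agent.EtaPt.UnivHomeo

/-!
# The comparison of divided powers with symmetric tensors is a universal homeomorphism
-/

set_option autoImplicit false
set_option linter.unusedSectionVars false
universe u

open scoped TensorProduct
open MvPolynomial

namespace Groth.Agent.DivPow

variable {A B : Type u} [CommRing A] [CommRing B] [Algebra A B]

theorem isIntegral_tensorPower_TS (d : ℕ) : Algebra.IsIntegral (SymTen.TS A B d) (⨂[A] _ : Fin d, B) := by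
  classical
  let R := SymTen.TS A B d
  let T := ⨂[A] _ : Fin d, B
  refine ⟨fun z => ?_⟩
  let q : Polynomial T := ∏ σ : Equiv.Perm (Fin d), (Polynomial.X - Polynomial.C (SymTen.perm A B d σ z))
  have hq : ∀ τ, q.map (SymTen.perm A B d τ).toRingHom = q := by
    intro τ
    rw [Polynomial.map_prod]
    simp only [Polynomial.map_sub, Polynomial.map_X, Polynomial.map_C, AlgHom.toRingHom_eq_coe, RingHom.coe_coe,
      perm_perm]
    exact Equiv.prod_comp (Equiv.mulLeft τ) fun σ => Polynomial.X - Polynomial.C (SymTen.perm A B d σ z)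
  have hlift : q ∈ Polynomial.lifts (algebraMap R T) := by
    rw [Polynomial.lifts_iff_coeff_lifts]
    intro i
    refine ⟨⟨q.coeff i, fun τ => ?_⟩, rfl⟩
    rw [← SymTen.perm_apply]
    have := congrArg (fun r => Polynomial.coeff r i) (hq τ)
    rw [Polynomial.coeff_map] at this
    exact this
  rcases subsingleton_or_nontrivial T with hsub | hnt
  · rw [Subsingleton.elim z 0]; exact isIntegral_zero
  obtain ⟨q₀, hq₀, -, hmon⟩ := Polynomial.lifts_and_degree_eq_and_monic hlift (Polynomial.monic_prod_of_monic _ _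
    fun σ _ => Polynomial.monic_X_sub_C _)
  refine ⟨q₀, hmon, ?_⟩
  rw [← Polynomial.eval_map, hq₀, Polynomial.eval_prod]
  refine Finset.prod_eq_zero (Finset.mem_univ 1) ?_
  rw [SymTen.perm_apply, Equiv.Perm.one_def, PiTensorProduct.reindex_refl]
  simp

/-- A base change of a linear map to a field being bijective passes to tensor powers. -/
theorem bijective_lTensor_pmap (K : Type u) [AddCommGroup K] [Module A K] {X Y : Type u} [AddCommGroup X]
    [Module A X] [AddCommGroup Y] [Module A Y] (g : X →ₗ[A] Y) (hg : Function.Bijective (g.lTensor K)) :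
    ∀ d : ℕ, Function.Bijective ((pmap d g).lTensor K) := by
  intro d
  induction d with
  | zero =>
    let EX : (⨂[A] _ : Fin 0, X) ≃ₗ[A] A := PiTensorProduct.isEmptyEquiv (Fin 0)
    let EY : (⨂[A] _ : Fin 0, Y) ≃ₗ[A] A := PiTensorProduct.isEmptyEquiv (Fin 0)
    have h : pmap 0 g = (EX.trans EY.symm).toLinearMap := by
      refine PiTensorProduct.ext (MultilinearMap.ext fun p => ?_)
      simp only [LinearMap.compMultilinearMap_apply, pmap, PiTensorProduct.map_tprod, LinearEquiv.coe_coe,
        LinearEquiv.trans_apply]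
      rw [LinearEquiv.eq_symm_apply]
      simp [EX, EY]
    rw [h]
    exact ((EX.trans EY.symm).lTensor K).bijective
  | succ d ih =>
    have h1 : Function.Bijective (g.lTensor (K ⊗[A] (⨂[A] _ : Fin d, Y))) := by
      let eX : (K ⊗[A] (⨂[A] _ : Fin d, Y)) ⊗[A] X ≃ₗ[A] (K ⊗[A] X) ⊗[A] (⨂[A] _ : Fin d, Y) :=
        TensorProduct.rightComm A K _ X
      let eY : (K ⊗[A] (⨂[A] _ : Fin d, Y)) ⊗[A] Y ≃ₗ[A] (K ⊗[A] Y) ⊗[A] (⨂[A] _ : Fin d, Y) :=
        TensorProduct.rightComm A K _ Y
      let eg := LinearEquiv.ofBijective (g.lTensor K) hg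
      have h : (g.lTensor (K ⊗[A] (⨂[A] _ : Fin d, Y))) =
          (eX.trans ((eg.rTensor _).trans eY.symm)).toLinearMap := by
        refine TensorProduct.ext_threefold fun a b c => ?_
        simp [eX, eY, eg]
      rw [h]
      exact (eX.trans ((eg.rTensor _).trans eY.symm)).bijective
    have h2 : Function.Bijective (((pmap d g).lTensor K).rTensor X) :=
      ((LinearEquiv.ofBijective _ ih).rTensor X).bijective
    have h3 : Function.Bijective (TensorProduct.map ((pmap d g).lTensor K) g) := by
      rw [← LinearMap.lTensor_comp_rTensor]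
      exact h1.comp h2
    have h4 : ((pmap (d + 1) g).lTensor K : _ → _) = (splitN K d Y).symm ∘
        TensorProduct.map ((pmap d g).lTensor K) g ∘ splitN K d X := by
      funext x
      simp only [Function.comp_apply]
      rw [← splitN_pmap, LinearEquiv.symm_apply_apply]
    rw [h4]
    exact (splitN K d Y).symm.bijective.comp (h3.comp (splitN K d X).bijective)

variable {C : Type u} [CommRing C] [Algebra A C] {d : ℕ} (γ : PolLaw.MulLaw A B C d)

/-- After base change to a field the symmetric tensors come from the divided powers. -/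
theorem mem_range_of_invariant (φ : C →ₐ[A] SymTen.TS A B d)
    (hφ : PolLaw.postcomp ((SymTen.TS A B d).val.comp φ).toLinearMap γ.law = (SymTen.tpowLaw A B d).law)
    (K : Type u) [Field K] [Algebra A K] (z : K ⊗[A] (⨂[A] _ : Fin d, B))
    (hz : ∀ σ, (SymTen.perm A B d σ).toLinearMap.lTensor K z = z) :
    z ∈ LinearMap.range (((SymTen.TS A B d).val.comp φ).toLinearMap.lTensor K) := by
  classical
  obtain ⟨s, hs, hspan, hli⟩ := exists_linearIndependent K (Set.range fun b : B => (1 : K) ⊗ₜ[A] b)
  choose b hb using hs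
  let bs : s → B := fun i => b i.2
  have hbs : ∀ i : s, (1 : K) ⊗ₜ[A] bs i = (i : K ⊗[A] B) := fun i => hb i.2
  let F := s →₀ A
  let e : Module.Basis s A F := Finsupp.basisSingleOne
  let g : F →ₗ[A] B := e.constr A bs
  let E := TensorProduct.equivFinsuppOfBasisRight (M := K) e
  have hgE : ∀ c : s →₀ K, g.lTensor K (E.symm c) = Finsupp.linearCombination K (fun i : s => (i : K ⊗[A] B)) c := by
    intro c
    rw [TensorProduct.equivFinsuppOfBasisRight_symm_apply, Finsupp.linearCombination_apply, map_finsuppSum]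
    refine Finsupp.sum_congr fun i _ => ?_
    rw [LinearMap.lTensor_tmul, Module.Basis.constr_basis, ← hbs i, TensorProduct.smul_tmul']
    rw [smul_eq_mul, mul_one]
  have hg : Function.Bijective (g.lTensor K) := by
    have hLC : Function.Bijective (Finsupp.linearCombination K (fun i : s => (i : K ⊗[A] B))) := by
      refine ⟨hli, ?_⟩
      rw [← LinearMap.range_eq_top, Finsupp.range_linearCombination, Subtype.range_coe, hspan, eq_top_iff]
      rintro x -
      induction x using TensorProduct.induction_on with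
      | zero => exact zero_mem _
      | tmul k v =>
        rw [show k ⊗ₜ[A] v = k • ((1 : K) ⊗ₜ[A] v) by rw [TensorProduct.smul_tmul', smul_eq_mul, mul_one]]
        exact Submodule.smul_mem _ k (Submodule.subset_span ⟨v, rfl⟩)
      | add x y hx hy => exact add_mem hx hy
    have : (g.lTensor K : _ → _) = (Finsupp.linearCombination K (fun i : s => (i : K ⊗[A] B))) ∘ E := by
      funext x
      rw [Function.comp_apply, ← hgE, LinearEquiv.symm_apply_apply]
    rw [this]
    exact hLC.comp E.bijective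
  obtain ⟨w, rfl⟩ := (bijective_lTensor_pmap K g hg d).2 z
  let Be := Basis.piTensorProduct fun _ : Fin d => e
  let Ed := TensorProduct.equivFinsuppOfBasisRight (M := K) Be
  have hw : ∀ σ, (PiTensorProduct.reindex A (fun _ : Fin d => F) σ).toLinearMap.lTensor K w = w := by
    intro σ
    refine (bijective_lTensor_pmap K g hg d).1 ?_
    rw [← LinearMap.comp_apply, ← LinearMap.lTensor_comp]
    refine Eq.trans ?_ (hz σ)
    rw [← LinearMap.comp_apply, ← LinearMap.lTensor_comp]
    congr 2
    refine LinearMap.ext fun x => ?_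
    show pmap d g (PiTensorProduct.reindex A _ σ x) = SymTen.perm A B d σ (pmap d g x)
    rw [SymTen.perm_apply, pmap_reindex]
  have hinv : ∀ (σ : Equiv.Perm (Fin d)) p, Ed w (p ∘ σ) = Ed w p := by
    intro σ p
    conv_rhs => rw [← hw σ]
    generalize w = v
    induction v using TensorProduct.induction_on with
    | zero => simp
    | tmul k x =>
      rw [LinearMap.lTensor_tmul, TensorProduct.equivFinsuppOfBasisRight_apply_tmul_apply,
        TensorProduct.equivFinsuppOfBasisRight_apply_tmul_apply]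
      congr 1
      have h : (Be.coord p).comp (PiTensorProduct.reindex A (fun _ : Fin d => F) σ).toLinearMap = Be.coord (p ∘ σ) := by
        refine Be.ext fun q => ?_
        have hq : PiTensorProduct.reindex A (fun _ : Fin d => F) σ (Be q) = Be (q ∘ σ.symm) := by
          simp only [Be, Basis.piTensorProduct_apply, PiTensorProduct.reindex_tprod]
          rfl
        simp only [LinearMap.comp_apply, LinearEquiv.coe_coe, hq, Module.Basis.coord_apply, Module.Basis.repr_self,
          Finsupp.single_apply]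
        exact if_congr (Equiv.comp_symm_eq σ p q) rfl rfl
      exact (LinearMap.congr_fun h x).symm
    | add x y hx hy => simp only [map_add, Finsupp.add_apply, hx, hy]
  let U := (Ed w).support
  have hrep : w = ∑ α ∈ U.image ms, ∑ p ∈ fib d α, Ed w p ⊗ₜ[A] Be p := by
    conv_lhs => rw [← Ed.symm_apply_apply w, TensorProduct.equivFinsuppOfBasisRight_symm_apply, Finsupp.sum]
    rw [← Finset.sum_biUnion]
    · refine Finset.sum_subset (fun p hp => Finset.mem_biUnion.mpr
        ⟨ms p, Finset.mem_image_of_mem _ hp, mem_fib.mpr rfl⟩) fun p _ hp => ?_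
      rw [Finsupp.notMem_support_iff.mp hp, TensorProduct.zero_tmul]
    · intro a _ b _ hab
      rw [Function.onFun, Finset.disjoint_left]
      intro p hp hp'
      exact hab ((mem_fib.mp hp).symm.trans (mem_fib.mp hp'))
  rw [hrep, map_sum]
  refine Submodule.sum_mem _ fun α hα => ?_
  obtain ⟨p₀, -, rfl⟩ := Finset.mem_image.mp hα
  refine ⟨Ed w p₀ ⊗ₜ[A] cf γ.law (g ∘ e) (ms p₀), ?_⟩
  rw [LinearMap.lTensor_tmul, map_sum]
  have h1 : ((SymTen.TS A B d).val.comp φ).toLinearMap (cf γ.law (g ∘ e) (ms p₀)) =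
      cf (tp A B d) (g ∘ e) (ms p₀) := by
    rw [← cf_postcomp, hφ, tpowLaw_eq_tp]
  rw [h1, cf_tp, TensorProduct.tmul_sum]
  refine Finset.sum_congr rfl fun p hp => ?_
  obtain ⟨σ, rfl⟩ := exists_perm (mem_fib.mp hp).symm
  rw [LinearMap.lTensor_tmul, hinv, pmap, Basis.piTensorProduct_apply, PiTensorProduct.map_tprod]
  rfl

/-- Trivial residue extensions, elementwise. -/
theorem residue_surjective (φ : C →ₐ[A] SymTen.TS A B d)
    (hφ : PolLaw.postcomp ((SymTen.TS A B d).val.comp φ).toLinearMap γ.law = (SymTen.tpowLaw A B d).law)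
    (q : Ideal (SymTen.TS A B d)) [hq : q.IsPrime] (y : SymTen.TS A B d) :
    ∃ t a : C, φ t ∉ q ∧ φ t * y - φ a ∈ q := by
  classical
  have := isIntegral_tensorPower_TS (A := A) (B := B) d
  obtain ⟨Q, -, hQp, hQq⟩ := Ideal.exists_ideal_over_prime_of_isIntegral q (⊥ : Ideal (⨂[A] _ : Fin d, B))
    (by
      intro x hx
      have hx' : (x : ⨂[A] _ : Fin d, B) = 0 := hx
      rw [show x = 0 from Subtype.ext hx']
      exact zero_mem q)
  have := hQp
  let L := Q.ResidueField
  let f : (⨂[A] _ : Fin d, B) →ₐ[A] L := IsScalarTower.toAlgHom A _ L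
  have hf : ∀ x : SymTen.TS A B d, f x = 0 ↔ x ∈ q := fun x => by
    rw [← hQq]
    exact Ideal.algebraMap_residueField_eq_zero
  let p := RingHom.ker (algebraMap A L)
  have hp : p.IsPrime := RingHom.ker_isPrime _
  let K := p.ResidueField
  let i : K →ₐ[A] L := Ideal.ResidueField.liftₐ p (Algebra.ofId A L) le_rfl (by
    intro a ha
    exact IsUnit.mk0 _ fun h => ha h)
  let fK : K ⊗[A] (⨂[A] _ : Fin d, B) →ₐ[A] L := Algebra.TensorProduct.lift i f (fun _ _ => Commute.all _ _)
  obtain ⟨u, hu⟩ := mem_range_of_invariant γ φ hφ K ((1 : K) ⊗ₜ[A] (y : ⨂[A] _ : Fin d, B)) (fun σ => by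
    rw [LinearMap.lTensor_tmul, AlgHom.toLinearMap_apply, SymTen.perm_apply, y.2 σ])
  have key : ∀ u : K ⊗[A] C, ∃ (s : A) (c : C), s ∉ p ∧
      algebraMap A L s * fK (((SymTen.TS A B d).val.comp φ).toLinearMap.lTensor K u) = f (φ c : ⨂[A] _ : Fin d, B) := by
    intro u
    induction u using TensorProduct.induction_on with
    | zero => exact ⟨1, 0, fun h => hp.ne_top ((Ideal.eq_top_iff_one p).mpr h), by simp⟩
    | tmul k c =>
      obtain ⟨⟨a, ⟨s, hs⟩⟩, hk⟩ := IsLocalization.surj (R := A ⧸ p) (nonZeroDivisors (A ⧸ p)) (S := K) k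
      obtain ⟨s, rfl⟩ := Ideal.Quotient.mk_surjective s
      obtain ⟨a, rfl⟩ := Ideal.Quotient.mk_surjective a
      refine ⟨s, a • c, fun h => nonZeroDivisors.ne_zero hs (Ideal.Quotient.eq_zero_iff_mem.mpr h), ?_⟩
      have hk' : k * algebraMap A K s = algebraMap A K a := hk
      have hki := congrArg i hk'
      rw [map_mul, AlgHom.commutes, AlgHom.commutes] at hki
      rw [LinearMap.lTensor_tmul, show fK (k ⊗ₜ[A] _) = i k * f _ from Algebra.TensorProduct.lift_tmul _ _ _ _ _,
        ← mul_assoc, mul_comm (algebraMap A L s), hki, map_smul]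
      show algebraMap A L a * f _ = f ((a • φ c : SymTen.TS A B d) : ⨂[A] _ : Fin d, B)
      rw [Subalgebra.coe_smul, map_smul, Algebra.smul_def]
      rfl
    | add u v hu hv =>
      obtain ⟨s, c, hs, hu⟩ := hu
      obtain ⟨s', c', hs', hv⟩ := hv
      refine ⟨s * s', s' • c + s • c', fun h => (hp.mem_or_mem h).elim hs hs', ?_⟩
      rw [map_add φ, map_smul φ, map_smul φ, Subalgebra.coe_add, Subalgebra.coe_smul, Subalgebra.coe_smul, map_add f,
        map_smul f, map_smul f, ← hu, ← hv, map_add, map_add]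
      simp only [Algebra.smul_def, map_mul]
      ring
  obtain ⟨s, c, hs, hsc⟩ := key u
  rw [hu, show fK ((1 : K) ⊗ₜ[A] (y : ⨂[A] _ : Fin d, B)) = i 1 * f y from Algebra.TensorProduct.lift_tmul _ _ _ _ _,
    map_one, one_mul] at hsc
  refine ⟨algebraMap A C s, c, ?_, ?_⟩
  · rw [← hf, AlgHom.commutes]
    show f (algebraMap A (⨂[A] _ : Fin d, B) s) ≠ 0
    rw [AlgHom.commutes]
    exact fun h => hs h
  · rw [← hf, AlgHom.commutes]
    show f (algebraMap A (⨂[A] _ : Fin d, B) s * (y : ⨂[A] _ : Fin d, B) - (φ c : ⨂[A] _ : Fin d, B)) = 0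
    rw [map_sub, map_mul, AlgHom.commutes, hsc, sub_self]

open AlgebraicGeometry CategoryTheory in
theorem isUnivHomeo (hγ : PolLaw.IsGammaD γ) (φ : C →ₐ[A] SymTen.TS A B d)
    (hφ : PolLaw.postcomp ((SymTen.TS A B d).val.comp φ).toLinearMap γ.law = (SymTen.tpowLaw A B d).law) :
    FlatMor.IsUnivHomeo (Spec.map (CommRingCat.ofHom φ.toRingHom)) ∧
      ∀ x : ↥(Spec (CommRingCat.of (SymTen.TS A B d))),
        Function.Surjective ((Spec.map (CommRingCat.ofHom φ.toRingHom)).residueFieldMap x).hom := by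
  refine ⟨?_, (Tower.residueFieldMap_surjective_iff (CommRingCat.ofHom φ.toRingHom)).mpr
    fun Q hQ y => @residue_surjective _ _ _ _ _ _ _ _ _ γ φ hφ Q hQ y⟩
  obtain ⟨G, hG, -⟩ := exists_pow_law γ φ hφ hγ
  have hpow : ∀ y : SymTen.TS A B d, y ^ d.factorial ∈ φ.range := by
    intro y
    have h := congrArg (fun G : PolLaw.MulLaw A (SymTen.TS A B d) (SymTen.TS A B d) d.factorial =>
      TensorProduct.lid A (SymTen.TS A B d) (G.law.toFun' A ((1 : A) ⊗ₜ[A] y))) hG
    refine ⟨TensorProduct.lid A C (G.law.toFun' A ((1 : A) ⊗ₜ[A] y)), ?_⟩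
    refine Eq.trans ?_ (h.trans ?_)
    · show φ (TensorProduct.lid A C (G.law.toFun' A _)) =
        TensorProduct.lid A (SymTen.TS A B d) (φ.toLinearMap.lTensor A (G.law.toFun' A _))
      generalize G.law.toFun' A ((1 : A) ⊗ₜ[A] y) = w
      induction w using TensorProduct.induction_on with
      | zero => simp
      | tmul a c => simp
      | add a b ha hb => simp only [map_add, ha, hb]
    · show TensorProduct.lid A _ (((1 : A) ⊗ₜ[A] y) ^ d.factorial) = _
      rw [Algebra.TensorProduct.tmul_pow, one_pow, TensorProduct.lid_tmul, one_smul]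
  letI := φ.toRingHom.toAlgebra
  have hint : φ.toRingHom.IsIntegral := by
    intro y
    obtain ⟨c, hc⟩ := hpow y
    refine ⟨Polynomial.X ^ d.factorial - Polynomial.C c, Polynomial.monic_X_pow_sub_C _ (Nat.factorial_ne_zero d), ?_⟩
    simp only [Polynomial.eval₂_sub, Polynomial.eval₂_pow, Polynomial.eval₂_X, Polynomial.eval₂_C]
    exact sub_eq_zero.mpr hc.symm
  haveI : IsIntegralHom (Spec.map (CommRingCat.ofHom φ.toRingHom)) := IsIntegralHom.SpecMap_iff.mpr hint
  haveI : UniversallyInjective (Spec.map (CommRingCat.ofHom φ.toRingHom)) := by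
    rw [Tower.universallyInjective_iff]
    intro L _ g g' he
    refine CommRingCat.hom_ext (RingHom.ext fun y => ?_)
    have hp : (RingHom.ker g.hom).IsPrime := RingHom.ker_isPrime _
    obtain ⟨t, a, ht, hta⟩ := residue_surjective γ φ hφ (RingHom.ker g.hom) (hq := hp) y
    have he' : ∀ c, g.hom (φ c) = g'.hom (φ c) := fun c => RingHom.congr_fun (congrArg CommRingCat.Hom.hom he) c
    have hg' : g'.hom (φ t) * g'.hom y = g'.hom (φ a) := by
      have : φ t * y - φ a ∈ RingHom.ker g'.hom := by
        -- the two kernels coincide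
        have hker : RingHom.ker g'.hom = RingHom.ker g.hom := by
          ext z
          obtain ⟨c, hc⟩ := hpow z
          have hcz : φ c = z ^ d.factorial := hc
          rw [RingHom.mem_ker, RingHom.mem_ker, ← pow_eq_zero_iff (Nat.factorial_ne_zero d), ← map_pow, ← hcz, ← he',
            hcz, map_pow, pow_eq_zero_iff (Nat.factorial_ne_zero d)]
        rw [hker]; exact hta
      rwa [RingHom.mem_ker, map_sub, map_mul, sub_eq_zero] at this
    rw [RingHom.mem_ker, map_sub, map_mul, sub_eq_zero] at hta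
    rw [← he', ← he'] at hg'
    exact mul_left_cancel₀ (fun h => ht h) (hta.trans hg'.symm)
  haveI : Surjective (Spec.map (CommRingCat.ofHom φ.toRingHom)) := ⟨fun P => by
    haveI : Algebra.IsIntegral C (SymTen.TS A B d) := ⟨hint⟩
    obtain ⟨Q, hQ1, hQ2, hQ3⟩ := Ideal.exists_ideal_over_prime_of_isIntegral P.asIdeal
      (⊥ : Ideal (SymTen.TS A B d)) (fun c hc => P.isPrime.mem_of_pow_mem _
        (show c ^ d.factorial ∈ P.asIdeal by rw [pow_factorial_eq_zero hγ φ hφ c hc]; exact zero_mem _))
    exact ⟨⟨Q, hQ2⟩, PrimeSpectrum.ext hQ3⟩⟩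
  exact EtaPtLib.isUnivHomeo_of_isIntegralHom _

end Groth.Agent.DivPow
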