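import Groth.Agent.DivPow.CH

/-!
# Surjectivity of Iversen's map
-/

set_option autoImplicit false
set_option linter.unusedSectionVars false
universe u

open scoped TensorProduct

namespace Groth.Agent.DivPow

variable {A B Cd Ce : Type u} [CommRing A] [CommRing B] [Algebra A B]
    [CommRing Cd] [Algebra A Cd] [CommRing Ce] [Algebra A Ce] {e : ℕ}

theorem iversen_surjective (γd : PolLaw.MulLaw A B Cd (e + 1)) (γe : PolLaw.MulLaw A B Ce e) (hγe : PolLaw.IsGammaD γe)
    (ω : Cd ⊗[A] B →ₐ[A] Ce ⊗[A] B)
    (hω : ∀ (S : Type u) [CommSemiring S] [Algebra A S] (x y : S ⊗[A] B),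
      ω.toLinearMap.lTensor S
        ((Algebra.TensorProduct.includeLeft : Cd →ₐ[A] Cd ⊗[A] B).toLinearMap.lTensor S (γd.law.toFun' S x) *
          (Algebra.TensorProduct.includeRight : B →ₐ[A] Cd ⊗[A] B).toLinearMap.lTensor S y) =
      (Algebra.TensorProduct.includeLeft : Ce →ₐ[A] Ce ⊗[A] B).toLinearMap.lTensor S (γe.law.toFun' S x) *
        (Algebra.TensorProduct.includeRight : B →ₐ[A] Ce ⊗[A] B).toLinearMap.lTensor S (x * y)) :
    Function.Surjective ω := by
  let iL : Ce →ₐ[A] Ce ⊗[A] B := Algebra.TensorProduct.includeLeft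
  let iR : B →ₐ[A] Ce ⊗[A] B := Algebra.TensorProduct.includeRight
  let Ω : ∀ (S : Type u) [CommRing S] [Algebra A S], S ⊗[A] (Cd ⊗[A] B) →ₐ[A] S ⊗[A] (Ce ⊗[A] B) := fun S _ _ =>
    Algebra.TensorProduct.map (AlgHom.id A S) ω
  have hΩ : ∀ (S : Type u) [CommRing S] [Algebra A S] (v : S ⊗[A] (Cd ⊗[A] B)), ω.toLinearMap.lTensor S v = Ω S v := by
    intro S _ _ v
    induction v using TensorProduct.induction_on with
    | zero => simp
    | tmul a b => rfl
    | add y z hy hz => simp only [map_add, hy, hz]
  have hone : ∀ {P C : Type u} [CommRing P] [Algebra A P] [CommRing C] [Algebra A C] (S : Type u) [CommRing S] [Algebra A S]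
      (f : P →ₐ[A] C), f.toLinearMap.lTensor S 1 = 1 := fun S _ _ f => by
    rw [PolLaw.lTensor_algHom_apply, map_one]
  -- the right factor
  have hR : ∀ (S : Type u) [CommRing S] [Algebra A S] (y : S ⊗[A] B), iR.toLinearMap.lTensor S y ∈ (Ω S).range := by
    intro S _ _ y
    have h := hω S 1 y
    rw [(γe.mult S).1, (γd.mult S).1, one_mul, hone S, hone S, one_mul, one_mul, hΩ] at h
    exact ⟨_, h⟩
  have hmain : ∀ (S : Type u) [CommRing S] [Algebra A S] (z : S ⊗[A] B),
      iL.toLinearMap.lTensor S (γe.law.toFun' S z) ∈ (Ω S).range := by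
    intro S _ _ z
    let R := Polynomial S
    let x : R ⊗[A] B := Algebra.TensorProduct.map (cst (A := A) S) (AlgHom.id A B) z + (Polynomial.X : R) ⊗ₜ[A] (1 : B)
    let D := Ce ⊗[A] B
    let Φ := polyHom (A := A) D S
    have hWR : ∀ v : R ⊗[A] (Cd ⊗[A] B), ∀ n, (Φ (ω.toLinearMap.lTensor R v)).coeff n ∈ (Ω S).range := by
      intro v
      induction v using TensorProduct.induction_on with
      | zero => intro n; simp [zero_mem]
      | tmul p c =>
        intro n
        refine ⟨p.coeff n ⊗ₜ[A] c, ?_⟩
        simp [Φ, polyHom, Ω, D, R, Polynomial.coeff_map, Algebra.TensorProduct.tmul_mul_tmul]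
      | add y z hy hz => intro n; rw [map_add, map_add, Polynomial.coeff_add]; exact add_mem (hy n) (hz n)
    let P : Polynomial (S ⊗[A] D) := Φ (iL.toLinearMap.lTensor R (γe.law.toFun' R x))
    let ζ : S ⊗[A] D := iR.toLinearMap.lTensor S z
    have hlin : Φ (iR.toLinearMap.lTensor R x) = Polynomial.C ζ + Polynomial.X := by
      show Φ (iR.toLinearMap.lTensor R (_ + _)) = _
      rw [map_add, map_add]
      congr 1
      · show _ = Polynomial.C (iR.toLinearMap.lTensor S z)
        induction z using TensorProduct.induction_on with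
        | zero => simp
        | tmul a b => simp [Φ, polyHom, cst, iR, D, R, ← map_mul, Algebra.TensorProduct.tmul_mul_tmul]
        | add y z hy hz => simp only [map_add, hy, hz]
      · simp [Φ, polyHom, iR, D, R, ← Algebra.TensorProduct.one_def]
    have hQ : ∀ n, (P * (Polynomial.C ζ + Polynomial.X)).coeff n ∈ (Ω S).range := by
      intro n
      have h := hω R x 1
      rw [mul_one, hone R, mul_one] at h
      have h' := congrArg Φ h
      rw [map_mul, hlin] at h'
      show (Φ _ * _).coeff n ∈ _
      rw [← h']
      exact hWR _ n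
    have hζ : ζ ∈ (Ω S).range := hR S z
    have hP : ∀ n, P.coeff n ∈ (Ω S).range := by
      intro n
      suffices ∀ k n, P.natDegree < n + k → P.coeff n ∈ (Ω S).range from this (P.natDegree + 1) n (by omega)
      intro k
      induction k with
      | zero => exact fun n hn => by rw [Polynomial.coeff_eq_zero_of_natDegree_lt (show P.natDegree < n by omega)]; exact zero_mem _
      | succ k ih =>
        intro n hn
        have h := hQ (n + 1)
        rw [mul_add, Polynomial.coeff_add, Polynomial.coeff_mul_C, Polynomial.coeff_mul_X] at h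
        have h2 := sub_mem h (mul_mem (ih (n + 1) (by omega)) hζ)
        rwa [add_sub_cancel_left] at h2
    have h0 := hP 0
    let ev : R →ₐ[A] S := (Polynomial.aeval (0 : S)).restrictScalars A
    have hΦev : ∀ w : R ⊗[A] D, (Φ w).coeff 0 = ev.toLinearMap.rTensor D w := by
      intro w
      induction w using TensorProduct.induction_on with
      | zero => simp
      | tmul p c => simp [Φ, polyHom, ev, R, Polynomial.mul_coeff_zero, Polynomial.coeff_map, Polynomial.coeff_zero_eq_eval_zero, Algebra.TensorProduct.tmul_mul_tmul]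
      | add y z hy hz => rw [map_add, Polynomial.coeff_add, map_add, hy, hz]
    have hcomm : ∀ w : R ⊗[A] Ce, ev.toLinearMap.rTensor D (iL.toLinearMap.lTensor R w) =
        iL.toLinearMap.lTensor S (ev.toLinearMap.rTensor Ce w) := by
      intro w
      induction w using TensorProduct.induction_on with
      | zero => simp
      | tmul p c => simp
      | add y z hy hz => simp only [map_add, hy, hz]
    have hx : ev.toLinearMap.rTensor B x = z := by
      show ev.toLinearMap.rTensor B (_ + _) = _
      rw [map_add]
      simp only [LinearMap.rTensor_tmul, ev, R]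
      rw [show (AlgHom.restrictScalars A (Polynomial.aeval (0 : S))).toLinearMap (Polynomial.X : Polynomial S) = 0 by simp,
        TensorProduct.zero_tmul, add_zero]
      have : ∀ z : S ⊗[A] B, ev.toLinearMap.rTensor B (Algebra.TensorProduct.map (cst (A := A) S) (AlgHom.id A B) z) = z := by
        intro z
        induction z using TensorProduct.induction_on with
        | zero => simp
        | tmul a b => simp [cst, ev]; rw [Polynomial.aeval_C]; rfl
        | add y z hy hz => simp only [map_add, hy, hz]
      exact this z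
    rw [hΦev, hcomm, PolynomialLaw.isCompat_apply', hx] at h0
    exact h0
  intro y
  induction y using TensorProduct.induction_on with
  | zero => exact ⟨0, map_zero _⟩
  | tmul c b =>
    suffices hc : iL c ∈ ω.range by
      obtain ⟨u, hu⟩ : iR b ∈ ω.range := by
        obtain ⟨v, hv⟩ := hR A ((1 : A) ⊗ₜ[A] b)
        refine ⟨TensorProduct.lid A _ v, ?_⟩
        have h := congrArg (TensorProduct.lid A (Ce ⊗[A] B)) hv
        rw [LinearMap.lTensor_tmul, TensorProduct.lid_tmul, one_smul] at h
        refine Eq.trans ?_ h
        clear h hv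
        induction v using TensorProduct.induction_on with
        | zero => simp
        | tmul a w => simp [Ω]
        | add y z hy hz => simp only [map_add, hy, hz]
      obtain ⟨v, hv⟩ := hc
      refine ⟨v * u, ?_⟩
      change ω v = c ⊗ₜ[A] (1 : B) at hv
      change ω u = (1 : Ce) ⊗ₜ[A] b at hu
      rw [map_mul, hv, hu, Algebra.TensorProduct.tmul_mul_tmul, mul_one, one_mul]
    let π : MvPolynomial B A →ₐ[A] B := MvPolynomial.aeval id
    let em := MvPolynomial.basisMonomials B A
    obtain ⟨z, rfl⟩ := rho_surjective em π (fun b => ⟨MvPolynomial.X b, MvPolynomial.aeval_X id b⟩) hγe c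
    have hz : z ∈ Submodule.span A (Set.range (orb (d := e) em)) := by rw [span_orb]; trivial
    induction hz using Submodule.span_induction with
    | mem w hw =>
      obtain ⟨α, rfl⟩ := hw
      rw [rho_orb, show (γe.precomp π).law = PolLaw.precomp γe.law π.toLinearMap from rfl, cf_precomp, cf]
      obtain ⟨w, hw⟩ := hmain (MvPolynomial _ A) (gen α.support (π.toLinearMap ∘ em))
      refine ⟨co α w, ?_⟩
      refine Eq.trans (co_lTensor α ω.toLinearMap w).symm ?_
      rw [hΩ]
      exact (congrArg (co α) hw).trans (co_lTensor α iL.toLinearMap _)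
    | zero => simp [zero_mem]
    | add a b _ _ ha hb => rw [map_add, map_add]; exact add_mem ha hb
    | smul a b _ hb => rw [map_smul, map_smul]; exact Subalgebra.smul_mem _ hb a
  | add y z hy hz =>
    obtain ⟨v, rfl⟩ := hy
    obtain ⟨w, rfl⟩ := hz
    exact ⟨v + w, map_add _ _ _⟩

end Groth.Agent.DivPow
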