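import Groth.Agent.DivPow.Fin

/-!
# Multiplicative laws into algebraically closed fields split
-/

set_option autoImplicit false
set_option linter.unusedSectionVars false
universe u

open scoped TensorProduct
open MvPolynomial

namespace Groth.Agent.DivPow

variable {A B C : Type u} [CommRing A] [CommRing B] [Algebra A B] [CommRing C] [Algebra A C] {d : ℕ}

theorem exists_hom_tensorPower {γ : PolLaw.MulLaw A B C d} (hγ : PolLaw.IsGammaD γ) (φ : C →ₐ[A] SymTen.TS A B d)
    (hφ : PolLaw.postcomp ((SymTen.TS A B d).val.comp φ).toLinearMap γ.law = (SymTen.tpowLaw A B d).law)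
    {L : Type u} [Field L] [IsAlgClosed L] [Algebra A L] (f : C →ₐ[A] L) :
    ∃ h : (⨂[A] _ : Fin d, B) →ₐ[A] L, h.comp ((SymTen.TS A B d).val.comp φ) = f := by
  let T := ⨂[A] _ : Fin d, B
  let ψ : C →ₐ[A] T := (SymTen.TS A B d).val.comp φ
  letI : Algebra C T := ψ.toRingHom.toAlgebra
  haveI : IsScalarTower A C T := IsScalarTower.of_algebraMap_eq fun a => (ψ.commutes a).symm
  haveI : Algebra.IsIntegral C T := by
    have hint : Algebra.IsIntegral C T := by
      refine ⟨fun z => ?_⟩
      induction z using PiTensorProduct.induction_on with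
      | smul_tprod r g =>
        rw [Algebra.smul_def, IsScalarTower.algebraMap_apply A C T]
        refine isIntegral_algebraMap.mul ?_
        rw [← prod_singleAlgHom]
        refine IsIntegral.prod _ fun j _ => ?_
        -- each slot element is a root of a monic polynomial over the divided powers
        obtain ⟨F, hF, -⟩ := exists_norm_law γ φ hφ
        let U := Polynomial A
        let x := PiTensorProduct.singleAlgHom (R := A) (A := fun _ : Fin d => B) j (g j)
        have h1 := congrFun (congrArg (fun L : (⨂[A] _ : Fin d, B) →ₚₗ[A] (⨂[A] _ : Fin d, B) => L.toFun' U) hF)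
          ((1 : U) ⊗ₜ[A] x - (Polynomial.X : U) ⊗ₜ[A] (1 : T))
        let p : Polynomial C := (polyEquivTensor A C).symm ((Algebra.TensorProduct.comm A U C)
          (F.law.toFun' U ((1 : U) ⊗ₜ[A] x - (Polynomial.X : U) ⊗ₜ[A] (1 : T))))
        let e : U ⊗[A] T →ₐ[A] Polynomial T :=
          (polyEquivTensor A T).symm.toAlgHom.comp (Algebra.TensorProduct.comm A U T).toAlgHom
        have he : ∀ (q : U) (t : T), e (q ⊗ₜ[A] t) = Polynomial.C t * q.map (algebraMap A T) := fun q t => by
          show (polyEquivTensor A T).symm (t ⊗ₜ[A] q) = _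
          rw [polyEquivTensor_symm_apply_tmul_eq_smul, Polynomial.smul_eq_C_mul]
        have hpmap : p.map ψ.toRingHom = ∏ σ : Equiv.Perm (Fin d),
            (Polynomial.C (SymTen.perm A B d σ x) - Polynomial.X) := by
          have h2 : p.map ψ.toRingHom = e (ψ.toLinearMap.lTensor U
              (F.law.toFun' U ((1 : U) ⊗ₜ[A] x - (Polynomial.X : U) ⊗ₜ[A] (1 : T)))) := by
            show Polynomial.map ψ.toRingHom ((polyEquivTensor A C).symm _) = _
            generalize F.law.toFun' U ((1 : U) ⊗ₜ[A] x - (Polynomial.X : U) ⊗ₜ[A] (1 : T)) = w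
            induction w using TensorProduct.induction_on with
            | zero => simp
            | tmul q c =>
              rw [LinearMap.lTensor_tmul, he, Algebra.TensorProduct.comm_tmul, polyEquivTensor_symm_apply_tmul_eq_smul,
                Polynomial.smul_eq_C_mul, Polynomial.map_mul, Polynomial.map_C, Polynomial.map_map]
              congr 2
              exact RingHom.ext fun a => ψ.commutes a
            | add u v hu hv => simp only [map_add, Polynomial.map_add, hu, hv]
          rw [h2]
          refine (congrArg e h1).trans ?_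
          show e ((SymTen.symmLaw A B d).law.toFun' U _) = _
          rw [symmLaw_apply, map_prod]
          refine Finset.prod_congr rfl fun σ _ => ?_
          rw [map_sub, Algebra.TensorProduct.map_tmul, Algebra.TensorProduct.map_tmul, map_sub, he, he]
          simp
        let p' : Polynomial C := p * Polynomial.C ((-1) ^ d.factorial)
        have hp' : p'.map ψ.toRingHom = ∏ σ : Equiv.Perm (Fin d),
            (Polynomial.X - Polynomial.C (SymTen.perm A B d σ x)) := by
          rw [Polynomial.map_mul, hpmap, Polynomial.map_C, map_pow, map_neg, map_one, map_pow, map_neg, map_one,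
            show d.factorial = (Finset.univ : Finset (Equiv.Perm (Fin d))).card by simp [Fintype.card_perm],
            ← Finset.prod_const, ← Finset.prod_mul_distrib]
          exact Finset.prod_congr rfl fun σ _ => by ring
        have hid : SymTen.perm A B d 1 x = x := by
          rw [SymTen.perm_apply, Equiv.Perm.one_def, PiTensorProduct.reindex_refl]; rfl
        rcases subsingleton_or_nontrivial T with hs | hs
        · exact ⟨1, Polynomial.monic_one, Subsingleton.elim _ _⟩
        have hlift : p'.map ψ.toRingHom ∈ Polynomial.lifts ψ.toRingHom := ⟨p', rfl⟩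
        obtain ⟨q, hq, -, hqm⟩ := Polynomial.lifts_and_degree_eq_and_monic hlift
          (hp' ▸ Polynomial.monic_prod_of_monic _ _ fun σ _ => Polynomial.monic_X_sub_C _)
        refine ⟨q, hqm, ?_⟩
        show Polynomial.eval₂ ψ.toRingHom x q = 0
        rw [← Polynomial.eval_map, hq, hp', Polynomial.eval_prod]
        refine Finset.prod_eq_zero (Finset.mem_univ 1) ?_
        rw [hid]; simp
      | add x y hx hy => exact hx.add hy
    exact hint
  let P := RingHom.ker f.toRingHom
  have hPp : P.IsPrime := RingHom.ker_isPrime _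
  obtain ⟨Q, -, hQp, hQ⟩ := Ideal.exists_ideal_over_prime_of_isIntegral P (⊥ : Ideal T) (fun c hc => by
    refine hPp.mem_of_pow_mem d.factorial ?_
    rw [pow_factorial_eq_zero hγ φ hφ c (Subtype.ext hc)]
    exact zero_mem _)
  haveI := hQp
  letI : Algebra (C ⧸ P) (T ⧸ Q) :=
    (Ideal.quotientMap Q (algebraMap C T) hQ.ge).toAlgebra
  letI : Algebra (C ⧸ P) L := (Ideal.Quotient.lift P f.toRingHom (fun a ha => ha)).toAlgebra
  haveI : Algebra.IsIntegral (C ⧸ P) (T ⧸ Q) := ⟨fun y => by
    obtain ⟨t, rfl⟩ := Ideal.Quotient.mk_surjective y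
    obtain ⟨p, hp, hpt⟩ := Algebra.IsIntegral.isIntegral (R := C) t
    refine ⟨p.map (Ideal.Quotient.mk P), hp.map _, ?_⟩
    rw [Polynomial.eval₂_map, show (algebraMap (C ⧸ P) (T ⧸ Q)).comp (Ideal.Quotient.mk P) =
      (Ideal.Quotient.mk Q).comp (algebraMap C T) from RingHom.ext fun c => rfl, ← Polynomial.hom_eval₂, hpt, map_zero]⟩
  have hinj : Function.Injective (algebraMap (C ⧸ P) (T ⧸ Q)) :=
    Ideal.quotientMap_injective' (H := hQ.ge) hQ.le
  haveI : Module.IsTorsionFree (C ⧸ P) (T ⧸ Q) := Module.isTorsionFree_iff_algebraMap_injective.mpr hinj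
  haveI : Module.IsTorsionFree (C ⧸ P) L := Module.isTorsionFree_iff_algebraMap_injective.mpr
    (RingHom.lift_injective_of_ker_le_ideal P _ le_rfl)
  let g : T ⧸ Q →ₐ[C ⧸ P] L := IsAlgClosed.lift
  let h : T →+* L := g.toRingHom.comp (Ideal.Quotient.mk Q)
  have hh : ∀ c : C, h (ψ c) = f c := fun c => g.commutes (Ideal.Quotient.mk P c)
  refine ⟨{ h with commutes' := fun a => ?_ }, AlgHom.ext hh⟩
  show h (algebraMap A T a) = _
  rw [← ψ.commutes, hh, f.commutes]

/-- A multiplicative law into an algebraically closed field is a product of algebra maps. -/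
theorem exists_split (F : PolLaw.MulLaw A B C d) {L : Type u} [Field L] [IsAlgClosed L] [Algebra A L]
    (f₀ : C →ₐ[A] L) :
    ∃ g : Fin d → (B →ₐ[A] L),
      PolLaw.postcomp f₀.toLinearMap F.law = (PolLaw.MulLaw.prodMap g d (Fintype.card_fin d)).law := by
  obtain ⟨D, _, _, γ, hγ⟩ := exists_gammaD' A B d
  obtain ⟨φ, hφ⟩ := exists_phi hγ
  obtain ⟨f, hf, -⟩ := hγ L (F.postcomp f₀)
  obtain ⟨h, hh⟩ := exists_hom_tensorPower hγ φ hφ f
  refine ⟨fun j => h.comp (PiTensorProduct.singleAlgHom (R := A) (A := fun _ : Fin d => B) j), ?_⟩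
  show (F.postcomp f₀).law = _
  rw [← hf]
  apply PolynomialLaw.ext
  funext S _ _ x
  have h1 : f.toLinearMap.lTensor S (γ.law.toFun' S x) =
      h.toLinearMap.lTensor S ((SymTen.tpowLaw A B d).law.toFun' S x) := by
    rw [← hφ]
    show _ = h.toLinearMap.lTensor S (((SymTen.TS A B d).val.comp φ).toLinearMap.lTensor S _)
    rw [← LinearMap.comp_apply (h.toLinearMap.lTensor S), ← LinearMap.lTensor_comp, ← hh]
    rfl
  refine h1.trans ?_
  show h.toLinearMap.lTensor S ((SymTen.tpowLaw A B d).law.toFun' S x) = _
  rw [SymTen.tpowLaw, PolLaw.MulLaw.prodMap_toFun', PolLaw.MulLaw.prodMap_toFun', PolLaw.lTensor_algHom_apply, map_prod]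
  refine Finset.prod_congr rfl fun j _ => ?_
  rw [← AlgHom.comp_apply, ← Algebra.TensorProduct.map_id_comp]

end Groth.Agent.DivPow
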