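import Groth.Agent.DivPow.CH
import Groth.Agent.DivPow.Split

/-!
# Kernels of multiplicative laws
-/

set_option autoImplicit false
set_option linter.unusedSectionVars false
universe u

open scoped TensorProduct
open MvPolynomial

namespace Groth.Agent.DivPow

variable {A B : Type u} [CommRing A] [CommRing B] [Algebra A B] {d : ℕ} (F : PolLaw.MulLaw A B A d)

variable (U : Type u) [CommRing U] [Algebra A U]

/-- The characteristic polynomial over `U` of a law with values in the base. -/
noncomputable def chiA (z : U ⊗[A] B) : Polynomial U :=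
  TensorProduct.rid A (Polynomial U) (F.law.toFun' (Polynomial U) (zX U z))

/-- The Cayley-Hamilton element over `U`. -/
noncomputable def chA (z : U ⊗[A] B) : U ⊗[A] B :=
  Polynomial.eval₂ (Algebra.TensorProduct.includeLeft : U →ₐ[A] U ⊗[A] B).toRingHom z (chiA F U z)

/-- The canonical isomorphism `U ⊗ A → U`. -/
noncomputable def ridA : U ⊗[A] A →ₐ[A] U := ((Algebra.TensorProduct.rid A A U).restrictScalars A).toAlgHom

theorem ridA_tmul (u : U) (a : A) : ridA U (u ⊗ₜ[A] a) = a • u := by simp [ridA]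

theorem ridA_eq (y : U ⊗[A] A) : ridA U y = TensorProduct.rid A U y := by
  induction y using TensorProduct.induction_on with
  | zero => simp
  | tmul a b => rw [ridA_tmul, TensorProduct.rid_tmul]
  | add a b ha hb => simp only [map_add, ha, hb]

theorem chiA_eq (z : U ⊗[A] B) : chiA F U z = (chiC F U z).map (ridA U).toRingHom := by
  rw [chiA, chiC]
  generalize F.law.toFun' (Polynomial U) (zX U z) = y
  induction y using TensorProduct.induction_on with
  | zero => simp
  | tmul p c =>
    simp only [TensorProduct.rid_tmul, polyHom, Algebra.TensorProduct.lift_tmul, Polynomial.coe_mapAlgHom,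
      AlgHom.comp_apply, IsScalarTower.coe_toAlgHom', Polynomial.algebraMap_eq, Polynomial.map_mul, Polynomial.map_C,
      Polynomial.map_map]
    ext n
    simp [Polynomial.coeff_map, ridA_tmul, Algebra.smul_def, mul_comm]
  | add a b ha hb => simp only [map_add, Polynomial.map_add, ha, hb]

variable {U} {U' : Type u} [CommRing U'] [Algebra A U'] (ψ : U →ₐ[A] U')

theorem chiA_map (z : U ⊗[A] B) :
    chiA F U' (Algebra.TensorProduct.map ψ (AlgHom.id A B) z) = (chiA F U z).map ψ.toRingHom := by
  let Ψ : Polynomial U →ₐ[A] Polynomial U' := Polynomial.mapAlgHom ψ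
  have hz : zX U' (Algebra.TensorProduct.map ψ (AlgHom.id A B) z) = Ψ.toLinearMap.rTensor B (zX U z) := by
    rw [PolLaw.rTensor_algHom_apply, zX, zX, map_sub]
    congr 1
    · induction z using TensorProduct.induction_on with
      | zero => simp
      | tmul a b => simp [Ψ, cst]
      | add a b ha hb => simp only [map_add, ha, hb]
    · simp [Ψ]
  rw [chiA, chiA, hz, ← PolynomialLaw.isCompat_apply']
  generalize F.law.toFun' (Polynomial U) (zX U z) = y
  induction y using TensorProduct.induction_on with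
  | zero => simp
  | tmul p c => simp [Ψ, Algebra.smul_def, Polynomial.map_mul, IsScalarTower.algebraMap_apply A U (Polynomial U),
      IsScalarTower.algebraMap_apply A U' (Polynomial U'), Polynomial.algebraMap_eq]
  | add a b ha hb => simp only [map_add, Polynomial.map_add, ha, hb]

theorem chA_map (z : U ⊗[A] B) :
    chA F U' (Algebra.TensorProduct.map ψ (AlgHom.id A B) z) =
      Algebra.TensorProduct.map ψ (AlgHom.id A B) (chA F U z) := by
  rw [chA, chA, chiA_map, Polynomial.eval₂_map]
  refine Eq.symm ((Polynomial.hom_eval₂ _ _ (Algebra.TensorProduct.map ψ (AlgHom.id A B)).toRingHom _).trans ?_)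
  congr 1

theorem exists_lift3 (U : Type u) [CommRing U] [Algebra A U] (x w z : U ⊗[A] B) :
    ∃ (σ : Type u) (ψ : MvPolynomial σ A →ₐ[A] U) (x' w' z' : MvPolynomial σ A ⊗[A] B),
      Algebra.TensorProduct.map ψ (AlgHom.id A B) x' = x ∧ Algebra.TensorProduct.map ψ (AlgHom.id A B) w' = w ∧
      Algebra.TensorProduct.map ψ (AlgHom.id A B) z' = z := by
  obtain ⟨s, t, rfl⟩ := exists_sum (id : B → B) span_range_id U x
  obtain ⟨s', t', rfl⟩ := exists_sum (id : B → B) span_range_id U w
  obtain ⟨s'', t'', rfl⟩ := exists_sum (id : B → B) span_range_id U z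
  refine ⟨B ⊕ B ⊕ B, aeval (Sum.elim t (Sum.elim t' t'')), ∑ i ∈ s, X (Sum.inl i) ⊗ₜ[A] i,
    ∑ i ∈ s', X (Sum.inr (Sum.inl i)) ⊗ₜ[A] i, ∑ i ∈ s'', X (Sum.inr (Sum.inr i)) ⊗ₜ[A] i, ?_, ?_, ?_⟩
  all_goals simp [map_sum]

/-- The Cayley-Hamilton identity. -/
theorem apply_add_mul_chA (U : Type u) [CommRing U] [Algebra A U] (x w z : U ⊗[A] B) :
    F.law.toFun' U (x + w * chA F U z) = F.law.toFun' U x := by
  obtain ⟨σ, ψ, x, w, z, rfl, rfl, rfl⟩ := exists_lift3 U x w z
  rw [chA_map, ← map_mul, ← map_add, ← PolLaw.rTensor_algHom_apply, ← PolLaw.rTensor_algHom_apply,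
    ← PolynomialLaw.isCompat_apply', ← PolynomialLaw.isCompat_apply']
  congr 1
  let V := MvPolynomial σ A
  let φ := ridA (A := A) V
  let Φ : (V ⊗[A] A) ⊗[A] B →ₐ[A] V ⊗[A] B := Algebra.TensorProduct.map φ (AlgHom.id A B)
  have hi : ∀ v, Φ (iota B A V v) = v := by
    intro v
    induction v using TensorProduct.induction_on with
    | zero => simp
    | tmul a b => simp [Φ, φ, iota, ridA_tmul]
    | add a b ha hb => simp only [map_add, ha, hb]
  have hch : Φ (chElt F V z) = chA F V z := by
    rw [chElt, chA, chiA_eq, Polynomial.eval₂_map]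
    refine (Polynomial.hom_eval₂ _ _ Φ.toRingHom _).trans ?_
    congr 1
    exact hi z
  have h := (good_mvPolynomial F σ).1 x w z
  have hy : x + w * chA F V z = φ.toLinearMap.rTensor B (iota B A V x + iota B A V w * chElt F V z) := by
    rw [PolLaw.rTensor_algHom_apply]
    show _ = Φ _
    rw [map_add, map_mul, hi, hi, hch]
  rw [hy, ← PolynomialLaw.isCompat_apply', ← h]
  generalize F.law.toFun' (V ⊗[A] A) _ = y
  induction y using TensorProduct.induction_on with
  | zero => simp
  | tmul p c =>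
    simp only [LinearMap.rTensor_tmul, AlgHom.toLinearMap_apply, mu, Algebra.TensorProduct.lift_tmul, AlgHom.id_apply,
      Algebra.TensorProduct.includeRight_apply]
    induction p using TensorProduct.induction_on with
    | zero => simp
    | tmul v a =>
      rw [Algebra.TensorProduct.tmul_mul_tmul, mul_one, ridA_tmul, TensorProduct.smul_tmul, smul_eq_mul]
    | add a b ha hb => simp only [map_add, TensorProduct.add_tmul, add_mul, ha, hb]
  | add a b ha hb => simp only [map_add, ha, hb]

theorem chiA_monic (U : Type u) [CommRing U] [Algebra A U] (z : U ⊗[A] B) :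
    (chiA F U z * Polynomial.C ((-1) ^ d)).Monic := by
  obtain ⟨σ, ψ, -, -, z, -, -, rfl⟩ := exists_lift3 U z z z
  have h := (((good_mvPolynomial F σ).2 z).map (ridA (A := A) (MvPolynomial σ A)).toRingHom).map ψ.toRingHom
  simp only [Polynomial.map_mul, Polynomial.map_C, map_pow, map_neg, map_one, Polynomial.map_neg, Polynomial.map_pow,
    Polynomial.map_one] at h
  rwa [← chiA_eq, ← chiA_map, ← map_one Polynomial.C, ← map_neg, ← map_pow] at h

/-- Test algebras may be taken to be rings. -/
theorem mem_ker_iff (b : B) :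
    b ∈ PolLaw.ker F.law ↔ ∀ (S : Type u) [CommRing S] [Algebra A S] (x w : S ⊗[A] B),
      F.law.toFun' S (x + w * (1 ⊗ₜ[A] b)) = F.law.toFun' S x := by
  refine ⟨fun h S _ _ x w => h S x w, fun h S _ _ x w => ?_⟩
  letI : CommRing S := { Algebra.semiringToRing A, (inferInstance : CommSemiring S) with }
  exact h S x w

theorem mem_kerBC_iff {A' : Type u} [CommRing A'] [Algebra A A'] (b : A' ⊗[A] B) :
    b ∈ PolLaw.kerBC F.law A' ↔
      ∀ (R : Type u) [CommRing R] [Algebra A R] [Algebra A' R] [IsScalarTower A A' R] (x w : R ⊗[A] B),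
        F.law.toFun' R (x + w * Algebra.TensorProduct.map (IsScalarTower.toAlgHom A A' R) (AlgHom.id A B) b) =
          F.law.toFun' R x := by
  refine ⟨fun h R _ _ _ _ x w => h R x w, fun h R _ _ _ _ x w => ?_⟩
  letI : CommRing R := { Algebra.semiringToRing A, (inferInstance : CommSemiring R) with }
  exact h R x w

theorem chA_mem_kerBC (A' : Type u) [CommRing A'] [Algebra A A'] (z : A' ⊗[A] B) :
    chA F A' z ∈ PolLaw.kerBC F.law A' := by
  rw [mem_kerBC_iff]
  intro R _ _ _ _ x w
  rw [← chA_map]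
  exact apply_add_mul_chA F R x w _

theorem map_ker_le_kerBC (A' : Type u) [CommRing A'] [Algebra A A'] :
    (PolLaw.ker F.law).map (Algebra.TensorProduct.includeRight : B →ₐ[A] A' ⊗[A] B) ≤ PolLaw.kerBC F.law A' := by
  refine Ideal.map_le_iff_le_comap.mpr fun b hb => ?_
  intro R _ _ _ _ x w
  rw [show Algebra.TensorProduct.map (IsScalarTower.toAlgHom A A' R) (AlgHom.id A B)
    (Algebra.TensorProduct.includeRight b) = (1 : R) ⊗ₜ[A] b by simp]
  exact hb R x w

theorem one_tmul_mem_kerBC_self {A : Type u} [CommRing A] {B C : Type u} [CommRing B] [Algebra A B] [CommRing C]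
    [Algebra A C] {F : B →ₚₗ[A] C} {b : B} (h : (1 : A) ⊗ₜ[A] b ∈ PolLaw.kerBC F A) : b ∈ PolLaw.ker F := by
  intro S _ _ x w
  have := h S x w
  simpa using this

/-- Substituting zero preserves the base-changed kernel. -/
theorem map_mem_kerBC {A' A'' : Type u} [CommRing A'] [Algebra A A'] [CommRing A''] [Algebra A A'']
    (ψ : A' →ₐ[A] A'') {y : A' ⊗[A] B} (hy : y ∈ PolLaw.kerBC F.law A') :
    Algebra.TensorProduct.map ψ (AlgHom.id A B) y ∈ PolLaw.kerBC F.law A'' := by
  intro R _ _ _ _ x w
  letI : Algebra A' R := ((algebraMap A'' R).comp ψ.toRingHom).toAlgebra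
  haveI : IsScalarTower A A' R := IsScalarTower.of_algebraMap_eq fun a => by
    show _ = algebraMap A'' R (ψ (algebraMap A A' a))
    rw [ψ.commutes, ← IsScalarTower.algebraMap_apply]
  have h := hy R x w
  rw [show Algebra.TensorProduct.map (IsScalarTower.toAlgHom A A'' R) (AlgHom.id A B)
      (Algebra.TensorProduct.map ψ (AlgHom.id A B) y) =
      Algebra.TensorProduct.map (IsScalarTower.toAlgHom A A' R) (AlgHom.id A B) y by
    rw [← AlgHom.comp_apply, ← Algebra.TensorProduct.map_comp]
    rfl]
  exact h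

/-- Setting a variable to zero. -/
noncomputable def killVar {σ : Type u} (i : σ) : MvPolynomial σ A →ₐ[A] MvPolynomial σ A :=
  haveI := Classical.decEq σ
  aeval fun j => if j = i then 0 else X j

theorem killVar_monomial {σ : Type u} (i : σ) (β : σ →₀ ℕ) (a : A) :
    killVar i (monomial β a) = if β i = 0 then monomial β a else 0 := by
  classical
  rw [killVar, aeval_monomial]
  split_ifs with h
  · rw [monomial_eq, Finsupp.prod]
    congr 1
    exact Finset.prod_congr rfl fun j hj => by
      rw [if_neg]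
      rintro rfl
      exact Finsupp.mem_support_iff.mp hj h
  · rw [Finsupp.prod, Finset.prod_eq_zero (Finsupp.mem_support_iff.mpr h), mul_zero]
    simp [h]

/-- Dividing out a variable preserves the base-changed kernel. -/
theorem mem_kerBC_of_X_mul {σ : Type u} (i : σ) {y : MvPolynomial σ A ⊗[A] B}
    (hy : ((X i : MvPolynomial σ A) ⊗ₜ[A] (1 : B)) * y ∈ PolLaw.kerBC F.law (MvPolynomial σ A)) :
    y ∈ PolLaw.kerBC F.law (MvPolynomial σ A) := by
  classical
  rw [mem_kerBC_iff]
  intro R _ _ _ _ x w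
  obtain ⟨s, t, rfl⟩ := exists_sum (id : B → B) span_range_id R x
  obtain ⟨s', t', rfl⟩ := exists_sum (id : B → B) span_range_id R w
  let ev : (MvPolynomial (B ⊕ B) (MvPolynomial σ A)) →ₐ[A] R := (aeval (Sum.elim t t') : (MvPolynomial (B ⊕ B) (MvPolynomial σ A)) →ₐ[(MvPolynomial σ A)] R).restrictScalars A
  let x₀ : (MvPolynomial (B ⊕ B) (MvPolynomial σ A)) ⊗[A] B := ∑ b ∈ s, X (Sum.inl b) ⊗ₜ[A] b
  let w₀ : (MvPolynomial (B ⊕ B) (MvPolynomial σ A)) ⊗[A] B := ∑ b ∈ s', X (Sum.inr b) ⊗ₜ[A] b
  let j : (MvPolynomial (B ⊕ B) (MvPolynomial σ A)) ⊗[A] B := Algebra.TensorProduct.map (IsScalarTower.toAlgHom A (MvPolynomial σ A) (MvPolynomial (B ⊕ B) (MvPolynomial σ A))) (AlgHom.id A B) y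
  suffices h : F.law.toFun' (MvPolynomial (B ⊕ B) (MvPolynomial σ A)) (x₀ + w₀ * j) = F.law.toFun' (MvPolynomial (B ⊕ B) (MvPolynomial σ A)) x₀ by
    have h1 := congrArg (ev.toLinearMap.rTensor A) h
    rw [PolynomialLaw.isCompat_apply', PolynomialLaw.isCompat_apply', PolLaw.rTensor_algHom_apply,
      PolLaw.rTensor_algHom_apply, map_add, map_mul] at h1
    have hx : Algebra.TensorProduct.map ev (AlgHom.id A B) x₀ = ∑ i ∈ s, t i ⊗ₜ[A] id i := by simp [x₀, ev, map_sum]
    have hw : Algebra.TensorProduct.map ev (AlgHom.id A B) w₀ = ∑ i ∈ s', t' i ⊗ₜ[A] id i := by simp [w₀, ev, map_sum]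
    have hj : Algebra.TensorProduct.map ev (AlgHom.id A B) j =
        Algebra.TensorProduct.map (IsScalarTower.toAlgHom A (MvPolynomial σ A) R) (AlgHom.id A B) y := by
      rw [← AlgHom.comp_apply, ← Algebra.TensorProduct.map_comp]
      congr 2
      exact AlgHom.ext fun q => (aeval (Sum.elim t t') : (MvPolynomial (B ⊕ B) (MvPolynomial σ A)) →ₐ[(MvPolynomial σ A)] R).commutes q
    rwa [hx, hw, hj] at h1
  -- scale the variables of `w₀` by `X i`
  let θ : (MvPolynomial (B ⊕ B) (MvPolynomial σ A)) →ₐ[A] (MvPolynomial (B ⊕ B) (MvPolynomial σ A)) :=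
    (aeval (Sum.elim (fun b => X (Sum.inl b)) fun b => C (X i : (MvPolynomial σ A)) * X (Sum.inr b)) : (MvPolynomial (B ⊕ B) (MvPolynomial σ A)) →ₐ[(MvPolynomial σ A)] (MvPolynomial (B ⊕ B) (MvPolynomial σ A))).restrictScalars A
  let m : (B ⊕ B →₀ ℕ) → ℕ := fun β => ∑ v ∈ β.support, Sum.elim (fun _ => 0) (fun _ => β v) v
  let L : (MvPolynomial (B ⊕ B) (MvPolynomial σ A)) →ₗ[A] (MvPolynomial (B ⊕ B) (MvPolynomial σ A)) :=
    (Finsupp.lsum A fun β =>
    ((monomial β : (MvPolynomial σ A) →ₗ[(MvPolynomial σ A)] (MvPolynomial (B ⊕ B) (MvPolynomial σ A))).restrictScalars A) ∘ₗ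
      (Finsupp.lsum A fun γ => (monomial (γ - Finsupp.single i (m β)) : A →ₗ[A] (MvPolynomial σ A))) ∘ₗ
        (AddMonoidAlgebra.coeffLinearEquiv A (S := A) (M := σ →₀ ℕ)).toLinearMap) ∘ₗ
      (AddMonoidAlgebra.coeffLinearEquiv A (S := MvPolynomial σ A) (M := (B ⊕ B) →₀ ℕ)).toLinearMap
  have hθ : ∀ (β : B ⊕ B →₀ ℕ) (q : (MvPolynomial σ A)), θ (monomial β q) = monomial β ((X i : (MvPolynomial σ A)) ^ m β * q) := by
    intro β q
    show aeval _ (monomial β q) = _
    rw [aeval_monomial]
    have : β.prod (fun v n => (Sum.elim (fun b => (X (Sum.inl b) : (MvPolynomial (B ⊕ B) (MvPolynomial σ A)))) (fun b => C (X i : (MvPolynomial σ A)) * X (Sum.inr b)) v) ^ n) =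
        C ((X i : (MvPolynomial σ A)) ^ m β) * monomial β 1 := by
      rw [monomial_eq, C_1, one_mul, Finsupp.prod, Finsupp.prod, map_pow, ← Finset.prod_pow_eq_pow_sum,
        ← Finset.prod_mul_distrib]
      refine Finset.prod_congr rfl fun v _ => ?_
      cases v with
      | inl b => simp
      | inr b => simp [mul_pow]
    rw [this, MvPolynomial.algebraMap_eq, ← mul_assoc, ← map_mul, C_mul_monomial, mul_one, mul_comm]
  have hL : L ∘ₗ θ.toLinearMap = LinearMap.id := by
    refine AddMonoidAlgebra.lhom_ext' fun β => LinearMap.ext fun q => ?_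
    show L (θ (monomial β q)) = monomial β q
    rw [hθ]
    induction q using MvPolynomial.induction_on' with
    | monomial γ a =>
      rw [X_pow_eq_monomial, monomial_mul, one_mul]
      show L (monomial β (monomial _ a)) = _
      simp [L, monomial]
    | add p q hp hq => rw [mul_add, map_add, map_add, hp, hq, map_add]
  have hinj : Function.Injective (θ.toLinearMap.rTensor A) := by
    intro a b hab
    have := congrArg (L.rTensor A) hab
    rwa [← LinearMap.comp_apply, ← LinearMap.comp_apply, ← LinearMap.rTensor_comp, hL, LinearMap.rTensor_id] at this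
  apply hinj
  rw [PolynomialLaw.isCompat_apply', PolynomialLaw.isCompat_apply', PolLaw.rTensor_algHom_apply,
    PolLaw.rTensor_algHom_apply, map_add, map_mul]
  let Θ : (MvPolynomial (B ⊕ B) (MvPolynomial σ A)) ⊗[A] B →ₐ[A] (MvPolynomial (B ⊕ B) (MvPolynomial σ A)) ⊗[A] B := Algebra.TensorProduct.map θ (AlgHom.id A B)
  show F.law.toFun' (MvPolynomial (B ⊕ B) (MvPolynomial σ A)) (Θ x₀ + Θ w₀ * Θ j) = F.law.toFun' (MvPolynomial (B ⊕ B) (MvPolynomial σ A)) (Θ x₀)
  have e1 : Θ x₀ = x₀ := by simp [Θ, θ, x₀, map_sum]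
  have e2 : Θ w₀ = ((C (X i : (MvPolynomial σ A)) : (MvPolynomial (B ⊕ B) (MvPolynomial σ A))) ⊗ₜ[A] (1 : B)) * w₀ := by
    simp [Θ, θ, w₀, map_sum, Finset.mul_sum]
  have e3 : Θ j = j := by
    show Algebra.TensorProduct.map θ (AlgHom.id A B) j = _
    rw [← AlgHom.comp_apply, ← Algebra.TensorProduct.map_comp]
    congr 2
    exact AlgHom.ext fun q => (aeval (Sum.elim (fun b => X (Sum.inl b)) fun b => C (X i : (MvPolynomial σ A)) * X (Sum.inr b)) :
      (MvPolynomial (B ⊕ B) (MvPolynomial σ A)) →ₐ[(MvPolynomial σ A)] (MvPolynomial (B ⊕ B) (MvPolynomial σ A))).commutes q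
  rw [e1, e2, e3]
  have h := hy (MvPolynomial (B ⊕ B) (MvPolynomial σ A)) x₀ w₀
  rw [map_mul, Algebra.TensorProduct.map_tmul, AlgHom.id_apply, IsScalarTower.coe_toAlgHom',
    MvPolynomial.algebraMap_eq] at h
  rw [mul_comm _ w₀, mul_assoc]
  exact h

/-- Coefficients of an element of the kernel over a polynomial ring lie in the kernel. -/
theorem co_mem_ker {σ : Type u} {y : MvPolynomial σ A ⊗[A] B} (hy : y ∈ PolLaw.kerBC F.law (MvPolynomial σ A))
    (α : σ →₀ ℕ) : co α y ∈ PolLaw.ker F.law := by
  classical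
  suffices h : ∀ (n : ℕ) (α : σ →₀ ℕ) (y : MvPolynomial σ A ⊗[A] B), deg α = n →
      y ∈ PolLaw.kerBC F.law (MvPolynomial σ A) → co α y ∈ PolLaw.ker F.law from h _ α y rfl hy
  intro n
  induction n with
  | zero =>
    intro α y hα hy
    obtain rfl : α = 0 := by
      ext i
      by_contra hi
      have := Finset.sum_eq_zero_iff.mp (show ∑ i ∈ α.support, α i = 0 from hα) i (Finsupp.mem_support_iff.mpr hi)
      exact hi this
    have h0 := map_mem_kerBC F (aeval (fun _ : σ => (0 : A)) : MvPolynomial σ A →ₐ[A] A) hy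
    refine one_tmul_mem_kerBC_self (F := F.law) ?_
    have : ∀ y : MvPolynomial σ A ⊗[A] B,
        Algebra.TensorProduct.map (aeval (fun _ : σ => (0 : A)) : MvPolynomial σ A →ₐ[A] A) (AlgHom.id A B) y =
          (1 : A) ⊗ₜ[A] co 0 y := by
      intro y
      induction y using TensorProduct.induction_on with
      | zero => simp
      | tmul p b =>
        rw [Algebra.TensorProduct.map_tmul, co_tmul, TensorProduct.tmul_smul, TensorProduct.smul_tmul', smul_eq_mul,
          mul_one, AlgHom.id_apply]
        congr 1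
        rw [show (fun _ : σ => (0 : A)) = 0 from rfl, aeval_zero]
        simp [constantCoeff_eq]
      | add a b ha hb => simp only [map_add, TensorProduct.tmul_add, ha, hb]
    rwa [this] at h0
  | succ n ih =>
    intro α y hα hy
    obtain ⟨i, hi⟩ : α.support.Nonempty := by
      rw [Finset.nonempty_iff_ne_empty]
      intro he
      rw [deg, Finsupp.sum, he, Finset.sum_empty] at hα
      omega
    have hle : Finsupp.single i 1 ≤ α := by
      rw [Finsupp.single_le_iff]
      exact Nat.one_le_iff_ne_zero.mpr (Finsupp.mem_support_iff.mp hi)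
    let α' := α - Finsupp.single i 1
    have hsplit : α' + Finsupp.single i 1 = α := tsub_add_cancel_of_le hle
    have hdeg : deg α' = n := by
      rw [← hsplit, deg, Finsupp.sum_add_index' (fun _ => rfl) (fun _ _ _ => rfl), Finsupp.sum_single_index rfl] at hα
      rw [deg]; omega
    obtain ⟨T, hT, hyT⟩ := exists_sum_monomial y
    let y' : MvPolynomial σ A ⊗[A] B :=
      ∑ β ∈ T.filter (fun β => β i ≠ 0), monomial (β - Finsupp.single i 1) (1 : A) ⊗ₜ[A] co β y
    let y₀ := Algebra.TensorProduct.map (killVar i) (AlgHom.id A B) y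
    have hdec : y = y₀ + ((X i : MvPolynomial σ A) ⊗ₜ[A] (1 : B)) * y' := by
      have e0 : y₀ = ∑ β ∈ T.filter (fun β => β i = 0), monomial β (1 : A) ⊗ₜ[A] co β y := by
        show Algebra.TensorProduct.map (killVar i) (AlgHom.id A B) y = _
        conv_lhs => rw [hyT]
        rw [map_sum, Finset.sum_filter]
        refine Finset.sum_congr rfl fun β _ => ?_
        rw [Algebra.TensorProduct.map_tmul, AlgHom.id_apply, killVar_monomial]
        split_ifs <;> simp
      have e1 : ((X i : MvPolynomial σ A) ⊗ₜ[A] (1 : B)) * y' =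
          ∑ β ∈ T.filter (fun β => ¬ β i = 0), monomial β (1 : A) ⊗ₜ[A] co β y := by
        rw [Finset.mul_sum]
        refine Finset.sum_congr rfl fun β hβ => ?_
        rw [Algebra.TensorProduct.tmul_mul_tmul, one_mul, X, monomial_mul, one_mul,
          add_tsub_cancel_of_le (Finsupp.single_le_iff.mpr (Nat.one_le_iff_ne_zero.mpr (Finset.mem_filter.mp hβ).2))]
      rw [e0, e1, Finset.sum_filter_add_sum_filter_not]
      exact hyT
    have hy0 : y₀ ∈ PolLaw.kerBC F.law (MvPolynomial σ A) := map_mem_kerBC F (killVar i) hy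
    have hy' : y' ∈ PolLaw.kerBC F.law (MvPolynomial σ A) := by
      refine mem_kerBC_of_X_mul F i ?_
      have := Ideal.sub_mem _ hy hy0
      rwa [show y - y₀ = ((X i : MvPolynomial σ A) ⊗ₜ[A] (1 : B)) * y' by
        rw [sub_eq_iff_eq_add']; exact hdec] at this
    have : co α' y' = co α y := by
      rw [map_sum]
      simp only [co_monomial, one_smul]
      rw [Finset.sum_eq_single α]
      · rw [if_pos rfl]
      · intro β hβ hne
        rw [if_neg]
        intro he
        apply hne
        rw [← hsplit, ← he, tsub_add_cancel_of_le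
          (Finsupp.single_le_iff.mpr (Nat.one_le_iff_ne_zero.mpr (Finset.mem_filter.mp hβ).2))]
      · intro h
        rw [if_pos rfl]
        refine hT α fun hmem => h (Finset.mem_filter.mpr ⟨hmem, Finsupp.mem_support_iff.mp hi⟩)
    rw [← this]
    exact ih α' y' hdeg hy'

/-- The coefficients of Cayley-Hamilton elements lie in the kernel. -/
theorem co_chA_mem_ker {σ : Type u} (z : MvPolynomial σ A ⊗[A] B) (α : σ →₀ ℕ) :
    co α (chA F (MvPolynomial σ A) z) ∈ PolLaw.ker F.law :=
  co_mem_ker F (chA_mem_kerBC F _ z) α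

/-- The characteristic polynomial splits along a splitting of the law. -/
theorem chiA_split {L : Type u} [CommRing L] [Algebra A L] (g : Fin d → (B →ₐ[A] L))
    (hg : PolLaw.postcomp (Algebra.ofId A L).toLinearMap F.law = (PolLaw.MulLaw.prodMap g d (Fintype.card_fin d)).law)
    {U V : Type u} [CommRing U] [Algebra A U] [CommRing V] [Algebra A V] [Algebra L V] [IsScalarTower A L V]
    (ψ : U →ₐ[A] V) (z : U ⊗[A] B) :
    (chiA F U z).map ψ.toRingHom = ∏ j, (Polynomial.C (Algebra.TensorProduct.lift ψ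
      ((IsScalarTower.toAlgHom A L V).comp (g j)) (fun _ _ => Commute.all _ _) z) - Polynomial.X) := by
  rw [← chiA_map]
  generalize hz' : Algebra.TensorProduct.map ψ (AlgHom.id A B) z = z'
  have h2 : ∀ j, Algebra.TensorProduct.lift ψ ((IsScalarTower.toAlgHom A L V).comp (g j)) (fun _ _ => Commute.all _ _) z =
      Algebra.TensorProduct.lift (AlgHom.id A V) ((IsScalarTower.toAlgHom A L V).comp (g j))
        (fun _ _ => Commute.all _ _) z' := by
    intro j
    rw [← hz']
    clear hz'
    induction z using TensorProduct.induction_on with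
    | zero => simp
    | tmul a b => simp
    | add a b ha hb => simp only [map_add, ha, hb]
  simp only [h2]
  let M : Polynomial V ⊗[A] L →ₐ[A] Polynomial V := Algebra.TensorProduct.lift (AlgHom.id A _)
    ((IsScalarTower.toAlgHom A V (Polynomial V)).comp (IsScalarTower.toAlgHom A L V)) (fun _ _ => Commute.all _ _)
  have h3 : M ((Algebra.ofId A L).toLinearMap.lTensor _ (F.law.toFun' (Polynomial V) (zX V z'))) = chiA F V z' := by
    rw [chiA]
    generalize F.law.toFun' (Polynomial V) (zX V z') = y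
    induction y using TensorProduct.induction_on with
    | zero => simp
    | tmul p c =>
      simp only [LinearMap.lTensor_tmul, AlgHom.toLinearMap_apply, M, Algebra.TensorProduct.lift_tmul, AlgHom.id_apply,
        TensorProduct.rid_tmul, AlgHom.commutes, Algebra.ofId_apply]
      rw [mul_comm, Algebra.smul_def]
    | add a b ha hb => simp only [map_add, ha, hb]
  rw [← h3]
  have h4 : (Algebra.ofId A L).toLinearMap.lTensor _ (F.law.toFun' (Polynomial V) (zX V z')) =
      ∏ j, Algebra.TensorProduct.map (AlgHom.id (Polynomial V) (Polynomial V)) (g j) (zX V z') :=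
    congrFun (congrArg (fun G : B →ₚₗ[A] L => G.toFun' (Polynomial V)) hg) (zX V z')
  rw [h4, map_prod]
  refine Finset.prod_congr rfl fun j _ => ?_
  rw [zX, map_sub, map_sub]
  congr 1
  · clear hz' h2 h3 h4
    induction z' using TensorProduct.induction_on with
    | zero => simp
    | tmul a b => simp [M, cst]
    | add a b ha hb => simp only [map_add, ha, hb]
  · simp [M]

/-- A point killing the kernel is one of the roots. -/
theorem exists_eq_root {L : Type u} [CommRing L] [IsDomain L] [Algebra A L] (g : Fin d → (B →ₐ[A] L))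
    (hg : PolLaw.postcomp (Algebra.ofId A L).toLinearMap F.law = (PolLaw.MulLaw.prodMap g d (Fintype.card_fin d)).law)
    (h : B →ₐ[A] L) (hh : ∀ b ∈ PolLaw.ker F.law, h b = 0) : ∃ j, g j = h := by
  classical
  by_contra hcon
  push Not at hcon
  have hb : ∀ j, ∃ b, g j b ≠ h b := fun j => by
    by_contra hj
    push Not at hj
    exact hcon j (AlgHom.ext hj)
  choose b hb using hb
  let σ := ULift.{u} (Fin d)
  let U := MvPolynomial σ A
  let V := MvPolynomial σ L
  let z : U ⊗[A] B := ∑ l : σ, X l ⊗ₜ[A] b l.down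
  let ψ : U →ₐ[A] V := MvPolynomial.mapAlgHom (Algebra.ofId A L)
  let ev : (B →ₐ[A] L) → (U ⊗[A] B →ₐ[A] V) := fun f =>
    Algebra.TensorProduct.lift ψ ((IsScalarTower.toAlgHom A L V).comp f) (fun _ _ => Commute.all _ _)
  have h0 : ev h (chA F U z) = 0 := by
    obtain ⟨T, -, hT⟩ := exists_sum_monomial (chA F U z)
    rw [hT, map_sum]
    refine Finset.sum_eq_zero fun α _ => ?_
    simp [ev]
    exact Or.inr (hh _ (co_chA_mem_ker F z α))
  have h1 : ev h (chA F U z) = Polynomial.eval (ev h z) ((chiA F U z).map ψ.toRingHom) := by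
    rw [chA, Polynomial.eval_map]
    refine (Polynomial.hom_eval₂ _ _ (ev h).toRingHom _).trans ?_
    congr 1
    exact RingHom.ext fun a => by simp [ev]
  rw [h1, chiA_split F g hg ψ z, Polynomial.eval_prod, Finset.prod_eq_zero_iff] at h0
  obtain ⟨j, -, hj⟩ := h0
  simp only [Polynomial.eval_sub, Polynomial.eval_C, Polynomial.eval_X, sub_eq_zero] at hj
  have hz : ∀ f : B →ₐ[A] L, ev f z = ∑ l : σ, X l * C (f (b l.down)) := fun f => by
    simp [ev, z, ψ, map_sum]
    refine Finset.sum_congr rfl fun x _ => ?_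
    show MvPolynomial.map (algebraMap A L) (X x : MvPolynomial σ A) * C _ = _
    rw [MvPolynomial.map_X]
  have h5 := congrArg (coeff (Finsupp.single (⟨j⟩ : σ) 1)) (hj : ev (g j) z = ev h z)
  rw [hz, hz, coeff_sum, coeff_sum, Finset.sum_eq_single (⟨j⟩ : σ), Finset.sum_eq_single (⟨j⟩ : σ)] at h5
  · refine hb j ?_
    simpa [mul_comm (X _)] using h5
  all_goals first
    | (intro l _ hl
       rw [mul_comm, coeff_C_mul, coeff_X']
       simp [Finsupp.single_eq_single_iff, hl])
    | (intro h; exact absurd (Finset.mem_univ _) h)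

end Groth.Agent.DivPow
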