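import Groth.Agent.DivPow.Ker

/-!
# First consequences of the Cayley-Hamilton identity for laws
-/

set_option autoImplicit false
set_option linter.unusedSectionVars false
universe u

open scoped TensorProduct
open MvPolynomial

namespace Groth.Agent.DivPow

variable {A B : Type u} [CommRing A] [CommRing B] [Algebra A B] {d : ℕ} (F : PolLaw.MulLaw A B A d)

theorem mem_map_of_co {σ : Type u} (I : Ideal B) {y : MvPolynomial σ A ⊗[A] B} (h : ∀ α, co α y ∈ I) :
    y ∈ I.map (Algebra.TensorProduct.includeRight : B →ₐ[A] MvPolynomial σ A ⊗[A] B) := by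
  obtain ⟨T, -, hy⟩ := exists_sum_monomial y
  rw [hy]
  refine Ideal.sum_mem _ fun α _ => ?_
  rw [show monomial α (1 : A) ⊗ₜ[A] co α y =
    (monomial α (1 : A) ⊗ₜ[A] (1 : B)) * (Algebra.TensorProduct.includeRight (co α y) : MvPolynomial σ A ⊗[A] B) by simp]
  exact Ideal.mul_mem_left _ _ (Ideal.mem_map_of_mem _ (h α))

theorem map_includeRight_le {U U' : Type u} [CommRing U] [Algebra A U] [CommRing U'] [Algebra A U'] (ψ : U →ₐ[A] U')
    (I : Ideal B) :
    (I.map (Algebra.TensorProduct.includeRight : B →ₐ[A] U ⊗[A] B)).map (Algebra.TensorProduct.map ψ (AlgHom.id A B)) ≤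
      I.map (Algebra.TensorProduct.includeRight : B →ₐ[A] U' ⊗[A] B) := by
  rw [Ideal.map_le_iff_le_comap, Ideal.map_le_iff_le_comap]
  intro b hb
  rw [Ideal.mem_comap, Ideal.mem_comap]
  simpa using Ideal.mem_map_of_mem (Algebra.TensorProduct.includeRight : B →ₐ[A] U' ⊗[A] B) hb

/-- The Cayley-Hamilton elements lie in the extension of the kernel. -/
theorem chA_mem_map_ker (U : Type u) [CommRing U] [Algebra A U] (z : U ⊗[A] B) :
    chA F U z ∈ (PolLaw.ker F.law).map (Algebra.TensorProduct.includeRight : B →ₐ[A] U ⊗[A] B) := by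
  obtain ⟨σ, ψ, z', -, -, rfl, -, -⟩ := exists_lift3 U z z z
  rw [chA_map]
  exact map_includeRight_le ψ _ (Ideal.mem_map_of_mem _ (mem_map_of_co _ fun α => co_chA_mem_ker F z' α))

/-- An element of the kernel has characteristic polynomial `(-X) ^ d`. -/
theorem chiA_of_mem_kerBC (U : Type u) [CommRing U] [Algebra A U] {z : U ⊗[A] B}
    (hz : z ∈ PolLaw.kerBC F.law U) : chiA F U z = (-Polynomial.X) ^ d := by
  have h := hz (Polynomial U) ((-Polynomial.X : Polynomial U) • (1 : Polynomial U ⊗[A] B)) 1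
  rw [F.homog, (F.mult _).1, one_mul] at h
  have hx : zX U z = (-Polynomial.X : Polynomial U) • (1 : Polynomial U ⊗[A] B) +
      Algebra.TensorProduct.map (IsScalarTower.toAlgHom A U (Polynomial U)) (AlgHom.id A B) z := by
    rw [zX, Algebra.TensorProduct.one_def, TensorProduct.smul_tmul', smul_eq_mul, mul_one, TensorProduct.neg_tmul,
      sub_eq_neg_add]
    rfl
  rw [chiA, hx, h, Algebra.TensorProduct.one_def, TensorProduct.smul_tmul', smul_eq_mul, mul_one,
    TensorProduct.rid_tmul, one_smul]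

theorem chA_of_chiA {U : Type u} [CommRing U] [Algebra A U] {z : U ⊗[A] B}
    (h : chiA F U z = (-Polynomial.X) ^ d) : chA F U z = (-z) ^ d := by
  rw [chA, h, Polynomial.eval₂_pow, Polynomial.eval₂_neg, Polynomial.eval₂_X]

theorem neg_pow_mem {R : Type*} [CommRing R] {I : Ideal R} {z : R} {n : ℕ} (h : (-z) ^ n ∈ I) : z ^ n ∈ I := by
  have := I.mul_mem_left ((-1) ^ n) h
  rwa [← mul_pow, neg_one_mul, neg_neg] at this

/-- The `d`th power of an element of the base-changed kernel lies in the extended kernel. -/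
theorem pow_mem_map_ker (U : Type u) [CommRing U] [Algebra A U] {z : U ⊗[A] B}
    (hz : z ∈ PolLaw.kerBC F.law U) :
    z ^ d ∈ (PolLaw.ker F.law).map (Algebra.TensorProduct.includeRight : B →ₐ[A] U ⊗[A] B) := by
  refine neg_pow_mem ?_
  rw [← chA_of_chiA F (chiA_of_mem_kerBC F U hz)]
  exact chA_mem_map_ker F U z

theorem radical_kerBC (U : Type u) [CommRing U] [Algebra A U] :
    (PolLaw.kerBC F.law U).radical =
      ((PolLaw.ker F.law).map (Algebra.TensorProduct.includeRight : B →ₐ[A] U ⊗[A] B)).radical :=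
  le_antisymm (Ideal.radical_le_radical_iff.mpr fun _ hz => ⟨d, pow_mem_map_ker F U hz⟩)
    (Ideal.radical_mono (map_ker_le_kerBC F U))

/-- The characteristic polynomial of an element of `B`. -/
theorem chiA_one_tmul (b : B) :
    chiA F A ((1 : A) ⊗ₜ[A] b) = TensorProduct.rid A (Polynomial A)
      (F.law.toFun' (Polynomial A) ((1 : Polynomial A) ⊗ₜ[A] b - Polynomial.X ⊗ₜ[A] (1 : B))) := by
  rw [chiA, zX, Algebra.TensorProduct.map_tmul, map_one, AlgHom.id_apply]

theorem chA_one_tmul (b : B) :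
    chA F A ((1 : A) ⊗ₜ[A] b) = (1 : A) ⊗ₜ[A] Polynomial.aeval b (chiA F A ((1 : A) ⊗ₜ[A] b)) := by
  show _ = (Algebra.TensorProduct.includeRight : B →ₐ[A] A ⊗[A] B) _
  rw [chA, ← Polynomial.aeval_algHom_apply, Polynomial.aeval_def]
  congr 1

theorem aeval_chiA_mem_ker (b : B) :
    Polynomial.aeval b (chiA F A ((1 : A) ⊗ₜ[A] b)) ∈ PolLaw.ker F.law := by
  refine one_tmul_mem_kerBC_self (F := F.law) ?_
  rw [← chA_one_tmul]
  exact chA_mem_kerBC F A _

theorem chiA_of_mem_ker {b : B} (hb : b ∈ PolLaw.ker F.law) :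
    chiA F A ((1 : A) ⊗ₜ[A] b) = (-Polynomial.X) ^ d :=
  chiA_of_mem_kerBC F A (map_ker_le_kerBC F A (Ideal.mem_map_of_mem _ hb))

theorem isIntegral_image : Algebra.IsIntegral A (PolLaw.image F.law) := by
  refine ⟨fun x => ?_⟩
  obtain ⟨b, rfl⟩ := Ideal.Quotient.mk_surjective x
  refine ⟨_, chiA_monic F A ((1 : A) ⊗ₜ[A] b), ?_⟩
  rw [Polynomial.eval₂_mul]
  refine mul_eq_zero_of_left ?_ _
  rw [← Polynomial.aeval_def, ← Ideal.Quotient.mkₐ_eq_mk A, Polynomial.aeval_algHom_apply, Ideal.Quotient.mkₐ_eq_mk,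
    Ideal.Quotient.eq_zero_iff_mem]
  exact aeval_chiA_mem_ker F b

/-- The roots of a split law vanish on elements with characteristic polynomial `(-X) ^ d`. -/
theorem root_eq_zero {L : Type u} [CommRing L] [IsDomain L] [Algebra A L] (g : Fin d → (B →ₐ[A] L))
    (hg : PolLaw.postcomp (Algebra.ofId A L).toLinearMap F.law = (PolLaw.MulLaw.prodMap g d (Fintype.card_fin d)).law)
    {U : Type u} [CommRing U] [Algebra A U] (ψ : U →ₐ[A] L) {z : U ⊗[A] B}
    (h : (chiA F U z).map ψ.toRingHom = (-Polynomial.X) ^ d) (j : Fin d) :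
    Algebra.TensorProduct.lift ψ (g j) (fun _ _ => Commute.all _ _) z = 0 := by
  rw [chiA_split F g hg ψ z] at h
  have h1 := congrArg (Polynomial.eval (Algebra.TensorProduct.lift ψ (g j) (fun _ _ => Commute.all _ _) z)) h
  rw [Polynomial.eval_prod, Finset.prod_eq_zero (Finset.mem_univ j), Polynomial.eval_pow, Polynomial.eval_neg,
    Polynomial.eval_X] at h1
  · exact neg_eq_zero.mp (pow_eq_zero_iff (by have := j.isLt; omega) |>.mp h1.symm)
  · rw [Polynomial.eval_sub, Polynomial.eval_C, Polynomial.eval_X, sub_eq_zero]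
    congr 2

theorem chiA_map_of_roots {L : Type u} [CommRing L] [Algebra A L] (g : Fin d → (B →ₐ[A] L))
    (hg : PolLaw.postcomp (Algebra.ofId A L).toLinearMap F.law = (PolLaw.MulLaw.prodMap g d (Fintype.card_fin d)).law)
    {U : Type u} [CommRing U] [Algebra A U] (ψ : U →ₐ[A] L) {z : U ⊗[A] B}
    (h : ∀ j, Algebra.TensorProduct.lift ψ (g j) (fun _ _ => Commute.all _ _) z = 0) :
    (chiA F U z).map ψ.toRingHom = (-Polynomial.X) ^ d := by
  rw [chiA_split F g hg ψ z, Finset.prod_eq_pow_card (b := -Polynomial.X), Finset.card_univ, Fintype.card_fin]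
  intro j _
  rw [show Algebra.TensorProduct.lift ψ ((IsScalarTower.toAlgHom A L L).comp (g j)) (fun _ _ => Commute.all _ _) z = 0 from h j,
    map_zero, zero_sub]

theorem root_ker {L : Type u} [CommRing L] [IsDomain L] [Algebra A L] (g : Fin d → (B →ₐ[A] L))
    (hg : PolLaw.postcomp (Algebra.ofId A L).toLinearMap F.law = (PolLaw.MulLaw.prodMap g d (Fintype.card_fin d)).law)
    (j : Fin d) {b : B} (hb : b ∈ PolLaw.ker F.law) : g j b = 0 := by
  have := root_eq_zero F g hg (Algebra.ofId A L) (z := (1 : A) ⊗ₜ[A] b)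
    (by rw [chiA_of_mem_ker F hb]; simp) j
  simpa using this

end Groth.Agent.DivPow
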