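import Groth.Agent.DivPow.KerFin

/-!
# Kernels and standard finite etale base change
-/

set_option autoImplicit false
set_option linter.unusedSectionVars false
universe u

open scoped TensorProduct

namespace Groth.Agent.DivPow

variable {A B : Type u} [CommRing A] [CommRing B] [Algebra A B] {d : ℕ} (F : PolLaw.MulLaw A B A d)

/-- Descent along a faithfully flat algebra. -/
theorem mem_ker_of_faithfullyFlat {T : Type u} [CommRing T] [Algebra A T] [Module.FaithfullyFlat A T] {b : B}
    (h : (1 : T) ⊗ₜ[A] b ∈ PolLaw.kerBC F.law T) : b ∈ PolLaw.ker F.law := by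
  rw [mem_ker_iff]
  intro S _ _ x w
  let j : S →ₐ[A] T ⊗[A] S := Algebra.TensorProduct.includeRight
  have hj : Function.Injective j := Module.FaithfullyFlat.tensorProduct_mk_injective S
  apply ridA_injective S
  apply hj
  rw [← ridA_rTensor, ← ridA_rTensor, PolynomialLaw.isCompat_apply', PolynomialLaw.isCompat_apply',
    PolLaw.rTensor_algHom_apply, PolLaw.rTensor_algHom_apply, map_add, map_mul, Algebra.TensorProduct.map_tmul,
    map_one, AlgHom.id_apply]
  have := h (T ⊗[A] S) (Algebra.TensorProduct.map j (AlgHom.id A B) x) (Algebra.TensorProduct.map j (AlgHom.id A B) w)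
  rw [Algebra.TensorProduct.map_tmul, map_one, AlgHom.id_apply] at this
  rw [this]

theorem exists_roots {R : Type u} [CommRing R] [Nontrivial R] {p : Polynomial R} (hp : p.Monic) (hs : p.Splits) :
    ∃ r : Fin p.natDegree → R, p = ∏ k, (Polynomial.X - Polynomial.C (r k)) := by
  obtain ⟨m, hm⟩ := Polynomial.splits_iff_exists_multiset.mp hs
  rw [hp.leadingCoeff, map_one, one_mul] at hm
  have hlen : m.toList.length = p.natDegree := by
    rw [Multiset.length_toList, hm, Polynomial.natDegree_multiset_prod_X_sub_C_eq_card]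
  refine ⟨fun k => m.toList.get (k.cast hlen.symm), ?_⟩
  have hh : (m.map fun x => Polynomial.X - Polynomial.C x).prod = (m.toList.map fun x => Polynomial.X - Polynomial.C x).prod := by
    conv_lhs => rw [← Multiset.coe_toList m, Multiset.map_coe, Multiset.prod_coe]
  conv_lhs => rw [hm, hh]
  rw [Fintype.prod_equiv (finCongr hlen.symm) (fun k => Polynomial.X - Polynomial.C (m.toList.get (k.cast hlen.symm)))
    (fun k => Polynomial.X - Polynomial.C (m.toList.get k)) (fun k => rfl), ← List.prod_ofFn]
  congr 1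
  exact (List.ext_getElem (by simp) (fun i h1 h2 => by simp))

/-- Differences of the roots of a separable polynomial are units. -/
theorem isUnit_sub_of_separable {R : Type u} [CommRing R] {n : ℕ} (r : Fin n → R) {p : Polynomial R}
    (hp : p = ∏ k, (Polynomial.X - Polynomial.C (r k))) (hsep : p.Separable) {k l : Fin n} (hkl : l ≠ k) :
    IsUnit (r k - r l) := by
  classical
  obtain ⟨a, b, hab⟩ := hsep
  have h0 : p.eval (r k) = 0 := by
    rw [hp, Polynomial.eval_prod]
    exact Finset.prod_eq_zero (Finset.mem_univ k) (by simp)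
  have h1 := congrArg (Polynomial.eval (r k)) hab
  rw [Polynomial.eval_add, Polynomial.eval_mul, Polynomial.eval_mul, h0, mul_zero, zero_add, Polynomial.eval_one] at h1
  have h2 : (Polynomial.derivative p).eval (r k) = ∏ l ∈ Finset.univ.erase k, (r k - r l) := by
    rw [hp, ← Finset.mul_prod_erase Finset.univ _ (Finset.mem_univ k), Polynomial.derivative_mul, Polynomial.eval_add,
      Polynomial.eval_mul, Polynomial.eval_mul, Polynomial.derivative_X_sub_C, Polynomial.eval_one, one_mul,
      Polynomial.eval_sub, Polynomial.eval_X, Polynomial.eval_C, sub_self, zero_mul, add_zero, Polynomial.eval_prod]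
    simp
  have h3 : IsUnit (∏ l ∈ Finset.univ.erase k, (r k - r l)) := by
    rw [← h2]
    exact .of_mul_eq_one_right _ h1
  exact isUnit_of_dvd_unit (Finset.dvd_prod_of_mem (fun l => r k - r l) (Finset.mem_erase.mpr ⟨hkl, Finset.mem_univ l⟩)) h3

/-- The kernel commutes with standard finite étale base change. -/
theorem kerBC_adjoinRoot (g : Polynomial A) (hg : g.Monic) (hsep : g.Separable) :
    PolLaw.kerBC F.law (AdjoinRoot g) ≤
      (PolLaw.ker F.law).map (Algebra.TensorProduct.includeRight : B →ₐ[A] AdjoinRoot g ⊗[A] B) := by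
  classical
  cases subsingleton_or_nontrivial A with
  | inl h =>
    haveI := Module.subsingleton A (AdjoinRoot g ⊗[A] B)
    exact fun y _ => by rw [Subsingleton.elim y 0]; exact zero_mem _
  | inr h =>
  intro y hy
  let pb := AdjoinRoot.powerBasis' hg
  obtain ⟨s, hs⟩ := TensorProduct.eq_repr_basis_left pb.basis y
  obtain ⟨T, _, _, _, _, _, hT⟩ := hg.exists_splits_map
  obtain ⟨r, hr⟩ := exists_roots (hg.map (algebraMap A T)) hT
  have hn : (g.map (algebraMap A T)).natDegree = pb.dim := (hg.natDegree_map _).trans rfl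
  let r' : Fin pb.dim → T := fun k => r (k.cast hn.symm)
  have hr' : g.map (algebraMap A T) = ∏ k, (Polynomial.X - Polynomial.C (r' k)) := by
    conv_lhs => rw [hr]
    exact (Fintype.prod_equiv (finCongr hn) _ _ fun k => rfl)
  have hroot : ∀ k, Polynomial.aeval (r' k) g = 0 := fun k => by
    rw [Polynomial.aeval_def, ← Polynomial.eval_map, hr', Polynomial.eval_prod]
    exact Finset.prod_eq_zero (Finset.mem_univ k) (by simp)
  let σ : Fin pb.dim → (AdjoinRoot g →ₐ[A] T) := fun k =>
    AdjoinRoot.liftAlgHom g (Algebra.ofId A T) (r' k) (hroot k)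
  have hσ : ∀ k (i : Fin pb.dim), σ k (pb.basis i) = r' k ^ (i : ℕ) := fun k i => by
    rw [pb.basis_eq_pow, map_pow]
    congr 1
    exact AdjoinRoot.liftAlgHom_root ..
  have hz : ∀ k, Algebra.TensorProduct.map (σ k) (AlgHom.id A B) y =
      ∑ i : Fin pb.dim, (Matrix.vandermonde r' k i) ⊗ₜ[A] s i := by
    intro k
    conv_lhs => rw [← hs]
    rw [Finsupp.sum_fintype _ _ (fun i => by simp), map_sum]
    exact Finset.sum_congr rfl fun i _ => by
      rw [Algebra.TensorProduct.map_tmul, AlgHom.id_apply, hσ, Matrix.vandermonde_apply]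
  have hdet : IsUnit (Matrix.vandermonde r').det := by
    rw [Matrix.det_vandermonde]
    refine IsUnit.prod_iff.mpr fun i _ => IsUnit.prod_iff.mpr fun j hj => ?_
    exact isUnit_sub_of_separable r' hr' (hsep.map) (Finset.mem_Ioi.mp hj).ne
  have hb : ∀ i, s i ∈ PolLaw.ker F.law := by
    intro i
    refine mem_ker_of_faithfullyFlat F (T := T) ?_
    let W := (Matrix.vandermonde r')⁻¹
    have hW : W * Matrix.vandermonde r' = 1 := Matrix.nonsing_inv_mul _ hdet
    have : (1 : T) ⊗ₜ[A] s i = ∑ k, (W i k ⊗ₜ[A] (1 : B)) * Algebra.TensorProduct.map (σ k) (AlgHom.id A B) y := by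
      simp only [hz, Finset.mul_sum, Algebra.TensorProduct.tmul_mul_tmul, one_mul]
      rw [Finset.sum_comm]
      simp only [← TensorProduct.sum_tmul, ← Matrix.mul_apply, hW, Matrix.one_apply]
      rw [Finset.sum_eq_single i]
      · simp
      · intro j _ hj
        simp [Ne.symm hj]
      · simp
    rw [this]
    exact Ideal.sum_mem _ fun k _ => Ideal.mul_mem_left _ _ (map_mem_kerBC F (σ k) hy)
  rw [← hs]
  refine Ideal.sum_mem _ fun i _ => ?_
  show pb.basis i ⊗ₜ[A] s i ∈ _
  rw [show pb.basis i ⊗ₜ[A] s i =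
    (pb.basis i ⊗ₜ[A] (1 : B)) * (Algebra.TensorProduct.includeRight (s i) : AdjoinRoot g ⊗[A] B) by simp]
  exact Ideal.mul_mem_left _ _ (Ideal.mem_map_of_mem _ (hb i))

end Groth.Agent.DivPow
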