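import Groth.Agent.DivPow.KerApps

/-!
# Fibres of the image of a family of zero-cycles
-/

set_option autoImplicit false
set_option linter.unusedSectionVars false
universe u

open scoped TensorProduct

namespace Groth.Agent.DivPow

variable {A B : Type u} [CommRing A] [CommRing B] [Algebra A B] {d : ℕ} (F : PolLaw.MulLaw A B A d)
variable (U : Type u) [CommRing U] [Algebra A U]

/-- The projection to the base-changed image. -/
noncomputable def proj : U ⊗[A] B →ₐ[A] U ⊗[A] PolLaw.image F.law :=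
  Algebra.TensorProduct.map (AlgHom.id A U) (Ideal.Quotient.mkₐ A (PolLaw.ker F.law))

theorem proj_surjective : Function.Surjective (proj F U) := by
  intro y
  induction y using TensorProduct.induction_on with
  | zero => exact ⟨0, map_zero _⟩
  | tmul a b =>
    obtain ⟨b, rfl⟩ := Ideal.Quotient.mk_surjective b
    exact ⟨a ⊗ₜ[A] b, rfl⟩
  | add a b ha hb =>
    obtain ⟨a, rfl⟩ := ha
    obtain ⟨b, rfl⟩ := hb
    exact ⟨a + b, map_add _ _ _⟩

theorem proj_includeLeft (u : U) : proj F U (u ⊗ₜ[A] (1 : B)) = algebraMap U (U ⊗[A] PolLaw.image F.law) u := rfl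

theorem proj_chA (z : U ⊗[A] B) : proj F U (chA F U z) = 0 := by
  have h : (PolLaw.ker F.law).map (Algebra.TensorProduct.includeRight : B →ₐ[A] U ⊗[A] B) ≤
      RingHom.ker (proj F U) := by
    rw [Ideal.map_le_iff_le_comap]
    intro b hb
    rw [Ideal.mem_comap, RingHom.mem_ker]
    show (1 : U) ⊗ₜ[A] Ideal.Quotient.mk _ b = 0
    rw [Ideal.Quotient.eq_zero_iff_mem.mpr hb, TensorProduct.tmul_zero]
  exact h (chA_mem_map_ker F U z)

theorem isIntegral_baseChange : Algebra.IsIntegral U (U ⊗[A] PolLaw.image F.law) := by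
  haveI := isIntegral_image F
  infer_instance

variable {U}

theorem map_chiA_eq {q : Ideal U} (z : U ⊗[A] B)
    (h : ∀ n, (chiA F U z - (-Polynomial.X) ^ d).coeff n ∈ q) {R : Type*} [CommRing R] (f : U →+* R)
    (hf : q ≤ RingHom.ker f) : (chiA F U z).map f = (-Polynomial.X) ^ d := by
  have : (chiA F U z - (-Polynomial.X) ^ d).map f = 0 := by
    ext n
    rw [Polynomial.coeff_map, Polynomial.coeff_zero]
    exact hf (h n)
  rwa [Polynomial.map_sub, Polynomial.map_pow, Polynomial.map_neg, Polynomial.map_X, sub_eq_zero] at this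

/-- A reduced point killing the Cayley-Hamilton element and the lower coefficients kills the element. -/
theorem eq_zero_of_coeff {R : Type*} [CommRing R] [IsReduced R] (g : U ⊗[A] B →+* R) (z : U ⊗[A] B)
    (hg : g (chA F U z) = 0)
    (h : ∀ n, g ((chiA F U z - (-Polynomial.X) ^ d).coeff n ⊗ₜ[A] (1 : B)) = 0) : g z = 0 := by
  let f : U →+* R := g.comp (Algebra.TensorProduct.includeLeft : U →ₐ[A] U ⊗[A] B).toRingHom
  have hf : (chiA F U z).map f = (-Polynomial.X) ^ d :=
    map_chiA_eq F z (q := RingHom.ker f) (fun n => h n) f le_rfl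
  rw [chA, Polynomial.hom_eval₂, ← Polynomial.eval_map] at hg
  rw [hf, Polynomial.eval_pow, Polynomial.eval_neg, Polynomial.eval_X] at hg
  exact neg_eq_zero.mp (IsReduced.eq_zero _ ⟨d, hg⟩)

/-- If the characteristic polynomial is `(-X) ^ d` at the image of a point, the element vanishes at the point. -/
theorem proj_mem_of_coeff (Q : Ideal (U ⊗[A] PolLaw.image F.law)) [Q.IsPrime] (z : U ⊗[A] B)
    (h : ∀ n, (chiA F U z - (-Polynomial.X) ^ d).coeff n ∈ Q.comap (algebraMap U (U ⊗[A] PolLaw.image F.law))) :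
    proj F U z ∈ Q := by
  haveI : IsReduced ((U ⊗[A] PolLaw.image F.law) ⧸ Q) :=
    (Ideal.isRadical_iff_quotient_reduced Q).mp (Ideal.IsPrime.isRadical inferInstance)
  suffices h0 : ((Ideal.Quotient.mk Q).comp (proj F U).toRingHom) z = 0 from Ideal.Quotient.eq_zero_iff_mem.mp h0
  refine eq_zero_of_coeff F (R := (U ⊗[A] PolLaw.image F.law) ⧸ Q) ((Ideal.Quotient.mk Q).comp (proj F U).toRingHom) z ?_
    fun n => ?_
  · show Ideal.Quotient.mk Q (proj F U (chA F U z)) = 0
    rw [proj_chA]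
    rfl
  · show Ideal.Quotient.mk Q (proj F U ((chiA F U z - (-Polynomial.X) ^ d).coeff n ⊗ₜ[A] (1 : B))) = 0
    rw [proj_includeLeft]
    exact Ideal.Quotient.eq_zero_iff_mem.mpr (h n)

/-- The points over a prime of the base given by the roots of the split law. -/
theorem exists_fibre (q : PrimeSpectrum U) :
    ∃ Qs : Fin d → PrimeSpectrum (U ⊗[A] PolLaw.image F.law),
      (∀ j, PrimeSpectrum.comap (algebraMap U (U ⊗[A] PolLaw.image F.law)) (Qs j) = q) ∧
      ∀ z : U ⊗[A] B, (∀ j, proj F U z ∈ (Qs j).asIdeal) →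
        ∀ n, (chiA F U z - (-Polynomial.X) ^ d).coeff n ∈ q.asIdeal := by
  let L := AlgebraicClosure q.asIdeal.ResidueField
  obtain ⟨g, hg⟩ := exists_split F (Algebra.ofId A L)
  let ψ : U →ₐ[A] L := IsScalarTower.toAlgHom A U L
  have hψ : ∀ u, ψ u = 0 ↔ u ∈ q.asIdeal := fun u => by
    rw [IsScalarTower.coe_toAlgHom', IsScalarTower.algebraMap_apply U q.asIdeal.ResidueField L, map_eq_zero,
      Ideal.algebraMap_residueField_eq_zero]
  let gb : Fin d → (PolLaw.image F.law →ₐ[A] L) := fun j =>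
    Ideal.Quotient.liftₐ _ (g j) fun b hb => root_ker F g hg j hb
  let h : Fin d → (U ⊗[A] PolLaw.image F.law →ₐ[A] L) := fun j =>
    Algebra.TensorProduct.lift ψ (gb j) (fun _ _ => Commute.all _ _)
  refine ⟨fun j => ⟨RingHom.ker (h j), RingHom.ker_isPrime _⟩, fun j => ?_, fun z hz n => ?_⟩
  · ext u
    show h j (algebraMap U _ u) = 0 ↔ _
    rw [← hψ, Algebra.TensorProduct.algebraMap_apply, Algebra.TensorProduct.lift_tmul]
    simp
  · have hz' : ∀ j, Algebra.TensorProduct.lift ψ (g j) (fun _ _ => Commute.all _ _) z = 0 := by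
      intro j
      rw [show Algebra.TensorProduct.lift ψ (g j) (fun _ _ => Commute.all _ _) = (h j).comp (proj F U) from
        Algebra.TensorProduct.ext' fun a b => by simp [h, gb, proj]]
      exact hz j
    have := chiA_map_of_roots F g hg ψ hz'
    rw [← hψ]
    show ψ.toRingHom _ = 0
    rw [← Polynomial.coeff_map, Polynomial.map_sub, Polynomial.map_pow,
      Polynomial.map_neg, Polynomial.map_X, this, sub_self, Polynomial.coeff_zero]

/-- Going down, with a bound on the fibres. -/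
theorem exists_fibre' (q : PrimeSpectrum U) :
    ∃ Qs : Fin d → PrimeSpectrum (U ⊗[A] PolLaw.image F.law),
      (∀ j, PrimeSpectrum.comap (algebraMap U (U ⊗[A] PolLaw.image F.law)) (Qs j) = q) ∧
      ∀ Q : PrimeSpectrum (U ⊗[A] PolLaw.image F.law),
        q.asIdeal ≤ Q.asIdeal.comap (algebraMap U (U ⊗[A] PolLaw.image F.law)) →
          ∃ j, (Qs j).asIdeal ≤ Q.asIdeal := by
  obtain ⟨Qs, h1, h2⟩ := exists_fibre F q
  refine ⟨Qs, h1, fun Q hQ => ?_⟩
  by_contra hcon
  push Not at hcon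
  have hz : ∀ j, ∃ z, z ∈ (Qs j).asIdeal ∧ z ∉ Q.asIdeal := fun j => SetLike.not_le_iff_exists.mp (hcon j)
  choose z hz hz' using hz
  obtain ⟨w, hw⟩ := proj_surjective F U (∏ j, z j)
  have hw' : proj F U w ∉ Q.asIdeal := by
    rw [hw, Ideal.IsPrime.prod_mem_iff]
    push Not
    exact fun j _ => hz' j
  refine hw' (proj_mem_of_coeff F Q.asIdeal w fun n => hQ (h2 w (fun j => ?_) n))
  rw [hw]
  exact Ideal.prod_mem (I := (Qs j).asIdeal) (Finset.mem_univ j) (hz j)

variable (U)

theorem generalizingMap :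
    GeneralizingMap (PrimeSpectrum.comap (algebraMap U (U ⊗[A] PolLaw.image F.law))) := by
  intro Q q hq
  obtain ⟨Qs, h1, h2⟩ := exists_fibre' F q
  obtain ⟨j, hj⟩ := h2 Q ((PrimeSpectrum.le_iff_specializes q _).mpr hq)
  exact ⟨Qs j, (PrimeSpectrum.le_iff_specializes _ _).mp hj, h1 j⟩

theorem isOpenMap :
    IsOpenMap (PrimeSpectrum.comap (algebraMap U (U ⊗[A] PolLaw.image F.law))) := by
  rw [PrimeSpectrum.isTopologicalBasis_basic_opens.isOpenMap_iff]
  rintro _ ⟨z, rfl⟩
  obtain ⟨z, rfl⟩ := proj_surjective F U z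
  have : PrimeSpectrum.comap (algebraMap U (U ⊗[A] PolLaw.image F.law)) ''
      (PrimeSpectrum.basicOpen (proj F U z) : Set _) =
      ⋃ n, (PrimeSpectrum.basicOpen ((chiA F U z - (-Polynomial.X) ^ d).coeff n) : Set _) := by
    ext q
    simp only [Set.mem_image, Set.mem_iUnion, SetLike.mem_coe, PrimeSpectrum.mem_basicOpen]
    constructor
    · rintro ⟨Q, hQ, rfl⟩
      by_contra hcon
      push Not at hcon
      exact hQ (proj_mem_of_coeff F Q.asIdeal z hcon)
    · rintro ⟨n, hn⟩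
      obtain ⟨Qs, h1, h2⟩ := exists_fibre F q
      by_contra hcon
      push Not at hcon
      exact hn (h2 z (fun j => by_contra fun hj => hcon (Qs j) hj (h1 j)) n)
  rw [this]
  exact isOpen_iUnion fun n => (PrimeSpectrum.basicOpen _).isOpen

/-- The points over a prime of the base are among `d` of them. -/
theorem exists_fibre_eq (q : PrimeSpectrum U) :
    ∃ Qs : Fin d → PrimeSpectrum (U ⊗[A] PolLaw.image F.law),
      (∀ j, PrimeSpectrum.comap (algebraMap U (U ⊗[A] PolLaw.image F.law)) (Qs j) = q) ∧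
      ∀ Q, PrimeSpectrum.comap (algebraMap U (U ⊗[A] PolLaw.image F.law)) Q = q → ∃ j, Qs j = Q := by
  obtain ⟨Qs, h1, h2⟩ := exists_fibre' F q
  refine ⟨Qs, h1, fun Q hQ => ?_⟩
  have := isIntegral_baseChange F U
  obtain ⟨j, hj⟩ := h2 Q (by rw [← hQ]; rfl)
  refine ⟨j, PrimeSpectrum.ext (le_antisymm hj ?_)⟩
  by_contra hlt
  have hlt' : (Qs j).asIdeal < Q.asIdeal := lt_of_le_not_ge hj hlt

  obtain ⟨x, hx, hx'⟩ := SetLike.exists_of_lt hlt'
  have h3 := Ideal.comap_lt_comap_of_integral_mem_sdiff hj ⟨hx, hx'⟩ (Algebra.IsIntegral.isIntegral (R := U) x)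
  exact h3.ne (congrArg PrimeSpectrum.asIdeal ((h1 j).trans hQ.symm))

theorem card_fibre_le (q : PrimeSpectrum U) :
    (PrimeSpectrum.comap (algebraMap U (U ⊗[A] PolLaw.image F.law)) ⁻¹' {q}).Finite ∧
      (PrimeSpectrum.comap (algebraMap U (U ⊗[A] PolLaw.image F.law)) ⁻¹' {q}).ncard ≤ d := by
  obtain ⟨Qs, -, h2⟩ := exists_fibre_eq F U q
  have hsub : PrimeSpectrum.comap (algebraMap U (U ⊗[A] PolLaw.image F.law)) ⁻¹' {q} ⊆ Set.range Qs := h2
  refine ⟨(Set.finite_range Qs).subset hsub, (Set.ncard_le_ncard hsub (Set.finite_range Qs)).trans ?_⟩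
  refine (Nat.card_coe_set_eq _).symm.trans_le ((Finite.card_range_le Qs).trans ?_)
  simp

end Groth.Agent.DivPow
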