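import Groth.Agent.DivPow.KerFin

/-!
# Kernels and flat base change in characteristic zero
-/

set_option autoImplicit false
set_option linter.unusedSectionVars false
universe u

open scoped TensorProduct
open MvPolynomial

namespace Groth.Agent.DivPow

variable {A B : Type u} [CommRing A] [CommRing B] [Algebra A B] {d : ℕ} (F : PolLaw.MulLaw A B A d)
variable {κ : Type u} [Fintype κ] (m : κ → B) (μ : κ → κ → κ → A)

/-- The value of the law on the generic element. -/
noncomputable def valX : MvPolynomial κ A :=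
  ridA (MvPolynomial κ A) (F.law.toFun' _ (∑ k : κ, X k ⊗ₜ[A] m k))

variable {U : Type u} [CommRing U] [Algebra A U]

/-- The coefficient of the product by an element with given coordinates. -/
noncomputable def mulCoord (a : κ → U) (i k : κ) : U := ∑ j : κ, μ i j k • a j

/-- The substitution describing the translation by a multiple of an element. -/
noncomputable def shiftVar (a : κ → U) (k : κ) : MvPolynomial (κ ⊕ κ) U :=
  X (Sum.inl k) + ∑ i : κ, C (mulCoord μ a i k) * X (Sum.inr i)

theorem defect_coord (hμ : ∀ i j, ∑ k, μ i j k • m k = m i * m j) (a : κ → U) :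
    defect F m U (∑ j, a j ⊗ₜ[A] m j) = aeval (shiftVar μ a) (valX F m) - aeval (fun k => X (Sum.inl k)) (valX F m) := by
  have hsum : genX m U + genW m U *
      Algebra.TensorProduct.map (IsScalarTower.toAlgHom A U (MvPolynomial (κ ⊕ κ) U)) (AlgHom.id A B) (∑ j, a j ⊗ₜ[A] m j) =
      Algebra.TensorProduct.map (aeval (shiftVar μ a) : MvPolynomial κ A →ₐ[A] _) (AlgHom.id A B) (∑ k, X k ⊗ₜ[A] m k) := by
    simp only [genX, genW, map_sum, Algebra.TensorProduct.map_tmul, AlgHom.id_apply, aeval_X,
      IsScalarTower.coe_toAlgHom', MvPolynomial.algebraMap_eq, shiftVar, TensorProduct.add_tmul, Finset.sum_add_distrib,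
      TensorProduct.sum_tmul, Finset.sum_mul, Finset.mul_sum, Algebra.TensorProduct.tmul_mul_tmul, ← hμ,
      TensorProduct.tmul_sum, TensorProduct.tmul_smul, TensorProduct.smul_tmul', mulCoord, map_sum]
    congr 1
    rw [Finset.sum_comm (γ := κ) (α := κ)]
    conv_rhs => rw [Finset.sum_comm]
    refine Finset.sum_congr rfl fun i _ => ?_
    rw [Finset.sum_comm]
    refine Finset.sum_congr rfl fun k _ => Finset.sum_congr rfl fun j _ => ?_
    congr 1
    rw [← MvPolynomial.algebraMap_eq, ← IsScalarTower.coe_toAlgHom' A U (MvPolynomial (κ ⊕ κ) U), map_smul,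
      smul_mul_assoc, mul_comm]
  have hx : genX m U =
      Algebra.TensorProduct.map (aeval (fun k => X (Sum.inl k)) : MvPolynomial κ A →ₐ[A] MvPolynomial (κ ⊕ κ) U)
        (AlgHom.id A B) (∑ k, X k ⊗ₜ[A] m k) := by
    simp [genX, map_sum]
  rw [defect, hsum, hx, ← PolLaw.rTensor_algHom_apply, ← PolLaw.rTensor_algHom_apply, ← PolynomialLaw.isCompat_apply',
    ← PolynomialLaw.isCompat_apply', ridA_rTensor, ridA_rTensor]
  rfl

theorem pderiv_inr_aeval (a : κ → U) (i : κ) (p : MvPolynomial κ A) :
    pderiv (Sum.inr i) (aeval (shiftVar μ a) p) =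
      ∑ k, C (mulCoord μ a i k) * aeval (shiftVar μ a) (pderiv k p) := by
  classical
  induction p using MvPolynomial.induction_on with
  | C c => simp [MvPolynomial.algebraMap_eq, IsScalarTower.algebraMap_apply A U (MvPolynomial (κ ⊕ κ) U)]
  | add p q hp hq => simp only [map_add, hp, hq, mul_add, Finset.sum_add_distrib]
  | mul_X p l hp =>
    have hl : pderiv (Sum.inr i) (shiftVar μ a l) = C (mulCoord μ a i l) := by
      simp [shiftVar, pderiv_X, Pi.single_apply, Finset.sum_ite_eq]
    simp only [map_mul, aeval_X, pderiv_mul, map_add, hp, hl, mul_add, Finset.sum_add_distrib]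
    congr 1
    · rw [Finset.sum_mul]
      exact Finset.sum_congr rfl fun k _ => by ring
    · rw [Finset.sum_eq_single l]
      · simp [mul_comm]
      · intro k _ hk
        simp [pderiv_X_of_ne hk.symm]
      · simp

/-- The first order defect, as a linear map on coordinates. -/
noncomputable def lin1 (i : κ) : (κ → A) →ₗ[A] MvPolynomial κ A :=
  ∑ j : κ, (LinearMap.proj j : (κ → A) →ₗ[A] A).smulRight (∑ k, C (μ i j k) * pderiv k (valX F m))

theorem lin1_apply (i : κ) (a : κ → A) :
    lin1 F m μ i a = ∑ k, C (mulCoord μ a i k) * pderiv k (valX F m) := by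
  simp only [lin1, LinearMap.coe_sum, Finset.sum_apply, LinearMap.smulRight_apply, LinearMap.proj_apply,
    MvPolynomial.smul_eq_C_mul, Finset.mul_sum, mulCoord, map_sum, Finset.sum_mul, smul_eq_mul, map_mul]
  rw [Finset.sum_comm]
  exact Finset.sum_congr rfl fun k _ => Finset.sum_congr rfl fun j _ => by ring

/-- Vanishing first order defect gives an element of the kernel, in characteristic zero. -/
theorem defect_eq_zero_of_lin1 [Algebra ℚ A] (hμ : ∀ i j, ∑ k, μ i j k • m k = m i * m j) (a : κ → A)
    (h : ∀ i, lin1 F m μ i a = 0) : defect F m A (∑ j, a j ⊗ₜ[A] m j) = 0 := by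
  classical
  rw [defect_coord F m μ hμ]
  have h1 : ∀ i, pderiv (Sum.inr i) (aeval (shiftVar μ a) (valX F m) - aeval (fun k => X (Sum.inl k)) (valX F m)) = 0 := by
    intro i
    rw [map_sub, pderiv_inr_aeval]
    have h0 : ∀ p : MvPolynomial κ A,
        pderiv (Sum.inr i) (aeval (fun k => (X (Sum.inl k) : MvPolynomial (κ ⊕ κ) A)) p) = 0 := by
      intro p
      induction p using MvPolynomial.induction_on with
      | C c => simp
      | add p q hp hq => rw [map_add, map_add, hp, hq, add_zero]
      | mul_X p l hp => rw [map_mul, aeval_X, pderiv_mul, hp, pderiv_X_of_ne Sum.inl_ne_inr, zero_mul, mul_zero, add_zero]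
    rw [h0, sub_zero]
    have := congrArg (aeval (shiftVar μ a)) (h i)
    rw [lin1_apply, map_sum, map_zero] at this
    simpa [MvPolynomial.algebraMap_eq] using this
  have h2 : aeval (Sum.elim (fun k => X (Sum.inl k)) fun _ => (0 : MvPolynomial (κ ⊕ κ) A))
      (aeval (shiftVar μ a) (valX F m) - aeval (fun k => X (Sum.inl k)) (valX F m)) = 0 := by
    rw [map_sub, sub_eq_zero, ← AlgHom.comp_apply, ← AlgHom.comp_apply (aeval _) (aeval fun k => X (Sum.inl k))]
    congr 1
    exact algHom_ext fun k => by simp [shiftVar]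
  generalize aeval (shiftVar μ a) (valX F m) - aeval (fun k => X (Sum.inl k)) (valX F m) = D at h1 h2
  refine MvPolynomial.ext _ _ fun β => ?_
  rw [coeff_zero]
  by_cases hβ : ∀ i, β (Sum.inr i) = 0
  · have hk : ∀ p : MvPolynomial (κ ⊕ κ) A,
        coeff β (aeval (Sum.elim (fun k => X (Sum.inl k)) fun _ => (0 : MvPolynomial (κ ⊕ κ) A)) p) = coeff β p := by
      intro p
      induction p using MvPolynomial.induction_on' with
      | monomial γ c =>
        rw [aeval_monomial, MvPolynomial.algebraMap_eq]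
        by_cases hγ : ∀ i, γ (Sum.inr i) = 0
        · rw [show γ.prod (fun v n => (Sum.elim (fun k => (X (Sum.inl k) : MvPolynomial (κ ⊕ κ) A)) (fun _ => 0) v) ^ n) =
            γ.prod (fun v n => (X v) ^ n) from Finset.prod_congr rfl fun v hv => by
              cases v with
              | inl i => rfl
              | inr i => exact absurd (hγ i) (Finsupp.mem_support_iff.mp hv), ← monomial_eq]
        · push Not at hγ
          obtain ⟨i, hi⟩ := hγ
          rw [Finsupp.prod, Finset.prod_eq_zero (Finsupp.mem_support_iff.mpr hi) (by simp [hi]), mul_zero, coeff_zero,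
            coeff_monomial, if_neg]
          rintro rfl
          exact hi (hβ i)
      | add p q hp hq => rw [map_add, coeff_add, coeff_add, hp, hq]
    rw [← hk, h2, coeff_zero]
  push Not at hβ
  obtain ⟨i, hi⟩ := hβ
  have h3 := congrArg (coeff (β - Finsupp.single (Sum.inr i) 1)) (h1 i)
  rw [coeff_pderiv, coeff_zero, tsub_add_cancel_of_le (Finsupp.single_le_iff.mpr (Nat.one_le_iff_ne_zero.mpr hi))] at h3
  have hu : IsUnit ((((β - Finsupp.single (Sum.inr i) 1 : (κ ⊕ κ) →₀ ℕ) (Sum.inr i) : ℕ) : A) + 1) := by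
    rw [← Nat.cast_succ, ← map_natCast (algebraMap ℚ A)]
    exact (IsUnit.mk0 _ (Nat.cast_ne_zero.mpr (Nat.succ_ne_zero _))).map _
  exact hu.mul_left_eq_zero.mp h3

/-- The kernel commutes with flat base change in characteristic zero for a finite algebra. -/
theorem kerBC_flat [Algebra ℚ A] [Module.Finite A B] (A' : Type u) [CommRing A'] [Algebra A A'] [Module.Flat A A'] :
    PolLaw.kerBC F.law A' ≤ (PolLaw.ker F.law).map (Algebra.TensorProduct.includeRight : B →ₐ[A] A' ⊗[A] B) := by
  classical
  obtain ⟨n, g, hg⟩ := Module.Finite.exists_fin (R := A) (M := B)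
  let m : ULift.{u} (Fin n) → B := fun i => g i.down
  have hm : Submodule.span A (Set.range m) = ⊤ := by
    rw [← hg]
    congr 1
    exact EquivLike.range_comp g Equiv.ulift
  choose μ hμ using fun i j => (Submodule.mem_span_range_iff_exists_fun A).mp
    (show m i * m j ∈ Submodule.span A (Set.range m) from hm ▸ Submodule.mem_top)
  intro z hz
  obtain ⟨a, rfl⟩ : ∃ a : ULift.{u} (Fin n) → A', z = ∑ j, a j ⊗ₜ[A] m j := by
    obtain ⟨s, t, rfl⟩ := exists_sum m hm A' z
    exact ⟨fun i => if i ∈ s then t i else 0, by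
      simp only [TensorProduct.ite_tmul, Finset.sum_ite_mem, Finset.univ_inter]⟩
  let P : ULift.{u} (Fin n) → MvPolynomial (ULift.{u} (Fin n)) A' := fun i =>
    ∑ k, C (mulCoord μ a i k) * MvPolynomial.map (algebraMap A A') (pderiv k (valX F m))
  have hP : ∀ i, P i = 0 := by
    intro i
    have h := congrArg (pderiv (Sum.inr i)) ((mem_kerBC_iff_defect F m A' hm _).mp hz)
    rw [defect_coord F m μ hμ, map_sub, pderiv_inr_aeval, map_zero] at h
    have h0 : ∀ p : MvPolynomial (ULift.{u} (Fin n)) A, pderiv (Sum.inr i)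
        (aeval (fun k => (X (Sum.inl k) : MvPolynomial (ULift.{u} (Fin n) ⊕ ULift.{u} (Fin n)) A')) p) = 0 := by
      intro p
      induction p using MvPolynomial.induction_on with
      | C c => simp [IsScalarTower.algebraMap_apply A A' (MvPolynomial (ULift.{u} (Fin n) ⊕ ULift.{u} (Fin n)) A'),
          MvPolynomial.algebraMap_eq]
      | add p q hp hq => rw [map_add, map_add, hp, hq, add_zero]
      | mul_X p l hp => rw [map_mul, aeval_X, pderiv_mul, hp, pderiv_X_of_ne Sum.inl_ne_inr, zero_mul, mul_zero, add_zero]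
    rw [h0, sub_zero] at h
    have h' := congrArg (aeval (Sum.elim (fun k => (X k : MvPolynomial (ULift.{u} (Fin n)) A')) fun _ => 0)) h
    rw [map_zero, map_sum] at h'
    rw [← h']
    refine Finset.sum_congr rfl fun k _ => ?_
    rw [map_mul, aeval_C, MvPolynomial.algebraMap_eq]
    congr 1
    induction pderiv k (valX F m) using MvPolynomial.induction_on with
    | C c => simp [IsScalarTower.algebraMap_apply A A' (MvPolynomial (ULift.{u} (Fin n) ⊕ ULift.{u} (Fin n)) A'),
        MvPolynomial.algebraMap_eq]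
    | add p q hp hq => simp only [map_add, hp, hq]
    | mul_X p l hp => simp [hp, shiftVar]
  let I : Finset (ULift.{u} (Fin n) × (ULift.{u} (Fin n) →₀ ℕ)) :=
    Finset.univ ×ˢ Finset.univ.biUnion fun k => (pderiv k (valX F m)).support
  let ℓ : (ULift.{u} (Fin n) → A) →ₗ[A] (I → A) :=
    LinearMap.pi fun p => (lcoeff A p.1.2) ∘ₗ lin1 F m μ p.1.1
  have hℓ : ∀ c, ℓ c = 0 → ∀ i, lin1 F m μ i c = 0 := by
    intro c hc i
    refine MvPolynomial.ext _ _ fun α => ?_
    rw [coeff_zero]
    by_cases hα : (i, α) ∈ I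
    · exact congrFun hc ⟨(i, α), hα⟩
    · rw [lin1_apply, coeff_sum]
      refine Finset.sum_eq_zero fun k _ => ?_
      rw [coeff_C_mul, notMem_support_iff.mp fun h => hα (Finset.mem_product.mpr ⟨Finset.mem_univ _, Finset.mem_biUnion.mpr ⟨k, Finset.mem_univ _, h⟩⟩), mul_zero]
  let a' : A' ⊗[A] (ULift.{u} (Fin n) → A) := ∑ j, a j ⊗ₜ[A] Pi.single j 1
  have ha' : ℓ.lTensor A' a' = 0 := by
    apply (TensorProduct.piScalarRight A A' A' I).injective
    rw [map_zero]
    funext p
    simp only [a', map_sum, LinearMap.lTensor_tmul, TensorProduct.piScalarRight_apply,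
      TensorProduct.piScalarRightHom_tmul, Finset.sum_apply, Pi.zero_apply]
    have := congrArg (coeff p.1.2) (hP p.1.1)
    rw [coeff_zero] at this
    rw [← this, coeff_sum]
    simp only [ℓ, LinearMap.pi_apply, LinearMap.comp_apply, lcoeff_apply, lin1_apply, coeff_sum, coeff_C_mul, coeff_map,
      mulCoord, Finset.sum_mul, Finset.sum_smul, smul_eq_mul]
    rw [Finset.sum_comm]
    refine Finset.sum_congr rfl fun k _ => Finset.sum_congr rfl fun j _ => ?_
    rw [Finset.sum_eq_single j (fun l _ hl => by simp [hl]) (by simp), Pi.single_eq_same, mul_one, Algebra.smul_def,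
      Algebra.smul_def, map_mul]
    ring
  obtain ⟨w, hw⟩ := (Module.Flat.lTensor_exact A' (LinearMap.exact_subtype_ker_map ℓ) _).mp ha'
  let tot : (ULift.{u} (Fin n) → A) →ₗ[A] B := Fintype.linearCombination A m
  have hz' : (∑ j, a j ⊗ₜ[A] m j) = tot.lTensor A' ((LinearMap.ker ℓ).subtype.lTensor A' w) := by
    rw [hw]
    simp [a', map_sum, tot, Fintype.linearCombination_apply_single]
  rw [hz']
  clear hw hz'
  induction w using TensorProduct.induction_on with
  | zero => simp
  | tmul r c =>
    rw [LinearMap.lTensor_tmul, LinearMap.lTensor_tmul, Submodule.subtype_apply,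
      show r ⊗ₜ[A] tot (c : ULift.{u} (Fin n) → A) = (r ⊗ₜ[A] (1 : B)) *
        (Algebra.TensorProduct.includeRight (tot (c : ULift.{u} (Fin n) → A)) : A' ⊗[A] B) by simp]
    refine Ideal.mul_mem_left _ _ (Ideal.mem_map_of_mem _ (one_tmul_mem_kerBC_self (F := F.law) ?_))
    rw [mem_kerBC_iff_defect F m A hm, show (1 : A) ⊗ₜ[A] tot (c : ULift.{u} (Fin n) → A) =
      ∑ j, (c : ULift.{u} (Fin n) → A) j ⊗ₜ[A] m j by
        simp [tot, Fintype.linearCombination_apply, TensorProduct.tmul_sum, TensorProduct.tmul_smul,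
          TensorProduct.smul_tmul']]
    exact defect_eq_zero_of_lin1 F m μ hμ _ (hℓ _ c.2)
  | add x y hx hy =>
    rw [map_add, map_add]
    exact Ideal.add_mem _ hx hy

end Groth.Agent.DivPow
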