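import Groth.Agent.DivPow.Gamma

/-!
# The norm and the trace from the tensor power to the divided powers
-/

set_option autoImplicit false
set_option linter.unusedSectionVars false
universe u

open scoped TensorProduct
open MvPolynomial

namespace Groth.Agent.DivPow

variable {A : Type u} [CommRing A] {d : ℕ}

section Module

variable {ι ι' : Type u} {F F' N : Type u} [AddCommGroup F] [Module A F] [AddCommGroup F'] [Module A F']
  [AddCommGroup N] [Module A N] (e : Module.Basis ι A F) (e' : Module.Basis ι' A F') (G : F →ₚₗ[A] N)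

theorem lin_cf_tp' {κ : Type u} (hG : PolLaw.IsHomog G d) (m : κ → F) (α : κ →₀ ℕ) :
    lin e G (cf (tp A F d) m α) = cf G m α := by
  conv_rhs => rw [eq_postcomp_lin e G hG, cf_postcomp]

theorem precomp_homog (hG : PolLaw.IsHomog G d) (h : F' →ₗ[A] F) : PolLaw.IsHomog (PolLaw.precomp G h) d := by
  intro S _ _ s x
  show G.toFun' S (h.lTensor S (s • x)) = _
  rw [show h.lTensor S (s • x) = s • h.lTensor S x from (h.baseChange S).map_smul s x, hG]
  rfl

theorem map_cf_tp {κ : Type u} (h : F' →ₗ[A] F) (m : κ → F') (α : κ →₀ ℕ) :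
    PiTensorProduct.map (fun _ : Fin d => h) (cf (tp A F' d) m α) = cf (tp A F d) (h ∘ m) α := by
  rw [cf_tp, cf_tp, map_sum]
  simp [PiTensorProduct.map_tprod]

/-- Naturality of the linear map attached to a law, on symmetric tensors. -/
theorem lin_map (hG : PolLaw.IsHomog G d) (h : F' →ₗ[A] F) (e' : Module.Basis ι' A F') {x : ⨂[A] _ : Fin d, F'}
    (hx : x ∈ symTen A F' d) :
    lin e G (PiTensorProduct.map (fun _ : Fin d => h) x) = lin e' (PolLaw.precomp G h) x := by
  have hs := mem_span_cf_tp e' hx
  clear hx
  induction hs using Submodule.span_induction with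
  | zero => simp
  | add a b _ _ ha hb => simp only [map_add, ha, hb]
  | smul c a _ ha => simp only [map_smul, ha]
  | mem a ha =>
    obtain ⟨α, rfl⟩ := ha
    rw [map_cf_tp, lin_cf_tp' e G hG, lin_cf_tp' e' _ (precomp_homog G hG h), cf_precomp]

end Module

section Perm

variable {B B' : Type u} [CommRing B] [Algebra A B] [CommRing B'] [Algebra A B']

theorem perm_perm (σ τ : Equiv.Perm (Fin d)) (z : ⨂[A] _ : Fin d, B) :
    SymTen.perm A B d σ (SymTen.perm A B d τ z) = SymTen.perm A B d (σ * τ) z := by
  have h : (SymTen.perm A B d σ).toLinearMap ∘ₗ (SymTen.perm A B d τ).toLinearMap =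
      (SymTen.perm A B d (σ * τ)).toLinearMap := by
    refine PiTensorProduct.ext (MultilinearMap.ext fun f => ?_)
    simp only [LinearMap.compMultilinearMap_apply, LinearMap.comp_apply, AlgHom.toLinearMap_apply, SymTen.perm_tprod]
    rfl
  exact LinearMap.congr_fun h z

theorem tmap_perm (f : B →ₐ[A] B') (σ : Equiv.Perm (Fin d)) (z : ⨂[A] _ : Fin d, B) :
    SymTen.tmap A d f (SymTen.perm A B d σ z) = SymTen.perm A B' d σ (SymTen.tmap A d f z) := by
  rw [SymTen.perm_apply, SymTen.perm_apply, SymTen.tmap_reindex]

theorem tmap_eq_map (f : B →ₐ[A] B') (z : ⨂[A] _ : Fin d, B) :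
    SymTen.tmap A d f z = PiTensorProduct.map (fun _ : Fin d => f.toLinearMap) z := by
  have h : (SymTen.tmap A d f).toLinearMap = PiTensorProduct.map (fun _ : Fin d => f.toLinearMap) := by
    refine PiTensorProduct.ext (MultilinearMap.ext fun g => ?_)
    simp [PiTensorProduct.map_tprod]
  exact LinearMap.congr_fun h z

theorem sum_perm_mem (z : ⨂[A] _ : Fin d, B) : ∑ σ, SymTen.perm A B d σ z ∈ symTen A B d := by
  intro τ
  rw [← SymTen.perm_apply, map_sum]
  simp only [perm_perm]
  exact Equiv.sum_comp (Equiv.mulLeft τ) fun σ => SymTen.perm A B d σ z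

theorem symmLaw_apply (S : Type u) [CommSemiring S] [Algebra A S] (z : S ⊗[A] (⨂[A] _ : Fin d, B)) :
    (SymTen.symmLaw A B d).law.toFun' S z =
      ∏ σ, Algebra.TensorProduct.map (AlgHom.id S S) (SymTen.perm A B d σ) z := rfl

theorem symmLaw_perm (τ : Equiv.Perm (Fin d)) (S : Type u) [CommSemiring S] [Algebra A S]
    (z : S ⊗[A] (⨂[A] _ : Fin d, B)) :
    (SymTen.perm A B d τ).toLinearMap.lTensor S ((SymTen.symmLaw A B d).law.toFun' S z) =
      (SymTen.symmLaw A B d).law.toFun' S z := by
  rw [symmLaw_apply, PolLaw.lTensor_algHom_apply, map_prod]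
  have h : ∀ σ, Algebra.TensorProduct.map (AlgHom.id S S) (SymTen.perm A B d τ)
      (Algebra.TensorProduct.map (AlgHom.id S S) (SymTen.perm A B d σ) z) =
      Algebra.TensorProduct.map (AlgHom.id S S) (SymTen.perm A B d (τ * σ)) z := by
    intro σ
    induction z using TensorProduct.induction_on with
    | zero => simp
    | tmul a b => simp [perm_perm]
    | add a b ha hb => simp [ha, hb]
  simp only [h]
  exact Equiv.prod_comp (Equiv.mulLeft τ) fun σ => Algebra.TensorProduct.map (AlgHom.id S S) (SymTen.perm A B d σ) z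

theorem co_symmLaw_mem {κ : Type u} (z : MvPolynomial κ A ⊗[A] (⨂[A] _ : Fin d, B)) (α : κ →₀ ℕ) :
    co α ((SymTen.symmLaw A B d).law.toFun' _ z) ∈ symTen A B d := by
  intro τ
  rw [← SymTen.perm_apply]
  exact (co_lTensor α (SymTen.perm A B d τ).toLinearMap _).symm.trans (congrArg _ (symmLaw_perm τ _ z))

theorem symmLaw_tmap (f : B →ₐ[A] B') (S : Type u) [CommSemiring S] [Algebra A S]
    (z : S ⊗[A] (⨂[A] _ : Fin d, B)) :
    (SymTen.tmap A d f).toLinearMap.lTensor S ((SymTen.symmLaw A B d).law.toFun' S z) =
      (SymTen.symmLaw A B' d).law.toFun' S ((SymTen.tmap A d f).toLinearMap.lTensor S z) := by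
  rw [symmLaw_apply, symmLaw_apply, PolLaw.lTensor_algHom_apply, map_prod]
  refine Finset.prod_congr rfl fun σ _ => ?_
  induction z using TensorProduct.induction_on with
  | zero => simp
  | tmul a b => simp [tmap_perm]
  | add a b ha hb => simp [ha, hb]

theorem symmLaw_of_symmetric (S : Type u) [CommSemiring S] [Algebra A S] (z : S ⊗[A] SymTen.TS A B d) :
    (SymTen.symmLaw A B d).law.toFun' S ((SymTen.TS A B d).val.toLinearMap.lTensor S z) =
      (SymTen.TS A B d).val.toLinearMap.lTensor S (z ^ d.factorial) := by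
  rw [symmLaw_apply, PolLaw.lTensor_algHom_apply _ S (z ^ d.factorial), map_pow, PolLaw.lTensor_algHom_apply]
  have h : ∀ σ, Algebra.TensorProduct.map (AlgHom.id S S) (SymTen.perm A B d σ)
      (Algebra.TensorProduct.map (AlgHom.id S S) (SymTen.TS A B d).val z) =
      Algebra.TensorProduct.map (AlgHom.id S S) (SymTen.TS A B d).val z := by
    intro σ
    induction z using TensorProduct.induction_on with
    | zero => simp
    | tmul a b =>
      simp only [Algebra.TensorProduct.map_tmul, AlgHom.id_apply, Subalgebra.coe_val]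
      rw [SymTen.perm_apply, b.2 σ]
    | add a b ha hb => simp [ha, hb]
  simp only [h, Finset.prod_const, Finset.card_univ, Fintype.card_perm, Fintype.card_fin]

end Perm

variable {B P C : Type u} [CommRing B] [Algebra A B] [CommRing P] [Algebra A P] [CommRing C] [Algebra A C]
  {ι : Type u} (e : Module.Basis ι A P) (π : P →ₐ[A] B)

section Kernel

variable (hπ : Function.Surjective π)

include hπ in
theorem tmap_surjective : Function.Surjective (SymTen.tmap A d π) := by
  intro z
  induction z using PiTensorProduct.induction_on with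
  | smul_tprod r f =>
    exact ⟨r • PiTensorProduct.tprod A (Function.surjInv hπ ∘ f), by
      rw [map_smul, SymTen.tmap_tprod]
      simp only [Function.comp_apply, Function.surjInv_eq hπ]⟩
  | add x y hx hy =>
    obtain ⟨x', rfl⟩ := hx
    obtain ⟨y', rfl⟩ := hy
    exact ⟨x' + y', map_add _ _ _⟩

/-- The span of the pure tensors with an entry in the kernel. -/
noncomputable def slotKer (d : ℕ) : Submodule A (⨂[A] _ : Fin d, P) :=
  Submodule.span A {x | ∃ (p : Fin d → P) (j : Fin d), π (p j) = 0 ∧ x = PiTensorProduct.tprod A p}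

include hπ in
theorem mem_slotKer {z : ⨂[A] _ : Fin d, P} (hz : SymTen.tmap A d π z = 0) : z ∈ slotKer π d := by
  classical
  let K := slotKer π d
  have hcongr : ∀ (s : Finset (Fin d)) (p q : Fin d → P), (∀ j, j ∉ s → p j = q j) → (∀ j, π (p j) = π (q j)) →
      K.mkQ (PiTensorProduct.tprod A p) = K.mkQ (PiTensorProduct.tprod A q) := by
    intro s
    induction s using Finset.induction_on with
    | empty => intro p q h _; rw [funext fun j => h j (Finset.notMem_empty j)]
    | insert a s _ ih =>
      intro p q h hpq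
      have h1 : K.mkQ (PiTensorProduct.tprod A p) = K.mkQ (PiTensorProduct.tprod A (Function.update p a (q a))) := by
        rw [← sub_eq_zero, ← map_sub, Submodule.mkQ_apply, Submodule.Quotient.mk_eq_zero]
        have h2 := (PiTensorProduct.tprod A).map_update_sub p a (p a) (q a)
        rw [Function.update_eq_self] at h2
        rw [← h2]
        exact Submodule.subset_span ⟨_, a, by rw [Function.update_self, map_sub, hpq, sub_self], rfl⟩
      rw [h1]
      refine ih _ _ (fun j hj => ?_) (fun j => ?_)
      · by_cases hja : j = a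
        · subst hja; rw [Function.update_self]
        · rw [Function.update_of_ne hja]
          exact h j (by simp [hja, hj])
      · by_cases hja : j = a
        · subst hja; rw [Function.update_self]
        · rw [Function.update_of_ne hja]; exact hpq j
  let sec := Function.surjInv hπ
  have hsec : ∀ b, π (sec b) = b := Function.surjInv_eq hπ
  let Ψ : MultilinearMap A (fun _ : Fin d => B) ((⨂[A] _ : Fin d, P) ⧸ K) :=
    { toFun := fun b => K.mkQ (PiTensorProduct.tprod A (sec ∘ b))
      map_update_add' := fun {_} b a x y => by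
        have hu : ∀ v, K.mkQ (PiTensorProduct.tprod A (sec ∘ Function.update b a (π v))) =
            K.mkQ (PiTensorProduct.tprod A (Function.update (sec ∘ b) a v)) := fun v => by
          refine hcongr Finset.univ _ _ (fun j hj => absurd (Finset.mem_univ j) hj) fun j => ?_
          simp only [Function.comp_apply, hsec]
          by_cases hja : j = a
          · subst hja; simp
          · simp [Function.update_of_ne hja, hsec]
        have hx := hu (sec x); have hy := hu (sec y); have hxy := hu (sec x + sec y)
        rw [hsec] at hx hy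
        rw [map_add, hsec, hsec] at hxy
        rw [hx, hy, hxy, MultilinearMap.map_update_add, map_add]
      map_update_smul' := fun {_} b a c x => by
        have hu : ∀ v, K.mkQ (PiTensorProduct.tprod A (sec ∘ Function.update b a (π v))) =
            K.mkQ (PiTensorProduct.tprod A (Function.update (sec ∘ b) a v)) := fun v => by
          refine hcongr Finset.univ _ _ (fun j hj => absurd (Finset.mem_univ j) hj) fun j => ?_
          simp only [Function.comp_apply, hsec]
          by_cases hja : j = a
          · subst hja; simp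
          · simp [Function.update_of_ne hja, hsec]
        have hx := hu (sec x); have hcx := hu (c • sec x)
        rw [hsec] at hx
        rw [map_smul, hsec] at hcx
        rw [hx, hcx, MultilinearMap.map_update_smul, map_smul] }
  have h : (PiTensorProduct.lift Ψ) ∘ₗ (SymTen.tmap A d π).toLinearMap = K.mkQ := by
    refine PiTensorProduct.ext (MultilinearMap.ext fun p => ?_)
    simp only [LinearMap.compMultilinearMap_apply, LinearMap.comp_apply, AlgHom.toLinearMap_apply,
      SymTen.tmap_tprod, PiTensorProduct.lift.tprod]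
    exact hcongr Finset.univ _ _ (fun j hj => absurd (Finset.mem_univ j) hj) fun j => hsec _
  have h2 := LinearMap.congr_fun h z
  rw [LinearMap.comp_apply, AlgHom.toLinearMap_apply, hz, map_zero, Submodule.mkQ_apply] at h2
  exact (Submodule.Quotient.mk_eq_zero _).mp h2.symm

end Kernel

/-- Evaluation of an auxiliary variable. -/
noncomputable def evalAt (c : P) : Polynomial P →ₐ[A] P := (Polynomial.aeval c).restrictScalars A

/-- An element with an entry in the kernel is the value of a tensor with an auxiliary variable. -/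
theorem exists_aux {p : Fin d → P} {j : Fin d} :
    ∃ q : Fin d → Polynomial P, (∀ c, SymTen.tmap A d (evalAt c) (PiTensorProduct.tprod A q) =
      PiTensorProduct.tprod A (Function.update p j c)) := by
  refine ⟨Function.update (fun l => Polynomial.C (p l)) j Polynomial.X, fun c => ?_⟩
  rw [SymTen.tmap_tprod]
  congr 1
  funext l
  by_cases h : l = j
  · subst h; simp [evalAt]
  · simp [evalAt, Function.update_of_ne h]

/-- The linear map through which a symmetric operation is pushed into the divided powers kills the slot kernel. -/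
theorem lin_map_evalAt (γ : PolLaw.MulLaw A B C d) {c : P} (hc : π c = 0) {x : ⨂[A] _ : Fin d, Polynomial P}
    (hx : x ∈ symTen A (Polynomial P) d) :
    lin e (γ.precomp π).law (SymTen.tmap A d (evalAt c) x) =
      lin e (γ.precomp π).law (SymTen.tmap A d (evalAt 0) x) := by
  have hh : π.toLinearMap ∘ₗ (evalAt (A := A) c).toLinearMap = π.toLinearMap ∘ₗ (evalAt (A := A) 0).toLinearMap := by
    refine LinearMap.ext fun f => ?_
    simp only [LinearMap.comp_apply, AlgHom.toLinearMap_apply, evalAt, AlgHom.restrictScalars_apply]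
    have : ∀ a, π (Polynomial.aeval a f) = f.eval₂ π.toRingHom (π a) := fun a => by
      rw [Polynomial.aeval_def, Algebra.algebraMap_self, show π (Polynomial.eval₂ (RingHom.id P) a f) =
        π.toRingHom (Polynomial.eval₂ (RingHom.id P) a f) from rfl, Polynomial.hom_eval₂]
      rfl
    rw [this, this, hc, map_zero]
  let e' : Module.Basis (ι × ℕ) A (Polynomial P) := e.smulTower (Polynomial.basisMonomials P)
  rw [tmap_eq_map, tmap_eq_map, lin_map e _ (γ.precomp π).homog _ e' hx, lin_map e _ (γ.precomp π).homog _ e' hx]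
  congr 2
  apply PolynomialLaw.ext
  funext S _ _ z
  show γ.law.toFun' S (π.toLinearMap.lTensor S ((evalAt c).toLinearMap.lTensor S z)) =
    γ.law.toFun' S (π.toLinearMap.lTensor S ((evalAt 0).toLinearMap.lTensor S z))
  rw [← LinearMap.comp_apply, ← LinearMap.lTensor_comp, hh, LinearMap.lTensor_comp, LinearMap.comp_apply]

theorem exists_norm (hπ : Function.Surjective π) (e : Module.Basis ι A P) (γ : PolLaw.MulLaw A B C d) :
    ∃ F : PolLaw.MulLaw A (⨂[A] _ : Fin d, B) C d.factorial,
      ∀ (S : Type u) [CommSemiring S] [Algebra A S] (z : S ⊗[A] (⨂[A] _ : Fin d, P)),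
        F.law.toFun' S ((SymTen.tmap A d π).toLinearMap.lTensor S z) =
          (lin e (γ.precomp π).law).lTensor S ((SymTen.symmLaw A P d).law.toFun' S z) := by
  classical
  let N : (⨂[A] _ : Fin d, P) →ₚₗ[A] SymTen.TS A P d := PolLaw.postcomp (symProj e) (SymTen.symmLaw A P d).law
  have hN : PolLaw.postcomp (SymTen.TS A P d).val.toLinearMap N = (SymTen.symmLaw A P d).law := by
    refine law_ext_cf (id : (⨂[A] _ : Fin d, P) → _) span_range_id fun α => ?_
    rw [cf_postcomp, cf_postcomp]
    exact congrArg Subtype.val (symProj_of_mem e ⟨_, co_symmLaw_mem (gen α.support id) α⟩)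
  have hNS : ∀ (S : Type u) [CommSemiring S] [Algebra A S] (z : S ⊗[A] (⨂[A] _ : Fin d, P)),
      (SymTen.TS A P d).val.toLinearMap.lTensor S (N.toFun' S z) = (SymTen.symmLaw A P d).law.toFun' S z :=
    fun S _ _ z => congrFun (congrArg
      (fun L : (⨂[A] _ : Fin d, P) →ₚₗ[A] (⨂[A] _ : Fin d, P) => L.toFun' S) hN) z
  let NT : PolLaw.MulLaw A (⨂[A] _ : Fin d, P) (SymTen.TS A P d) d.factorial :=
    { law := N
      homog := fun S _ _ s x => by
        show (symProj e).lTensor S ((SymTen.symmLaw A P d).law.toFun' S (s • x)) = s ^ d.factorial • (symProj e).lTensor S _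
        rw [(SymTen.symmLaw A P d).homog S s x]
        exact ((symProj e).baseChange S).map_smul _ _
      mult := fun S _ _ => ⟨val_lTensor_injective e S (by
          rw [hNS, ((SymTen.symmLaw A P d).mult S).1, PolLaw.lTensor_algHom_apply, map_one]),
        fun x y => val_lTensor_injective e S (by
          rw [hNS, ((SymTen.symmLaw A P d).mult S).2, ← hNS, ← hNS, PolLaw.lTensor_algHom_apply,
            PolLaw.lTensor_algHom_apply, PolLaw.lTensor_algHom_apply, map_mul])⟩ }
  let G := NT.postcomp (rho e (γ.precomp π))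
  have hG : ∀ (S : Type u) [CommSemiring S] [Algebra A S] (z : S ⊗[A] (⨂[A] _ : Fin d, P)),
      G.law.toFun' S z = (lin e (γ.precomp π).law).lTensor S ((SymTen.symmLaw A P d).law.toFun' S z) := by
    intro S _ _ z
    rw [← hNS, ← LinearMap.comp_apply, ← LinearMap.lTensor_comp]
    rfl
  refine ⟨descendMul G (SymTen.tmap A d π) (tmap_surjective π hπ) fun σ x y hxy => ?_, fun S _ _ z => ?_⟩
  · -- constancy on the fibres over a polynomial ring
    let T := MvPolynomial σ A
    have hmem : ∀ α, co α (y - x) ∈ slotKer π d := fun α => by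
      refine mem_slotKer π hπ ?_
      have h := congrArg (co α) hxy
      rw [co_lTensor, co_lTensor] at h
      rw [map_sub, map_sub]
      exact sub_eq_zero.mpr h.symm
    obtain ⟨U, -, hU⟩ := exists_sum_monomial (y - x)
    rw [show y = x + ∑ α ∈ U, monomial α (1 : A) ⊗ₜ[A] co α (y - x) by rw [← hU, add_sub_cancel]]
    have step : ∀ k ∈ slotKer π d, ∀ (t : MvPolynomial σ A) (z : MvPolynomial σ A ⊗[A] (⨂[A] _ : Fin d, P)),
        G.law.toFun' _ (z + t ⊗ₜ[A] k) = G.law.toFun' _ z := by
      intro k hk
      induction hk using Submodule.span_induction with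
      | zero => intro t z; rw [TensorProduct.tmul_zero, add_zero]
      | add a b _ _ ha hb => intro t z; rw [TensorProduct.tmul_add, ← add_assoc, hb, ha]
      | smul c a _ ha => intro t z; rw [TensorProduct.tmul_smul, TensorProduct.smul_tmul', ha]
      | mem k hk =>
        obtain ⟨p, j, hpj, rfl⟩ := hk
        intro t z
        obtain ⟨q, hq⟩ := exists_aux (A := A) (p := p) (j := j)
        let Cl : P →ₐ[A] Polynomial P := (Polynomial.CAlgHom (R := P) (A := P)).restrictScalars A
        have hC : ∀ (c : P) (w : MvPolynomial σ A ⊗[A] (⨂[A] _ : Fin d, P)),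
            (SymTen.tmap A d (evalAt c)).toLinearMap.lTensor _ ((SymTen.tmap A d Cl).toLinearMap.lTensor _ w) = w := by
          intro c w
          have h : (SymTen.tmap A d (evalAt c)).toLinearMap ∘ₗ (SymTen.tmap A d Cl).toLinearMap = LinearMap.id := by
            refine PiTensorProduct.ext (MultilinearMap.ext fun f => ?_)
            simp [Cl, evalAt]
          rw [← LinearMap.comp_apply, ← LinearMap.lTensor_comp, h, LinearMap.lTensor_id, LinearMap.id_apply]
        let Z := (SymTen.tmap A d Cl).toLinearMap.lTensor _ z + t ⊗ₜ[A] PiTensorProduct.tprod A q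
        have hZ : ∀ c, (SymTen.tmap A d (evalAt c)).toLinearMap.lTensor _ Z =
            z + t ⊗ₜ[A] PiTensorProduct.tprod A (Function.update p j c) := fun c => by
          rw [map_add, hC, LinearMap.lTensor_tmul, AlgHom.toLinearMap_apply, hq]
        have hp : Function.update p j (p j) = p := Function.update_eq_self _ _
        have h0 : PiTensorProduct.tprod A (Function.update p j 0) = 0 := MultilinearMap.map_update_zero _ _ _
        have e1 := hZ (p j)
        have e0 := hZ 0
        rw [hp] at e1
        rw [h0, TensorProduct.tmul_zero, add_zero] at e0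
        rw [← e1, hG]
        conv_rhs => rw [← e0, hG]
        rw [← symmLaw_tmap, ← symmLaw_tmap]
        refine co_ext fun α => ?_
        rw [co_lTensor, co_lTensor, co_lTensor, co_lTensor]
        exact lin_map_evalAt e π γ hpj (co_symmLaw_mem Z α)
    symm
    clear hU
    induction U using Finset.induction_on with
    | empty => rw [Finset.sum_empty, add_zero]
    | insert α U hα ih =>
      rw [Finset.sum_insert hα, add_comm (monomial α 1 ⊗ₜ[A] _), ← add_assoc, step _ (hmem α), ih]
  · rw [descendMul_apply, hG]

theorem exists_trace (hπ : Function.Surjective π) (e : Module.Basis ι A P) (γ : PolLaw.MulLaw A B C d) :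
    ∃ Ψ : (⨂[A] _ : Fin d, B) →ₗ[A] C, ∀ z : ⨂[A] _ : Fin d, P,
      Ψ (SymTen.tmap A d π z) = lin e (γ.precomp π).law (∑ σ, SymTen.perm A P d σ z) := by
  classical
  let T : (⨂[A] _ : Fin d, P) →ₗ[A] C :=
    lin e (γ.precomp π).law ∘ₗ ∑ σ : Equiv.Perm (Fin d), (SymTen.perm A P d σ).toLinearMap
  have hT : ∀ z, T z = lin e (γ.precomp π).law (∑ σ, SymTen.perm A P d σ z) := fun z => by
    simp [T]
  have hker : LinearMap.ker (SymTen.tmap A d π).toLinearMap ≤ LinearMap.ker T := by
    intro z hz
    have := mem_slotKer π hπ hz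
    refine (Submodule.span_le.mpr ?_) this
    rintro _ ⟨p, j, hpj, rfl⟩
    rw [SetLike.mem_coe, LinearMap.mem_ker, hT]
    obtain ⟨q, hq⟩ := exists_aux (A := A) (p := p) (j := j)
    have h1 : ∀ c, ∑ σ, SymTen.perm A P d σ (PiTensorProduct.tprod A (Function.update p j c)) =
        SymTen.tmap A d (evalAt c) (∑ σ, SymTen.perm A (Polynomial P) d σ (PiTensorProduct.tprod A q)) := fun c => by
      rw [map_sum]
      exact Finset.sum_congr rfl fun σ _ => by rw [tmap_perm, hq]
    rw [show p = Function.update p j (p j) from (Function.update_eq_self _ _).symm, h1,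
      lin_map_evalAt e π γ hpj (sum_perm_mem _), ← h1, MultilinearMap.map_update_zero]
    simp
  refine ⟨(Submodule.liftQ _ T hker).comp ((SymTen.tmap A d π).toLinearMap.quotKerEquivOfSurjective
    (tmap_surjective π hπ)).symm.toLinearMap, fun z => ?_⟩
  rw [LinearMap.comp_apply, LinearEquiv.coe_coe, show ((SymTen.tmap A d π).toLinearMap.quotKerEquivOfSurjective
    (tmap_surjective π hπ)).symm (SymTen.tmap A d π z) = Submodule.Quotient.mk z from
      (LinearEquiv.symm_apply_eq _).mpr rfl, Submodule.liftQ_apply, hT]

/-- The comparison map on the generators. -/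
theorem comp_rho (γ : PolLaw.MulLaw A B C d) (φ : C →ₐ[A] SymTen.TS A B d)
    (hφ : PolLaw.postcomp ((SymTen.TS A B d).val.comp φ).toLinearMap γ.law = (SymTen.tpowLaw A B d).law)
    (u : SymTen.TS A P d) :
    (φ (rho e (γ.precomp π) u) : ⨂[A] _ : Fin d, B) = SymTen.tmap A d π (u : ⨂[A] _ : Fin d, P) := by
  have h : ((SymTen.TS A B d).val.comp φ).comp (rho e (γ.precomp π)) =
      (SymTen.tmap A d π).comp (SymTen.TS A P d).val := by
    refine TS_hom_ext e fun α => ?_
    show ((SymTen.TS A B d).val.comp φ).toLinearMap (rho e (γ.precomp π) (orb e α)) =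
      SymTen.tmap A d π (cf (tp A P d) e α)
    rw [rho_orb, ← cf_postcomp, tmap_eq_map, map_cf_tp]
    show cf (PolLaw.postcomp _ (PolLaw.precomp γ.law π.toLinearMap)) e α = _
    rw [cf_postcomp, cf_precomp, ← cf_postcomp, hφ, tpowLaw_eq_tp]
  exact AlgHom.congr_fun h u

/-- The form of the hypothesis used in the statements. -/
theorem postcomp_eq_tpowLaw (γ : PolLaw.MulLaw A B C d) (φ : C →ₐ[A] SymTen.TS A B d)
    (hφ : ∀ (S : Type u) [CommSemiring S] [Algebra A S] (n : ℕ) (s : Fin n → S) (b : Fin n → B),
      ((SymTen.TS A B d).val.comp φ).toLinearMap.lTensor S (γ.law.toFun' S (∑ j, s j ⊗ₜ[A] b j)) =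
        ∑ c : Fin d → Fin n, (∏ i, s (c i)) ⊗ₜ[A] PiTensorProduct.tprod A (fun i => b (c i))) :
    PolLaw.postcomp ((SymTen.TS A B d).val.comp φ).toLinearMap γ.law = (SymTen.tpowLaw A B d).law := by
  classical
  apply PolynomialLaw.ext
  funext S _ _ x
  obtain ⟨n, s, b, rfl⟩ : ∃ (n : ℕ) (s : Fin n → S) (b : Fin n → B), x = ∑ j, s j ⊗ₜ[A] b j := by
    obtain ⟨F, t, rfl⟩ := exists_sum (id : B → B) span_range_id S x
    refine ⟨F.card, fun j => t (F.equivFin.symm j), fun j => (F.equivFin.symm j : B), ?_⟩
    rw [← Finset.sum_coe_sort F]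
    exact (Equiv.sum_comp F.equivFin.symm fun i : F => t i ⊗ₜ[A] id (i : B)).symm
  rw [tpowLaw_sum, Fintype.piFinset_univ]
  exact hφ S n s b

end Groth.Agent.DivPow
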