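import Groth.Agent.DivPow.Norm

/-!
# The comparison of divided powers with symmetric tensors: norm and trace
-/

set_option autoImplicit false
universe u

open scoped TensorProduct
open MvPolynomial

namespace Groth.Agent.DivPow

variable {A B C : Type u} [CommRing A] [CommRing B] [Algebra A B] [CommRing C] [Algebra A C] {d : ℕ}
  (γ : PolLaw.MulLaw A B C d) (φ : C →ₐ[A] SymTen.TS A B d)

theorem exists_norm_law (hγφ : PolLaw.postcomp ((SymTen.TS A B d).val.comp φ).toLinearMap γ.law = (SymTen.tpowLaw A B d).law) :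
    ∃ F : PolLaw.MulLaw A (⨂[A] _ : Fin d, B) C d.factorial,
      PolLaw.postcomp ((SymTen.TS A B d).val.comp φ).toLinearMap F.law = (SymTen.symmLaw A B d).law ∧
      (PolLaw.IsGammaD γ → ∀ (S : Type u) [CommSemiring S] [Algebra A S] (x : S ⊗[A] C),
        F.law.toFun' S ((SymTen.TS A B d).val.toLinearMap.lTensor S (φ.toLinearMap.lTensor S x)) = x ^ d.factorial) := by
  let π : MvPolynomial B A →ₐ[A] B := aeval id
  have hπ : Function.Surjective π := exists_presentation A B
  let e := MvPolynomial.basisMonomials B A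
  obtain ⟨F, hF⟩ := exists_norm π hπ e γ
  refine ⟨F, ?_, fun hγ S _ _ x => ?_⟩
  · refine precomp_cancel (g := (SymTen.tmap A d π).toLinearMap) (tmap_surjective π hπ) ?_
    refine law_ext_cf (id : (⨂[A] _ : Fin d, MvPolynomial B A) → _) span_range_id fun α => ?_
    rw [cf_precomp, cf_precomp]
    set g0 := gen (A := A) α.support (id : (⨂[A] _ : Fin d, MvPolynomial B A) → _)
    have hgen : (SymTen.tmap A d π).toLinearMap.lTensor _ g0 = gen α.support ((SymTen.tmap A d π).toLinearMap ∘ id) := by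
      simp only [g0, gen, map_sum, LinearMap.lTensor_tmul]
      rfl
    show co α (((SymTen.TS A B d).val.comp φ).toLinearMap.lTensor _ (F.law.toFun' _ (gen α.support _))) = co α _
    rw [← hgen, hF, co_lTensor, co_lTensor]
    rw [← symmLaw_tmap, co_lTensor]
    exact comp_rho e π γ φ hγφ ⟨_, co_symmLaw_mem g0 α⟩
  · obtain ⟨u, rfl⟩ := LinearMap.lTensor_surjective S
      (show Function.Surjective (rho e (γ.precomp π)).toLinearMap from rho_surjective e π hπ hγ) x
    have h1 : (SymTen.TS A B d).val.toLinearMap.lTensor S (φ.toLinearMap.lTensor S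
        ((rho e (γ.precomp π)).toLinearMap.lTensor S u)) =
        (SymTen.tmap A d π).toLinearMap.lTensor S ((SymTen.TS A (MvPolynomial B A) d).val.toLinearMap.lTensor S u) := by
      simp only [← LinearMap.comp_apply, ← LinearMap.lTensor_comp]
      congr 2
      exact LinearMap.ext fun w => comp_rho e π γ φ hγφ w
    rw [h1, hF, symmLaw_of_symmetric, ← LinearMap.comp_apply, ← LinearMap.lTensor_comp]
    show (rho e (γ.precomp π)).toLinearMap.lTensor S (u ^ d.factorial) = _
    rw [PolLaw.lTensor_algHom_apply, PolLaw.lTensor_algHom_apply, map_pow]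

theorem exists_pow_law (hγφ : PolLaw.postcomp ((SymTen.TS A B d).val.comp φ).toLinearMap γ.law = (SymTen.tpowLaw A B d).law)
    (hγ : PolLaw.IsGammaD γ) :
    ∃ F : PolLaw.MulLaw A (SymTen.TS A B d) C d.factorial,
      PolLaw.MulLaw.postcomp φ F = PolLaw.MulLaw.pow A (SymTen.TS A B d) d.factorial ∧
      PolLaw.MulLaw.precomp F φ = PolLaw.MulLaw.pow A C d.factorial := by
  obtain ⟨F, hF, hF'⟩ := exists_norm_law γ φ hγφ
  refine ⟨F.precomp (SymTen.TS A B d).val, PolLaw.MulLaw.ext ?_, PolLaw.MulLaw.ext ?_⟩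
  · refine law_ext_cf (id : SymTen.TS A B d → _) span_range_id fun α => Subtype.ext ?_
    set g0 := gen (A := A) α.support (id : SymTen.TS A B d → _)
    show (SymTen.TS A B d).val.toLinearMap (co α (φ.toLinearMap.lTensor _
      (F.law.toFun' _ ((SymTen.TS A B d).val.toLinearMap.lTensor _ g0)))) =
      (SymTen.TS A B d).val.toLinearMap (co α (g0 ^ d.factorial))
    rw [← co_lTensor, ← co_lTensor, ← symmLaw_of_symmetric]
    refine Eq.trans (congrArg _ (DFunLike.congr_fun (LinearMap.lTensor_comp (MvPolynomial (SymTen.TS A B d) A)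
      (SymTen.TS A B d).val.toLinearMap φ.toLinearMap) _).symm) ?_
    exact congrArg _ (congrFun (congrArg
      (fun L : (⨂[A] _ : Fin d, B) →ₚₗ[A] (⨂[A] _ : Fin d, B) => L.toFun' (MvPolynomial (SymTen.TS A B d) A)) hF) _)
  · apply PolynomialLaw.ext
    funext S _ _ x
    exact hF' hγ S x

theorem factorial_smul (hγφ : PolLaw.postcomp ((SymTen.TS A B d).val.comp φ).toLinearMap γ.law = (SymTen.tpowLaw A B d).law)
    (hγ : PolLaw.IsGammaD γ) :
    (∀ x : C, φ x = 0 → d.factorial • x = 0) ∧ (∀ y : SymTen.TS A B d, d.factorial • y ∈ φ.range) := by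
  let π : MvPolynomial B A →ₐ[A] B := aeval id
  have hπ : Function.Surjective π := exists_presentation A B
  let e := MvPolynomial.basisMonomials B A
  obtain ⟨Ψ, hΨ⟩ := exists_trace π hπ e γ
  refine ⟨fun x hx => ?_, fun y => ?_⟩
  · obtain ⟨u, rfl⟩ := rho_surjective e π hπ hγ x
    have h1 : SymTen.tmap A d π (u : ⨂[A] _ : Fin d, MvPolynomial B A) = 0 := by
      rw [← comp_rho e π γ φ hγφ u, hx]; rfl
    have h2 := hΨ u
    rw [h1, map_zero, Finset.sum_congr rfl (fun σ _ => (SymTen.perm_apply A _ d σ _).trans (u.2 σ)), Finset.sum_const,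
      Finset.card_univ, Fintype.card_perm, Fintype.card_fin, map_nsmul] at h2
    exact h2.symm
  · obtain ⟨z, hz⟩ := tmap_surjective π hπ (d := d) (y : ⨂[A] _ : Fin d, B)
    refine ⟨Ψ y, Subtype.ext ?_⟩
    rw [← hz, hΨ]
    show (φ (rho e (γ.precomp π) ⟨_, sum_perm_mem z⟩) : ⨂[A] _ : Fin d, B) = _
    rw [comp_rho e π γ φ hγφ]
    show SymTen.tmap A d π (∑ σ, SymTen.perm A _ d σ z) = _
    rw [map_sum]
    simp only [tmap_perm, hz]
    rw [Finset.sum_congr rfl (fun σ _ => (SymTen.perm_apply A _ d σ _).trans (y.2 σ)), Finset.sum_const,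
      Finset.card_univ, Fintype.card_perm, Fintype.card_fin]
    rfl

end Groth.Agent.DivPow
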