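import Groth.Prelude.Def_PolLaw
import Mathlib

/-!
# Laws on a product of two algebras over a connected base
-/

set_option autoImplicit false
set_option linter.unusedSectionVars false
universe u

open scoped TensorProduct

namespace Groth.Agent.DivPow.ProdLaw

variable {A : Type u} [CommRing A] {B₁ B₂ : Type u} [CommRing B₁] [Algebra A B₁] [CommRing B₂] [Algebra A B₂]
  {d : ℕ} (F : PolLaw.MulLaw A (B₁ × B₂) A d)

variable (B₁ B₂) in
/-- The first idempotent. -/
noncomputable def e₁ (S : Type u) [CommSemiring S] [Algebra A S] : S ⊗[A] (B₁ × B₂) := (1 : S) ⊗ₜ[A] ((1, 0) : B₁ × B₂)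

variable (B₁ B₂) in
/-- The second idempotent. -/
noncomputable def e₂ (S : Type u) [CommSemiring S] [Algebra A S] : S ⊗[A] (B₁ × B₂) := (1 : S) ⊗ₜ[A] ((0, 1) : B₁ × B₂)

/-- The embedding of the first factor. -/
noncomputable def i₁ (S : Type u) [CommSemiring S] [Algebra A S] : S ⊗[A] B₁ →ₗ[A] S ⊗[A] (B₁ × B₂) :=
  (LinearMap.inl A B₁ B₂).lTensor S

/-- The embedding of the second factor. -/
noncomputable def i₂ (S : Type u) [CommSemiring S] [Algebra A S] : S ⊗[A] B₂ →ₗ[A] S ⊗[A] (B₁ × B₂) :=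
  (LinearMap.inr A B₁ B₂).lTensor S

variable (S : Type u) [CommSemiring S] [Algebra A S]

theorem i₁_mul (x y : S ⊗[A] B₁) : i₁ (B₂ := B₂) S (x * y) = i₁ S x * i₁ S y := by
  induction x using TensorProduct.induction_on with
  | zero => simp
  | tmul s b =>
    induction y using TensorProduct.induction_on with
    | zero => simp
    | tmul t c => simp [i₁]
    | add a a' ha ha' => simp only [map_add, mul_add, ha, ha']
  | add a a' ha ha' => simp only [map_add, add_mul, ha, ha']

theorem i₂_mul (x y : S ⊗[A] B₂) : i₂ (B₁ := B₁) S (x * y) = i₂ S x * i₂ S y := by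
  induction x using TensorProduct.induction_on with
  | zero => simp
  | tmul s b =>
    induction y using TensorProduct.induction_on with
    | zero => simp
    | tmul t c => simp [i₂]
    | add a a' ha ha' => simp only [map_add, mul_add, ha, ha']
  | add a a' ha ha' => simp only [map_add, add_mul, ha, ha']

theorem i₁_mul_e₂ (x : S ⊗[A] B₁) : i₁ S x * e₂ B₁ B₂ S = 0 := by
  induction x using TensorProduct.induction_on with
  | zero => simp
  | tmul s b => simp [i₁, e₂, Prod.mk_zero_zero]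
  | add a a' ha ha' => simp only [map_add, add_mul, ha, ha', add_zero]

theorem i₂_mul_e₁ (x : S ⊗[A] B₂) : i₂ S x * e₁ B₁ B₂ S = 0 := by
  induction x using TensorProduct.induction_on with
  | zero => simp
  | tmul s b => simp [i₂, e₁, Prod.mk_zero_zero]
  | add a a' ha ha' => simp only [map_add, add_mul, ha, ha', add_zero]

theorem e₁_add_e₂ : e₁ B₁ B₂ S + e₂ B₁ B₂ S = (1 : S ⊗[A] (B₁ × B₂)) := by
  rw [e₁, e₂, ← TensorProduct.tmul_add]
  simp [Algebra.TensorProduct.one_def, Prod.one_eq_mk]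

theorem e_idem : (e₁ B₁ B₂ S : S ⊗[A] (B₁ × B₂)) * e₁ B₁ B₂ S = e₁ B₁ B₂ S ∧ (e₂ B₁ B₂ S : S ⊗[A] (B₁ × B₂)) * e₂ B₁ B₂ S = e₂ B₁ B₂ S ∧
    (e₁ B₁ B₂ S : S ⊗[A] (B₁ × B₂)) * e₂ B₁ B₂ S = 0 := by
  refine ⟨?_, ?_, ?_⟩ <;> simp [e₁, e₂, Prod.mk_zero_zero]

theorem i₁_one : i₁ S (1 : S ⊗[A] B₁) = e₁ B₁ B₂ S := by simp [i₁, e₁, Algebra.TensorProduct.one_def]

theorem i₂_one : i₂ S (1 : S ⊗[A] B₂) = e₂ B₁ B₂ S := by simp [i₂, e₂, Algebra.TensorProduct.one_def]

theorem i₁_smul (s : S) (x : S ⊗[A] B₁) : i₁ (B₂ := B₂) S (s • x) = s • i₁ S x := by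
  induction x using TensorProduct.induction_on with
  | zero => simp
  | tmul t b => simp [i₁, TensorProduct.smul_tmul']
  | add a a' ha ha' => simp only [smul_add, map_add, ha, ha']

theorem i₂_smul (s : S) (x : S ⊗[A] B₂) : i₂ (B₁ := B₁) S (s • x) = s • i₂ S x := by
  induction x using TensorProduct.induction_on with
  | zero => simp
  | tmul t b => simp [i₂, TensorProduct.smul_tmul']
  | add a a' ha ha' => simp only [smul_add, map_add, ha, ha']

theorem decomp (x : S ⊗[A] (B₁ × B₂)) :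
    (i₁ S ((LinearMap.fst A B₁ B₂).lTensor S x) + e₂ B₁ B₂ S) *
      (e₁ B₁ B₂ S + i₂ S ((LinearMap.snd A B₁ B₂).lTensor S x)) = x := by
  have h1 : ∀ y : S ⊗[A] B₁, i₁ S y * e₁ B₁ B₂ S = i₁ S y := fun y => by rw [← i₁_one, ← i₁_mul, mul_one]
  have h2 : ∀ y : S ⊗[A] B₂, e₂ B₁ B₂ S * i₂ S y = i₂ S y := fun y => by rw [← i₂_one, ← i₂_mul, one_mul]
  have h3 : ∀ (y : S ⊗[A] B₁) (z : S ⊗[A] B₂), i₁ S y * i₂ S z = 0 := fun y z => by
    rw [← h2 z, ← mul_assoc, i₁_mul_e₂, zero_mul]
  rw [add_mul, mul_add, mul_add, h1, h2, h3, mul_comm (e₂ B₁ B₂ S), (e_idem S).2.2, add_zero, zero_add]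
  induction x using TensorProduct.induction_on with
  | zero => simp
  | tmul s b => simp [i₁, i₂, ← TensorProduct.tmul_add]
  | add a a' ha ha' => simp only [map_add]; rw [add_add_add_comm, ha, ha']

theorem rTensor_e {S' : Type u} [CommSemiring S'] [Algebra A S'] (φ : S →ₐ[A] S') :
    φ.toLinearMap.rTensor _ (e₁ B₁ B₂ S) = e₁ B₁ B₂ S' ∧ φ.toLinearMap.rTensor _ (e₂ B₁ B₂ S) = e₂ B₁ B₂ S' := by
  simp [e₁, e₂]

/-- Restriction to the first factor, as a bare law. -/
noncomputable def law₁ : B₁ →ₚₗ[A] A where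
  toFun' S _ _ x := F.law.toFun' S (i₁ S x + e₂ B₁ B₂ S)
  isCompat' {S} _ _ {S'} _ _ φ := by
    funext x
    simp only [Function.comp_apply]
    rw [PolynomialLaw.isCompat_apply', map_add, (rTensor_e S φ).2]
    congr 2
    rw [i₁, i₁, ← LinearMap.comp_apply, LinearMap.rTensor_comp_lTensor, ← LinearMap.lTensor_comp_rTensor, LinearMap.comp_apply]

/-- Restriction to the second factor, as a bare law. -/
noncomputable def law₂ : B₂ →ₚₗ[A] A where
  toFun' S _ _ x := F.law.toFun' S (e₁ B₁ B₂ S + i₂ S x)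
  isCompat' {S} _ _ {S'} _ _ φ := by
    funext x
    simp only [Function.comp_apply]
    rw [PolynomialLaw.isCompat_apply', map_add, (rTensor_e S φ).1]
    congr 2
    rw [i₂, i₂, ← LinearMap.comp_apply, LinearMap.rTensor_comp_lTensor, ← LinearMap.lTensor_comp_rTensor, LinearMap.comp_apply]

theorem isMult₁ : PolLaw.IsMult (law₁ F) := by
  intro S _ _
  refine ⟨?_, fun x y => ?_⟩
  · show F.law.toFun' S (i₁ S 1 + e₂ B₁ B₂ S) = 1
    rw [i₁_one, e₁_add_e₂, (F.mult S).1]
  · show F.law.toFun' S (i₁ S (x * y) + e₂ B₁ B₂ S) =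
      F.law.toFun' S (i₁ S x + e₂ B₁ B₂ S) * F.law.toFun' S (i₁ S y + e₂ B₁ B₂ S)
    rw [← (F.mult S).2, i₁_mul, add_mul, mul_add, mul_add, i₁_mul_e₂, mul_comm (e₂ B₁ B₂ S) (i₁ S y), i₁_mul_e₂,
      (e_idem S).2.1, add_zero, zero_add]

theorem isMult₂ : PolLaw.IsMult (law₂ F) := by
  intro S _ _
  refine ⟨?_, fun x y => ?_⟩
  · show F.law.toFun' S (e₁ B₁ B₂ S + i₂ S 1) = 1
    rw [i₂_one, e₁_add_e₂, (F.mult S).1]
  · show F.law.toFun' S (e₁ B₁ B₂ S + i₂ S (x * y)) =
      F.law.toFun' S (e₁ B₁ B₂ S + i₂ S x) * F.law.toFun' S (e₁ B₁ B₂ S + i₂ S y)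
    rw [← (F.mult S).2, i₂_mul, add_mul, mul_add, mul_add, i₂_mul_e₁, mul_comm (e₁ B₁ B₂ S) (i₂ S y), i₂_mul_e₁,
      (e_idem S).1, add_zero, zero_add]

/-- A multiplicative polynomial over a connected ring is a power of the variable. -/
theorem exists_eq_X_pow [ConnectedSpace (PrimeSpectrum A)] (u : Polynomial A) (h1 : u.eval 1 = 1)
    (hmul : ∀ (S : Type u) [CommRing S] [Algebra A S] (s t : S),
      Polynomial.aeval (s * t) u = Polynomial.aeval s u * Polynomial.aeval t u) : ∃ n, u = Polynomial.X ^ n := by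
  classical
  haveI : Nontrivial A := PrimeSpectrum.nonempty_iff_nontrivial.mp inferInstance
  have hX := hmul (Polynomial (Polynomial A)) (Polynomial.C Polynomial.X) Polynomial.X
  have hl : ∀ (p : Polynomial A) (j : ℕ),
      (Polynomial.aeval (Polynomial.C Polynomial.X * Polynomial.X : Polynomial (Polynomial A)) p).coeff j =
        Polynomial.monomial j (p.coeff j) := by
    intro p j
    induction p using Polynomial.induction_on' with
    | add p q hp hq => simp [hp, hq]
    | monomial n a =>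
      rw [Polynomial.aeval_monomial, mul_pow, ← Polynomial.C_pow, IsScalarTower.algebraMap_apply A (Polynomial A) (Polynomial (Polynomial A)),
        Polynomial.algebraMap_eq, Polynomial.algebraMap_eq, ← mul_assoc, ← map_mul, Polynomial.coeff_C_mul, Polynomial.coeff_X_pow,
        Polynomial.coeff_monomial]
      split_ifs with h1 h2 h2
      · subst h1; rw [mul_one, Polynomial.C_mul_X_pow_eq_monomial]
      · exact absurd h1.symm h2
      · exact absurd h2.symm h1
      · simp
  have hr1' : ∀ q : Polynomial A, Polynomial.aeval (Polynomial.C Polynomial.X : Polynomial (Polynomial A)) q = Polynomial.C q := by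
    intro q
    induction q using Polynomial.induction_on' with
    | add p q hp hq => simp only [map_add, hp, hq]
    | monomial n a =>
      rw [Polynomial.aeval_monomial, IsScalarTower.algebraMap_apply A (Polynomial A) (Polynomial (Polynomial A)),
        Polynomial.algebraMap_eq, Polynomial.algebraMap_eq, ← Polynomial.C_pow, ← map_mul, Polynomial.C_mul_X_pow_eq_monomial]
  have hr1 := hr1' u
  have hr2 : ∀ j, (Polynomial.aeval (Polynomial.X : Polynomial (Polynomial A)) u).coeff j = Polynomial.C (u.coeff j) := by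
    intro j
    clear hX hr1 h1 hmul
    induction u using Polynomial.induction_on' with
    | add p q hp hq => simp [hp, hq]
    | monomial n a =>
      rw [Polynomial.aeval_monomial, IsScalarTower.algebraMap_apply A (Polynomial A) (Polynomial (Polynomial A)),
        Polynomial.algebraMap_eq, Polynomial.algebraMap_eq, Polynomial.coeff_C_mul, Polynomial.coeff_X_pow, Polynomial.coeff_monomial]
      split_ifs with h1 h2 h2
      · rw [mul_one]
      · exact absurd h1.symm h2
      · exact absurd h2.symm h1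
      · simp
  have hcoef : ∀ i j, u.coeff i * u.coeff j = if i = j then u.coeff i else 0 := by
    intro i j
    have h := congrArg (fun p : Polynomial (Polynomial A) => (p.coeff j).coeff i) hX
    simp only [hl, hr1, Polynomial.coeff_C_mul, hr2, Polynomial.coeff_monomial, Polynomial.coeff_mul_C] at h
    rw [← h]
    split_ifs with h1 h2 h2
    · rw [h1]
    · exact absurd h1.symm h2
    · exact absurd h2.symm h1
    · rfl
  have hidem : ∀ i, u.coeff i = 0 ∨ u.coeff i = 1 := fun i => by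
    have hi : IsIdempotentElem (u.coeff i) := (hcoef i i).trans (if_pos rfl)
    have hc : IsClopen (PrimeSpectrum.basicOpen (u.coeff i) : Set (PrimeSpectrum A)) :=
      PrimeSpectrum.isClopen_basicOpen_of_mul_add (u.coeff i) (1 - u.coeff i) (by rw [mul_sub, mul_one, hi.eq, sub_self])
        (add_sub_cancel _ _)
    rcases isClopen_iff.mp hc with h | h
    · left
      obtain ⟨k, hk⟩ := (PrimeSpectrum.basicOpen_eq_bot_iff _).mp (TopologicalSpace.Opens.coe_eq_empty.mp h)
      cases k with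
      | zero => simp at hk
      | succ k => rwa [hi.pow_succ_eq] at hk
    · right
      by_contra hne
      obtain ⟨P, hP, hle⟩ := Ideal.exists_le_maximal (Ideal.span {u.coeff i}) (by
        rw [Ne, Ideal.span_singleton_eq_top]
        intro hunit
        exact hne ((IsIdempotentElem.iff_eq_one_of_isUnit hunit).mp hi))
      have : (⟨P, hP.isPrime⟩ : PrimeSpectrum A) ∈ (PrimeSpectrum.basicOpen (u.coeff i) : Set (PrimeSpectrum A)) := by
        rw [h]; trivial
      exact this (hle (Ideal.mem_span_singleton_self _))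
  obtain ⟨n, hn⟩ : ∃ n, u.coeff n = 1 := by
    by_contra hcon
    push Not at hcon
    have : u = 0 := Polynomial.ext fun i => (hidem i).resolve_right (hcon i)
    rw [this, Polynomial.eval_zero] at h1
    exact zero_ne_one h1
  refine ⟨n, Polynomial.ext fun i => ?_⟩
  rw [Polynomial.coeff_X_pow]
  split_ifs with h
  · rw [h, hn]
  · refine (hidem i).resolve_right fun hi => ?_
    have := hcoef i n
    rw [hi, hn, if_neg h, mul_one] at this
    exact one_ne_zero this

theorem tmul_one_eta {S : Type u} [CommSemiring S] [Algebra A S] (y : S ⊗[A] A) :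
    y = (TensorProduct.rid A S y) ⊗ₜ[A] (1 : A) := by
  rw [← TensorProduct.rid_symm_apply, LinearEquiv.symm_apply_apply]

/-- The polynomial of a one-parameter family. -/
theorem exists_pow (ε ε' : B₁ × B₂) (hε : ε * ε = ε) (hε' : ε' * ε' = ε') (hεε : ε * ε' = 0) (hsum : ε + ε' = 1)
    [ConnectedSpace (PrimeSpectrum A)] :
    ∃ n, ∀ (S : Type u) [CommSemiring S] [Algebra A S] (s : S),
      F.law.toFun' S (s ⊗ₜ[A] ε + (1 : S) ⊗ₜ[A] ε') = (s ^ n) ⊗ₜ[A] (1 : A) := by
  let u : Polynomial A := TensorProduct.rid A (Polynomial A)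
    (F.law.toFun' (Polynomial A) ((Polynomial.X : Polynomial A) ⊗ₜ[A] ε + (1 : Polynomial A) ⊗ₜ[A] ε'))
  have hu : ∀ (S : Type u) [CommSemiring S] [Algebra A S] (s : S),
      F.law.toFun' S (s ⊗ₜ[A] ε + (1 : S) ⊗ₜ[A] ε') = (Polynomial.aeval s u) ⊗ₜ[A] (1 : A) := by
    intro S _ _ s
    have h := F.law.isCompat_apply' (Polynomial.aeval s : Polynomial A →ₐ[A] S)
      ((Polynomial.X : Polynomial A) ⊗ₜ[A] ε + (1 : Polynomial A) ⊗ₜ[A] ε')
    rw [tmul_one_eta (F.law.toFun' (Polynomial A) _), map_add, LinearMap.rTensor_tmul, LinearMap.rTensor_tmul,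
      LinearMap.rTensor_tmul] at h
    simp only [AlgHom.toLinearMap_apply, Polynomial.aeval_X, map_one] at h
    exact h.symm
  have hrid : ∀ {S : Type u} [CommSemiring S] [Algebra A S] {a b : S}, a ⊗ₜ[A] (1 : A) = b ⊗ₜ[A] (1 : A) → a = b :=
    fun {S} _ _ {a b} h => by simpa using congrArg (TensorProduct.rid A S) h
  obtain ⟨n, hn⟩ := exists_eq_X_pow (A := A) u (hrid (S := A) (by
      rw [← show Polynomial.aeval (1 : A) u = u.eval 1 from (Polynomial.coe_aeval_eq_eval (1 : A) ▸ rfl)]
      rw [← hu, ← TensorProduct.tmul_add, hsum, ← Algebra.TensorProduct.one_def, (F.mult A).1]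
      rfl))
    (fun S _ _ s t => hrid (by
      rw [← hu, show ((Polynomial.aeval s u) * (Polynomial.aeval t u)) ⊗ₜ[A] (1 : A) =
        (Polynomial.aeval s u ⊗ₜ[A] (1 : A)) * (Polynomial.aeval t u ⊗ₜ[A] (1 : A)) by simp, ← hu, ← hu, ← (F.mult S).2]
      congr 1
      simp [add_mul, mul_add, hε, hε', hεε, mul_comm ε' ε]))
  exact ⟨n, fun S _ _ s => by rw [hu, hn, map_pow, Polynomial.aeval_X]⟩

end Groth.Agent.DivPow.ProdLaw
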