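import Groth.Agent.DivPow.Fin
import Groth.Agent.GeomRedPull.Basic

/-!
# Geometrically reduced tensor powers
-/

set_option autoImplicit false
universe u

open scoped TensorProduct

namespace Groth.Agent.DivPow

variable (A : Type u) [CommRing A] (B : Type u) [CommRing B] [Algebra A B]

theorem splitLast_one (d : ℕ) : splitLast A d B 1 = 1 := by
  rw [PiTensorProduct.one_def, splitLast_tprod]
  rfl

theorem splitLast_mul (d : ℕ) (x y : ⨂[A] _ : Fin (d + 1), B) :
    splitLast A d B (x * y) = splitLast A d B x * splitLast A d B y := by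
  induction x using PiTensorProduct.induction_on with
  | smul_tprod r f =>
    induction y using PiTensorProduct.induction_on with
    | smul_tprod s g =>
      rw [smul_mul_smul_comm, map_smul, map_smul, map_smul, smul_mul_smul_comm, PiTensorProduct.tprod_mul_tprod,
        splitLast_tprod, splitLast_tprod, splitLast_tprod, Algebra.TensorProduct.tmul_mul_tmul,
        PiTensorProduct.tprod_mul_tprod]
      rfl
    | add p q hp hq => rw [mul_add, map_add, map_add, mul_add, hp, hq]
  | add p q hp hq => rw [add_mul, map_add, map_add, add_mul, hp, hq]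

/-- Splitting off the last factor, as algebras. -/
noncomputable def splitAlg (d : ℕ) : (⨂[A] _ : Fin (d + 1), B) ≃ₐ[A] (⨂[A] _ : Fin d, B) ⊗[A] B :=
  AlgEquiv.ofLinearEquiv (splitLast A d B) (splitLast_one A B d) (splitLast_mul A B d)

theorem isReduced_tensorPower (K : Type u) [Field K] [Algebra A K]
    (hred : ∀ (L : Type u) [Field L] [Algebra A L], IsReduced (L ⊗[A] B)) (d : ℕ) :
    IsReduced (K ⊗[A] (⨂[A] _ : Fin d, B)) := by
  induction d with
  | zero =>
    let E : (⨂[A] _ : Fin 0, B) →ₐ[A] A := PiTensorProduct.liftAlgHom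
      (MultilinearMap.constOfIsEmpty A (fun _ : Fin 0 => B) (1 : A)) rfl (fun _ _ => (one_mul (1 : A)).symm)
    have hE : Function.Injective E := by
      have : (E : (⨂[A] _ : Fin 0, B) → A) = (PiTensorProduct.isEmptyEquiv (Fin 0) : _ ≃ₗ[A] A) := by
        funext z
        induction z using PiTensorProduct.induction_on with
        | smul_tprod r f => simp [E]
        | add x y hx hy => simp only [map_add, hx, hy]
      rw [this]
      exact LinearEquiv.injective _
    have hE' : Function.Bijective E := by
      refine ⟨hE, fun a => ⟨a • 1, ?_⟩⟩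
      rw [map_smul, map_one, smul_eq_mul, mul_one]
    have e := (Algebra.TensorProduct.congr (AlgEquiv.refl (R := A) (A₁ := K)) (AlgEquiv.ofBijective E hE')).trans
      ((Algebra.TensorProduct.rid A A K).restrictScalars A)
    exact isReduced_of_injective e e.injective
  | succ d ih =>
    have h1 : ∀ (L : Type u) [Field L] [Algebra K L], IsReduced ((K ⊗[A] B) ⊗[K] L) := by
      intro L _ _
      letI : Algebra A L := ((algebraMap K L).comp (algebraMap A K)).toAlgebra
      haveI : IsScalarTower A K L := IsScalarTower.of_algebraMap_eq' rfl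
      have := hred L
      have e := (Algebra.TensorProduct.comm K (K ⊗[A] B) L).toRingEquiv.trans
        (Algebra.TensorProduct.cancelBaseChange A K K L B).toRingEquiv
      exact isReduced_of_injective e e.injective
    have h2 := GeomRedPull.isReduced_tensor (B := K ⊗[A] B) (C := K ⊗[A] (⨂[A] _ : Fin d, B)) h1
    have e1 := (Algebra.TensorProduct.congr (AlgEquiv.refl (R := A) (A₁ := K)) (splitAlg A B d)).toRingEquiv.trans
      (Algebra.TensorProduct.assoc A A A K (⨂[A] _ : Fin d, B) B).symm.toRingEquiv
    have e2 := (Algebra.TensorProduct.comm K (K ⊗[A] B) (K ⊗[A] (⨂[A] _ : Fin d, B))).toRingEquiv.trans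
      (Algebra.TensorProduct.cancelBaseChange A K K (K ⊗[A] (⨂[A] _ : Fin d, B)) B).toRingEquiv
    exact isReduced_of_injective (e1.trans e2.symm) (e1.trans e2.symm).injective

end Groth.Agent.DivPow
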