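import Mathlib
import Groth.Prelude.Def_PolLaw

/-!
# When the degree-`d` piece of a divided power algebra is spanned by divided powers
-/

set_option autoImplicit false
set_option linter.unusedSectionVars false
universe u

open scoped TensorProduct

namespace Groth.Agent.DivPow.SpanDp

open DividedPowerAlgebra

variable {A M : Type u} [CommRing A] [AddCommGroup M] [Module A M]

/-- The elements that lie in `N` after multiplying by something outside `p`. -/
def loc {X : Type u} [AddCommGroup X] [Module A X] (p : Ideal A) [p.IsPrime] (N : Submodule A X) :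
    Submodule A X where
  carrier := {x | ∃ s ∉ p, s • x ∈ N}
  zero_mem' := ⟨1, p.one_notMem, by simp⟩
  add_mem' := by
    rintro x y ⟨s, hs, hx⟩ ⟨t, ht, hy⟩
    refine ⟨s * t, fun h => (Ideal.IsPrime.mem_or_mem ‹_› h).elim hs ht, ?_⟩
    rw [smul_add]
    refine add_mem ?_ ?_
    · rw [mul_comm, mul_smul]; exact N.smul_mem _ hx
    · rw [mul_smul]; exact N.smul_mem _ hy
  smul_mem' := by
    rintro c x ⟨s, hs, hx⟩
    exact ⟨s, hs, by rw [smul_comm]; exact N.smul_mem _ hx⟩

theorem mem_loc {X : Type u} [AddCommGroup X] [Module A X] {p : Ideal A} [p.IsPrime]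
    {N : Submodule A X} {x : X} (hx : x ∈ N) : x ∈ loc p N :=
  ⟨1, p.one_notMem, by simpa using hx⟩

theorem exists_rep (p : Ideal A) [p.IsPrime] (l : p.ResidueField) : ∃ bc : A × A, bc.1 ∉ p ∧
    l * algebraMap A p.ResidueField bc.1 = algebraMap A p.ResidueField bc.2 := by
  obtain ⟨⟨c, b⟩, h⟩ := IsLocalization.surj (nonZeroDivisors (A ⧸ p)) l
  obtain ⟨c', rfl⟩ := Ideal.Quotient.mk_surjective c
  obtain ⟨b', hb'⟩ := Ideal.Quotient.mk_surjective (b : A ⧸ p)
  refine ⟨(b', c'), fun hm => nonZeroDivisors.ne_zero b.2 ?_, ?_⟩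
  · rw [← hb', Ideal.Quotient.eq_zero_iff_mem]; exact hm
  · simpa [← hb'] using h

/-- Two divided powers are locally combinations of a single one. -/
theorem merge (p : Ideal A) [p.IsPrime] (N : Submodule A (DividedPowerAlgebra A M))
    (k l : ℕ) (hcard : ((k + l : ℕ) : Cardinal) ≤ Cardinal.mk p.ResidueField) (u v : M)
    (r : DividedPowerAlgebra A M) (hN : ∀ w, dp A (k + l) w * r ∈ loc p N) :
    dp A k u * dp A l v * r ∈ loc p N := by
  classical
  rcases l with _ | j0
  · rw [dp_zero, mul_one]; exact hN u
  rcases k with _ | k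
  · rw [dp_zero, one_mul]; simpa using hN v
  set f := k + 1 + j0 with hf
  have he : k + 1 + (j0 + 1) = f + 1 := by omega
  rw [he] at hcard hN
  obtain ⟨g⟩ : Nonempty (Fin (f + 1) ↪ p.ResidueField) := by
    rw [← Cardinal.lift_mk_le']
    simpa using hcard
  set g' : Fin (f + 1) → p.ResidueField := fun i => g i - g 0 with hg'
  have hlam : ∀ i : Fin f, g' i.succ ≠ 0 := fun i h =>
    Fin.succ_ne_zero i (g.injective (sub_eq_zero.mp h))
  choose bc hb hbc using fun i : Fin f => exists_rep p (g' i.succ)
  let V : Matrix (Fin f) (Fin f) A :=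
    Matrix.of fun i j => (bc i).2 ^ ((j : ℕ) + 1) * (bc i).1 ^ (f - (j : ℕ))
  let y : Fin f → DividedPowerAlgebra A M := fun j =>
    dp A ((j : ℕ) + 1) v * dp A (f - (j : ℕ)) u * r
  have hz : ∀ i, ∑ j, V i j • y j ∈ loc p N := by
    intro i
    have h := hN ((bc i).2 • v + (bc i).1 • u)
    rw [dp_add, Finset.Nat.sum_antidiagonal_eq_sum_range_succ_mk, Finset.sum_range_succ,
      Finset.sum_range_succ', add_mul, add_mul, Finset.sum_mul, ← Fin.sum_univ_eq_sum_range] at h
    simp only [dp_smul, Nat.sub_self, dp_zero, pow_zero, one_smul, mul_one, one_mul, Nat.sub_zero,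
      smul_mul_smul_comm, smul_mul_assoc] at h
    rw [Submodule.add_mem_iff_left _ (Submodule.smul_mem _ _ (hN v)),
      Submodule.add_mem_iff_left _ (Submodule.smul_mem _ _ (hN u))] at h
    convert h using 1
    refine Finset.sum_congr rfl fun j _ => ?_
    simp only [V, y, Matrix.of_apply, Nat.succ_sub_succ, mul_smul_comm, smul_mul_assoc, smul_smul]
  have hdet : V.det ∉ p := by
    intro hmem
    have h0 := Ideal.algebraMap_residueField_eq_zero.mpr hmem
    rw [RingHom.map_det] at h0
    have hmat : (algebraMap A p.ResidueField).mapMatrix V = Matrix.diagonal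
        (fun i : Fin f => algebraMap A p.ResidueField (bc i).1 ^ (f + 1) * g' i.succ) *
        Matrix.vandermonde fun i : Fin f => g' i.succ := by
      ext i j
      simp only [RingHom.mapMatrix_apply, Matrix.map_apply, V, Matrix.of_apply, map_mul, map_pow,
        ← hbc, Matrix.diagonal_mul, Matrix.vandermonde_apply]
      rw [mul_pow, mul_assoc, ← pow_add, show (j : ℕ) + 1 + (f - j) = f + 1 by omega, pow_succ']
      ring
    rw [hmat, Matrix.det_mul, Matrix.det_diagonal, mul_eq_zero] at h0
    rcases h0 with h0 | h0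
    · obtain ⟨i, -, hi⟩ := Finset.prod_eq_zero_iff.mp h0
      exact mul_ne_zero (pow_ne_zero _ fun h => hb i (Ideal.algebraMap_residueField_eq_zero.mp h))
        (hlam i) hi
    · exact Matrix.det_vandermonde_ne_zero_iff.mpr
        (fun a b h => Fin.succ_injective _ (g.injective (sub_left_injective h))) h0
  have hadj : ∀ j, V.det • y j = ∑ i, V.adjugate j i • ∑ j', V i j' • y j' := by
    intro j
    simp only [Finset.smul_sum, smul_smul]
    rw [Finset.sum_comm]
    simp only [← Finset.sum_smul, ← Matrix.mul_apply, Matrix.adjugate_mul, Matrix.smul_apply,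
      Matrix.one_apply, smul_eq_mul, mul_ite, mul_one, mul_zero, ite_smul, zero_smul,
      Finset.sum_ite_eq, Finset.mem_univ, if_true]
  have hj : j0 < f := by omega
  obtain ⟨s, hs, hmem⟩ : V.det • y ⟨j0, hj⟩ ∈ loc p N := by
    rw [hadj]
    exact Submodule.sum_mem _ fun i _ => Submodule.smul_mem _ _ (hz i)
  refine ⟨s * V.det, fun h => (Ideal.IsPrime.mem_or_mem ‹_› h).elim hs hdet, ?_⟩
  rw [mul_smul]
  convert hmem using 3
  simp only [y, show f - j0 = k + 1 by omega, mul_comm (dp A (k + 1) u)]

variable (A M) in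
theorem prod_mem_loc (d : ℕ) (p : Ideal A) [p.IsPrime]
    (hcard : (d : Cardinal) ≤ Cardinal.mk p.ResidueField) :
    ∀ (n : ℕ) (k : Fin n → ℕ) (m : Fin n → M), (∑ i, k i) = d →
      ∏ i, dp A (k i) (m i) ∈
        loc p (Submodule.span A (Set.range (dp A d : M → DividedPowerAlgebra A M))) := by
  intro n
  induction n with
  | zero =>
    intro k m hd
    simp only [Finset.univ_eq_empty, Finset.sum_empty] at hd
    subst hd
    exact mem_loc (Submodule.subset_span ⟨0, by simp [dp_zero]⟩)
  | succ n ih =>
    intro k m hd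
    rcases n with _ | n
    · simp at hd
      exact mem_loc (Submodule.subset_span ⟨m 0, by simp [hd]⟩)
    rw [Fin.prod_univ_succ, Fin.prod_univ_succ, ← mul_assoc]
    rw [Fin.sum_univ_succ, Fin.sum_univ_succ, ← add_assoc] at hd
    refine merge p _ _ _ (le_trans ?_ hcard) _ _ _ fun w => ?_
    · exact Nat.cast_le.mpr (by omega)
    · have h := ih (Fin.cons (k 0 + k (Fin.succ 0)) fun i => k i.succ.succ)
        (Fin.cons w fun i => m i.succ.succ) (by rw [Fin.sum_univ_succ]; simpa using hd)
      rw [Fin.prod_univ_succ] at h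
      simpa using h

theorem span_eq_gammaPiece (d : ℕ) (h : ∀ p : PrimeSpectrum A,
    (d : Cardinal) ≤ Cardinal.mk p.asIdeal.ResidueField ∨
      ∃ x : LocalizedModule p.asIdeal.primeCompl M,
        Submodule.span (Localization.AtPrime p.asIdeal) {x} = ⊤) :
    Submodule.span A (Set.range (dp A d : M → DividedPowerAlgebra A M)) =
      PolLaw.gammaPiece A M d := by
  classical
  refine le_antisymm (Submodule.span_mono ?_) (Submodule.span_le.mpr ?_)
  · rintro _ ⟨m, rfl⟩
    exact ⟨1, fun _ => d, fun _ => m, by simp, by simp⟩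
  rintro _ ⟨n, k, m, hd, rfl⟩
  set S := Submodule.span A (Set.range (dp A d : M → DividedPowerAlgebra A M))
  suffices ∀ p : PrimeSpectrum A, ∏ i, dp A (k i) (m i) ∈ loc p.asIdeal S by
    rw [SetLike.mem_coe]
    by_contra hx
    let I : Ideal A := S.colon {∏ i, dp A (k i) (m i)}
    have hI : I ≠ ⊤ := by
      intro h1
      refine hx ?_
      have := Submodule.mem_colon_singleton.mp ((Ideal.eq_top_iff_one I).mp h1)
      simpa using this
    obtain ⟨q, hq, hIq⟩ := Ideal.exists_le_maximal I hI
    obtain ⟨s, hs, hsx⟩ := this ⟨q, hq.isPrime⟩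
    exact hs (hIq (Submodule.mem_colon_singleton.mpr hsx))
  intro p
  rcases h p with hcard | ⟨x, hx⟩
  · exact prod_mem_loc A M d p.asIdeal hcard n k m hd
  obtain ⟨m0, t, rfl⟩ : ∃ m0 t, LocalizedModule.mk m0 t = x := by
    induction x using LocalizedModule.induction_on with
    | h m0 t => exact ⟨m0, t, rfl⟩
  have hgen : ∀ y : M, ∃ s a : A, s ∉ p.asIdeal ∧ s • y = a • m0 := by
    intro y
    have hy : LocalizedModule.mk y 1 ∈ (⊤ : Submodule (Localization.AtPrime p.asIdeal)
      (LocalizedModule p.asIdeal.primeCompl M)) := trivial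
    rw [← hx] at hy
    obtain ⟨c, hc⟩ := Submodule.mem_span_singleton.mp hy
    induction c using Localization.induction_on with
    | H cs =>
      obtain ⟨a, s⟩ := cs
      simp only [LocalizedModule.mk_smul_mk, LocalizedModule.mk_eq] at hc
      obtain ⟨v, hv⟩ := hc
      simp only [Submonoid.smul_def, one_smul, smul_smul, OneMemClass.coe_one] at hv
      exact ⟨v * (s * t : p.asIdeal.primeCompl), v * a, (v * (s * t)).2,
        by simpa [mul_assoc] using hv.symm⟩
  choose s a hs hsa using hgen
  refine ⟨∏ i, s (m i) ^ k i, fun hmem => ?_, ?_⟩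
  · obtain ⟨i, -, hi⟩ := Ideal.IsPrime.prod_mem_iff.mp hmem
    exact hs _ (p.isPrime.mem_of_pow_mem _ hi)
  · rw [← Finset.prod_smul, Finset.prod_congr rfl fun i _ => by
      rw [← dp_smul, hsa, dp_smul], Finset.prod_smul, prod_dp, hd, ← nsmul_eq_mul]
    exact Submodule.smul_mem _ _ (Submodule.smul_of_tower_mem _ _ (Submodule.subset_span ⟨m0, rfl⟩))

section Converse

variable {K : Type u} [Field K] [Algebra A K]

/-- Elementary symmetric expressions in square-zero slots. -/
noncomputable def esym {R : Type u} [CommRing R] {ι : Type} [DecidableEq ι] (L : ι → R) (S : Finset ι)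
    (n : ℕ) : R :=
  ∑ s ∈ S.powersetCard n, ∏ i ∈ s, L i

theorem esym_zero {R : Type u} [CommRing R] {ι : Type} [DecidableEq ι] (L : ι → R) (S : Finset ι) :
    esym L S 0 = 1 := by simp [esym]

theorem esym_empty {R : Type u} [CommRing R] {ι : Type} [DecidableEq ι] (L : ι → R) {n : ℕ}
    (hn : 0 < n) : esym L ∅ n = 0 := by
  rw [esym, Finset.powersetCard_eq_empty.mpr (by simpa using hn), Finset.sum_empty]

theorem esym_insert {R : Type u} [CommRing R] {ι : Type} [DecidableEq ι] (L : ι → R) {S : Finset ι}
    {i : ι} (hi : i ∉ S) (n : ℕ) :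
    esym L (insert i S) (n + 1) = esym L S (n + 1) + L i * esym L S n := by
  rw [esym, Finset.powersetCard_succ_insert hi, Finset.sum_union, Finset.sum_image, esym, esym,
    Finset.mul_sum]
  · congr 1
    refine Finset.sum_congr rfl fun s hs => ?_
    rw [Finset.prod_insert fun h => hi ((Finset.mem_powersetCard.mp hs).1 h)]
  · intro s hs t ht hst
    have hs' : i ∉ s := fun h => hi ((Finset.mem_powersetCard.mp hs).1 h)
    have ht' : i ∉ t := fun h => hi ((Finset.mem_powersetCard.mp ht).1 h)
    rw [← Finset.erase_insert hs', ← Finset.erase_insert ht']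
    exact congrArg (·.erase i) hst
  · rw [Finset.disjoint_left]
    rintro s hs hs2
    obtain ⟨t, -, rfl⟩ := Finset.mem_image.mp hs2
    exact hi ((Finset.mem_powersetCard.mp hs).1 (Finset.mem_insert_self _ _))

theorem esym_mul {R : Type u} [CommRing R] {ι : Type} [DecidableEq ι] (L : ι → R)
    (hL : ∀ i, L i * L i = 0) (S : Finset ι) :
    ∀ n p, esym L S n * esym L S p = (n + p).choose n • esym L S (n + p) := by
  induction S using Finset.induction_on with
  | empty =>
    intro n p
    rcases n with _ | n
    · simp [esym_zero]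
    · rw [esym_empty L (Nat.succ_pos n), zero_mul, esym_empty L (by omega), smul_zero]
  | @insert i S hi ih =>
    intro n p
    rcases n with _ | n
    · simp [esym_zero]
    rcases p with _ | p
    · simp [esym_zero]
    rw [esym_insert L hi, esym_insert L hi, show n + 1 + (p + 1) = (n + p + 1) + 1 by omega,
      esym_insert L hi]
    have h1 := ih (n + 1) (p + 1)
    have h2 := ih n (p + 1)
    have h3 := ih (n + 1) p
    rw [show n + 1 + (p + 1) = n + p + 1 + 1 by omega] at h1
    rw [show n + (p + 1) = n + p + 1 by omega] at h2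
    rw [show n + 1 + p = n + p + 1 by omega] at h3
    have hch : ((n + p + 1 + 1).choose (n + 1) : R) =
        ((n + p + 1).choose n : R) + ((n + p + 1).choose (n + 1) : R) := by
      rw [Nat.choose_succ_succ', Nat.cast_add]
    rw [nsmul_eq_mul] at *
    linear_combination h1 + L i * h2 + L i * h3 + esym L S n * esym L S p * hL i
      - L i * esym L S (n + p + 1) * hch

theorem esym_eq_coeff {R : Type u} [CommRing R] {ι : Type} [DecidableEq ι] (L : ι → R) (S : Finset ι) :
    ∀ n, esym L S n = (∏ i ∈ S, (1 + Polynomial.C (L i) * Polynomial.X)).coeff n := by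
  induction S using Finset.induction_on with
  | empty =>
    intro n
    rcases n with _ | n
    · simp [esym_zero]
    · rw [esym_empty L (Nat.succ_pos n)]; simp [Polynomial.coeff_one]
  | @insert i S hi ih =>
    intro n
    rw [Finset.prod_insert hi, add_mul, one_mul, mul_assoc]
    rcases n with _ | n
    · rw [esym_zero, Polynomial.coeff_add, Polynomial.coeff_C_mul, Polynomial.mul_coeff_zero,
        Polynomial.coeff_X_zero, zero_mul, mul_zero, add_zero, ← ih, esym_zero]
    · rw [esym_insert L hi, Polynomial.coeff_add, Polynomial.coeff_C_mul, Polynomial.coeff_X_mul, ih, ih]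

theorem esym_add {R : Type u} [CommRing R] {ι : Type} [DecidableEq ι] (L L' : ι → R)
    (hL : ∀ i, L i * L' i = 0) (S : Finset ι) (n : ℕ) :
    esym (L + L') S n =
      ∑ k ∈ Finset.HasAntidiagonal.antidiagonal n, esym L S k.1 * esym L' S k.2 := by
  simp only [esym_eq_coeff]
  rw [← Polynomial.coeff_mul, ← Finset.prod_mul_distrib]
  congr 1
  refine Finset.prod_congr rfl fun i _ => ?_
  have h : Polynomial.C (L i) * Polynomial.C (L' i) = 0 := by rw [← map_mul, hL, map_zero]
  rw [Pi.add_apply, map_add]
  linear_combination (-(Polynomial.X ^ 2 : Polynomial R)) * h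

theorem esym_smul {R : Type u} [CommRing R] {ι : Type} [DecidableEq ι] (c : R) (L : ι → R)
    (S : Finset ι) (n : ℕ) : esym (fun i => c * L i) S n = c ^ n * esym L S n := by
  rw [esym, esym, Finset.mul_sum]
  refine Finset.sum_congr rfl fun s hs => ?_
  rw [Finset.prod_mul_distrib, Finset.prod_const, (Finset.mem_powersetCard.mp hs).2]

/-- The square-zero relations in `2 d` slot variables. -/
noncomputable def slotIdeal (K : Type u) [Field K] (d : ℕ) : Ideal (MvPolynomial (Fin d × Bool) K) :=
  Ideal.span ((fun s => MvPolynomial.monomial s (1 : K)) '' Set.range fun x : Fin d × Bool × Bool =>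
    Finsupp.single (x.1, x.2.1) 1 + Finsupp.single (x.1, x.2.2) 1)

/-- The multi-index choosing `true` exactly in the slots of `T`. -/
noncomputable def pat {d : ℕ} (T : Finset (Fin d)) : (Fin d × Bool) →₀ ℕ :=
  ∑ i, Finsupp.single (i, decide (i ∈ T)) 1

theorem pat_apply {d : ℕ} (T : Finset (Fin d)) (i : Fin d) (b : Bool) :
    pat T (i, b) = if decide (i ∈ T) = b then 1 else 0 := by
  classical
  rw [pat, Finsupp.finset_sum_apply, Finset.sum_eq_single i (fun j _ hji => by
    simp [Finsupp.single_apply, hji]) (by simp)]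
  simp [Finsupp.single_apply]

/-- A pattern coefficient kills the square-zero relations. -/
theorem coeff_pat_eq_zero {d : ℕ} (T : Finset (Fin d)) {P : MvPolynomial (Fin d × Bool) K}
    (hP : P ∈ slotIdeal K d) : P.coeff (pat T) = 0 := by
  classical
  by_contra hne
  obtain ⟨_, ⟨⟨i, b, c⟩, rfl⟩, hle⟩ :=
    MvPolynomial.mem_ideal_span_monomial_image.mp hP (pat T) (MvPolynomial.mem_support_iff.mpr hne)
  have h1 := hle (i, b)
  have h2 := hle (i, c)
  simp only [Finsupp.add_apply, Finsupp.single_apply, pat_apply, Prod.mk.injEq, true_and] at h1 h2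
  revert h1 h2
  cases decide (i ∈ T) <;> cases b <;> cases c <;> simp

/-- The coefficient of a pattern in a product of slot forms. -/
theorem coeff_pat_prod {d : ℕ} (a b : Fin d → K) (T : Finset (Fin d)) :
    (∏ i, (MvPolynomial.C (a i) * MvPolynomial.X (i, false) +
      MvPolynomial.C (b i) * MvPolynomial.X (i, true))).coeff (pat T) =
      ∏ i, if i ∈ T then b i else a i := by
  classical
  rw [Fintype.prod_add]
  rw [MvPolynomial.coeff_sum]
  have hpi : ∀ U : Finset (Fin d),
      (∏ i ∈ U, MvPolynomial.C (a i) * MvPolynomial.X (i, false)) *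
        (∏ i ∈ Uᶜ, MvPolynomial.C (b i) * MvPolynomial.X (i, true)) =
      MvPolynomial.monomial (pat Uᶜ) (∏ i, if i ∈ Uᶜ then b i else a i) := by
    intro U
    have h1 : ∀ i, (if i ∈ U then MvPolynomial.C (a i) * MvPolynomial.X (i, false)
        else MvPolynomial.C (b i) * MvPolynomial.X (i, true)) =
        MvPolynomial.monomial (Finsupp.single (i, decide (i ∈ Uᶜ)) 1) (if i ∈ Uᶜ then b i else a i) := by
      intro i
      by_cases hi : i ∈ U <;> simp [hi, MvPolynomial.C_mul_X_eq_monomial]
    rw [pat, MvPolynomial.monomial_sum_index, map_prod, ← Finset.prod_mul_distrib,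
      ← Finset.prod_mul_prod_compl U]
    congr 1 <;> refine Finset.prod_congr rfl fun i hi => ?_ <;> have := h1 i
    · rw [if_pos hi] at this; rw [this, MvPolynomial.C_mul_monomial, mul_one]
    · rw [if_neg (Finset.mem_compl.mp hi)] at this; rw [this, MvPolynomial.C_mul_monomial, mul_one]
  simp only [hpi, MvPolynomial.coeff_monomial]
  rw [Finset.sum_eq_single Tᶜ]
  · simp
  · intro U _ hU
    rw [if_neg]
    intro h
    refine hU (Finset.ext fun i => ?_)
    have := DFunLike.congr_fun h (i, true)
    simp only [pat_apply, Finset.mem_compl, decide_eq_true_eq] at this ⊢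
    split_ifs at this <;> simp_all
  · simp

/-- If there are few scalars, two independent vectors obstruct spanning by divided powers. -/
theorem not_span_eq (d q : ℕ) (hq : 2 ≤ q) (hqd : q < d) (hK : ∀ x : K, x ^ q = x)
    (lam mu : M →ₗ[A] K) (m0 m1 : M) (h00 : lam m0 = 1) (h01 : mu m0 = 0) (h10 : lam m1 = 0)
    (h11 : mu m1 = 1) :
    Submodule.span A (Set.range (dp A d : M → DividedPowerAlgebra A M)) ≠
      PolLaw.gammaPiece A M d := by
  classical
  let P := MvPolynomial (Fin d × Bool) K
  let L : M → Fin d → P := fun m i =>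
    MvPolynomial.C (lam m) * MvPolynomial.X (i, false) + MvPolynomial.C (mu m) * MvPolynomial.X (i, true)
  let mk : P →ₐ[A] P ⧸ slotIdeal K d := Ideal.Quotient.mkₐ A (slotIdeal K d)
  let Lb : M → Fin d → P ⧸ slotIdeal K d := fun m i => mk (L m i)
  have hX : ∀ (i : Fin d) (b c : Bool), mk (MvPolynomial.X (i, b)) * mk (MvPolynomial.X (i, c)) = 0 := by
    intro i b c
    rw [← map_mul]
    refine Ideal.Quotient.eq_zero_iff_mem.mpr (Ideal.subset_span ⟨_, ⟨(i, b, c), rfl⟩, ?_⟩)
    show MvPolynomial.monomial _ (1 : K) = _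
    rw [MvPolynomial.X, MvPolynomial.X, MvPolynomial.monomial_mul, one_mul]
  have hLL : ∀ m m' i, Lb m i * Lb m' i = 0 := by
    intro m m' i
    simp only [Lb, L, map_add, map_mul]
    linear_combination (mk (MvPolynomial.C (lam m)) * mk (MvPolynomial.C (lam m'))) * hX i false false +
      (mk (MvPolynomial.C (lam m)) * mk (MvPolynomial.C (mu m'))) * hX i false true +
      (mk (MvPolynomial.C (mu m)) * mk (MvPolynomial.C (lam m'))) * hX i true false +
      (mk (MvPolynomial.C (mu m)) * mk (MvPolynomial.C (mu m'))) * hX i true true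
  let F := lift' (R := A) (M := M) (f := fun nm => esym (Lb nm.2) Finset.univ nm.1)
    (fun m => esym_zero _ _)
    (fun n r m => by
      show esym (Lb (r • m)) _ n = r ^ n • esym (Lb m) _ n
      rw [Algebra.smul_def (r ^ n) (esym (Lb m) Finset.univ n), map_pow, ← esym_smul]
      congr 1
      funext i
      simp only [Lb, ← map_mul, ← AlgHom.commutes mk, L]
      congr 1
      rw [show algebraMap A P r = MvPolynomial.C (algebraMap A K r) from rfl]
      simp only [map_smul, Algebra.smul_def, map_mul]
      ring)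
    (fun n p m => esym_mul (Lb m) (fun i => hLL m m i) _ n p)
    (fun n u v => by
      show esym (Lb (u + v)) _ n = _
      rw [← esym_add (Lb u) (Lb v) (fun i => hLL u v i)]
      congr 1
      funext i
      simp only [Lb, L, Pi.add_apply, ← map_add]
      congr 1
      simp only [map_add]
      ring)
  obtain ⟨T1, hT1⟩ : ∃ T : Finset (Fin d), T.card = 1 := ⟨{⟨0, by omega⟩}, by simp⟩
  obtain ⟨Tq, -, hTq⟩ := Finset.exists_subset_card_eq (s := (Finset.univ : Finset (Fin d))) (n := q)
    (by simp; omega)
  let psi : (P ⧸ slotIdeal K d) →ₗ[A] K :=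
    Submodule.liftQ ((slotIdeal K d).restrictScalars A)
      (((MvPolynomial.lcoeff K (pat T1)) - (MvPolynomial.lcoeff K (pat Tq))).restrictScalars A)
      (fun P hP => by
        simp [LinearMap.mem_ker, coeff_pat_eq_zero T1 hP, coeff_pat_eq_zero Tq hP]) ∘ₗ
      (Submodule.Quotient.restrictScalarsEquiv A (slotIdeal K d)).symm.toLinearMap
  have hpsi : ∀ P, psi (mk P) = P.coeff (pat T1) - P.coeff (pat Tq) := fun P => rfl
  have htop : ∀ m, esym (Lb m) Finset.univ d = mk (∏ i, L m i) := by
    intro m
    have hps : Finset.powersetCard d (Finset.univ : Finset (Fin d)) = {Finset.univ} := by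
      simpa using Finset.powersetCard_self (Finset.univ : Finset (Fin d))
    rw [esym, map_prod, hps, Finset.sum_singleton]
  have hkill : ∀ x ∈ Submodule.span A (Set.range (dp A d : M → DividedPowerAlgebra A M)),
      psi (F x) = 0 := by
    intro x hx
    induction hx using Submodule.span_induction with
    | zero => simp
    | add x y _ _ hx hy => simp [hx, hy]
    | smul c x _ hx => simp [hx]
    | mem x hx =>
      obtain ⟨m, rfl⟩ := hx
      rw [lift'_apply_dp, htop, hpsi, coeff_pat_prod, coeff_pat_prod]
      simp only [Finset.prod_ite, Finset.prod_const, Finset.filter_univ_mem, hT1, hTq,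
        Finset.filter_notMem_eq_sdiff, Finset.card_univ_diff, Fintype.card_fin]
      rw [sub_eq_zero, pow_one, hK]
      rcases eq_or_ne (lam m) 0 with h0 | h0
      · rw [h0, zero_pow (by omega), zero_pow (by omega)]
      · congr 1
        rw [show d - 1 = (d - q) + (q - 1) by omega, pow_add]
        have : lam m ^ (q - 1) = 1 := by
          refine mul_right_cancel₀ h0 ?_
          rw [← pow_succ, one_mul, show q - 1 + 1 = q by omega, hK]
        rw [this, mul_one]
  intro heq
  have hmem : dp A (d - 1) m0 * dp A 1 m1 ∈ PolLaw.gammaPiece A M d :=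
    Submodule.subset_span ⟨2, ![d - 1, 1], ![m0, m1], by simp; omega, by simp [Fin.prod_univ_two]⟩
  have h := hkill _ (heq ▸ hmem)
  rw [map_mul, lift'_apply_dp, lift'_apply_dp] at h
  simp only [esym, Finset.powersetCard_one, Finset.sum_map, Function.Embedding.coeFn_mk,
    Finset.prod_singleton] at h
  rw [Finset.sum_mul_sum] at h
  simp only [Lb, L, h00, h01, h10, h11, ← map_prod, ← map_mul, ← map_sum, hpsi, map_zero, map_one,
    zero_mul, one_mul, add_zero, zero_add, MvPolynomial.coeff_sum] at h
  have hmon : ∀ (s : Finset (Fin d)) (j : Fin d),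
      (∏ i ∈ s, (MvPolynomial.X (i, false) : P)) * MvPolynomial.X (j, true) =
      MvPolynomial.monomial (∑ i ∈ s, Finsupp.single (i, false) 1 + Finsupp.single (j, true) 1) 1 := by
    intro s j
    simp only [MvPolynomial.X, ← MvPolynomial.monomial_sum_one, MvPolynomial.monomial_mul, one_mul]
  simp only [hmon] at h
  simp only [P, MvPolynomial.coeff_sum, MvPolynomial.coeff_monomial] at h
  have hiff : ∀ (T s : Finset (Fin d)) (j : Fin d),
      ∑ i ∈ s, Finsupp.single (i, false) 1 + Finsupp.single (j, true) 1 = pat T ↔ T = {j} ∧ s = {j}ᶜ := by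
    intro T s j
    constructor
    · intro he
      have h1 : ∀ i, i ∈ T ↔ i = j := by
        intro i
        have := DFunLike.congr_fun he (i, true)
        simp only [Finsupp.add_apply, Finsupp.finset_sum_apply, Finsupp.single_apply, pat_apply,
          Prod.mk.injEq, Bool.false_eq_true, and_false, if_false, Finset.sum_const_zero, zero_add,
          and_true, decide_eq_true_eq] at this
        rcases eq_or_ne j i with rfl | hne
        · simp at this ⊢; tauto
        · simp [hne] at this; simp [this, hne.symm]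
      refine ⟨Finset.ext fun i => by simp [h1], Finset.ext fun i => ?_⟩
      have := DFunLike.congr_fun he (i, false)
      simp only [Finsupp.add_apply, Finsupp.finset_sum_apply, Finsupp.single_apply, pat_apply,
        Prod.mk.injEq, and_true, Finset.sum_ite_eq', Bool.true_eq_false, and_false, if_false,
        add_zero, decide_eq_false_iff_not, h1] at this
      by_cases hi : i ∈ s <;> simp [hi] at this ⊢ <;> tauto
    · rintro ⟨rfl, rfl⟩
      ext ⟨i, b⟩
      simp only [Finsupp.add_apply, Finsupp.finset_sum_apply, Finsupp.single_apply, pat_apply,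
        Prod.mk.injEq]
      cases b <;> by_cases hi : i = j <;> simp [hi, Ne.symm]
  obtain ⟨j1, rfl⟩ := Finset.card_eq_one.mp hT1
  have hne : ∀ j, Tq ≠ {j} := fun j hj => by rw [hj] at hTq; simp at hTq; omega
  simp only [hiff, hne, false_and, if_false, Finset.sum_const_zero, sub_zero] at h
  rw [Finset.sum_eq_single {j1}ᶜ (fun s _ hs => Finset.sum_eq_zero fun j _ => by
      rw [if_neg]; rintro ⟨hj, rfl⟩; exact hs (by rw [hj]))
    (fun hn => absurd (Finset.mem_powersetCard.mpr ⟨Finset.subset_univ _, by
      simp [Finset.card_compl]⟩) hn),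
    Finset.sum_eq_single j1 (fun j _ hj => by
      rw [if_neg]; rintro ⟨h', -⟩; exact hj (Finset.singleton_inj.mp h').symm) (by simp)] at h
  simp at h

theorem card_or_cyclic [Module.Finite A M] (d : ℕ)
    (h : Submodule.span A (Set.range (dp A d : M → DividedPowerAlgebra A M)) =
      PolLaw.gammaPiece A M d) (p : PrimeSpectrum A) :
    (d : Cardinal) ≤ Cardinal.mk p.asIdeal.ResidueField ∨
      ∃ x : LocalizedModule p.asIdeal.primeCompl M,
        Submodule.span (Localization.AtPrime p.asIdeal) {x} = ⊤ := by
  classical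
  refine or_iff_not_imp_left.mpr fun hlt => ?_
  rw [not_le] at hlt
  haveI : Finite p.asIdeal.ResidueField :=
    Cardinal.lt_aleph0_iff_finite.mp (hlt.trans Cardinal.natCast_lt_aleph0)
  haveI := Fintype.ofFinite p.asIdeal.ResidueField
  set q := Fintype.card p.asIdeal.ResidueField
  have hqd : q < d := by rwa [Cardinal.mk_fintype, Nat.cast_lt] at hlt
  let io : M →ₗ[A] p.asIdeal.ResidueField ⊗[A] M := TensorProduct.mk A p.asIdeal.ResidueField M 1
  have hspan : Submodule.span p.asIdeal.ResidueField (Set.range io) = ⊤ := by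
    refine eq_top_iff.mpr fun z _ => ?_
    induction z using TensorProduct.induction_on with
    | zero => simp
    | tmul a m =>
        rw [show a ⊗ₜ[A] m = a • io m by simp [io, TensorProduct.smul_tmul']]
        exact Submodule.smul_mem _ _ (Submodule.subset_span ⟨m, rfl⟩)
    | add x y hx hy => exact add_mem (hx trivial) (hy trivial)
  by_cases hone : ∃ m0, Submodule.span p.asIdeal.ResidueField {io m0} = ⊤
  · obtain ⟨m0, hm0⟩ := hone
    refine ⟨LocalizedModule.mk m0 1, ?_⟩
    have hsub : p ∉ Module.support A (M ⧸ Submodule.span A {m0}) := by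
      rw [Module.mem_support_iff_nontrivial_residueField_tensorProduct, not_nontrivial_iff_subsingleton]
      refine subsingleton_of_forall_eq 0 fun z => ?_
      obtain ⟨z, rfl⟩ := LinearMap.lTensor_surjective p.asIdeal.ResidueField
        (Submodule.mkQ_surjective (Submodule.span A {m0})) z
      obtain ⟨c, rfl⟩ := Submodule.mem_span_singleton.mp (show z ∈ Submodule.span p.asIdeal.ResidueField {io m0} by rw [hm0]; trivial)
      have h0 : (Submodule.span A {m0}).mkQ m0 = 0 :=
        (Submodule.Quotient.mk_eq_zero _).mpr (Submodule.mem_span_singleton_self m0)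
      simp [io, TensorProduct.smul_tmul', h0]
    refine eq_top_iff.mpr fun z _ => ?_
    induction z using LocalizedModule.induction_on with
    | h y t =>
      obtain ⟨r, hr, hry⟩ := Module.notMem_support_iff'.mp hsub ((Submodule.span A {m0}).mkQ y)
      rw [← map_smul, Submodule.mkQ_apply, Submodule.Quotient.mk_eq_zero,
        Submodule.mem_span_singleton] at hry
      obtain ⟨a, ha⟩ := hry
      refine Submodule.mem_span_singleton.mpr ⟨Localization.mk a (⟨r, hr⟩ * t), ?_⟩
      rw [LocalizedModule.mk_smul_mk, mul_one, LocalizedModule.mk_eq]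
      exact ⟨1, by simp [Submonoid.smul_def, smul_smul, ha, mul_comm r]⟩
  · exfalso
    push_neg at hone
    obtain ⟨m0, hm0⟩ : ∃ m0, io m0 ≠ 0 := by
      by_contra hz
      push_neg at hz
      refine hone 0 ?_
      rw [← hspan]
      refine le_antisymm (Submodule.span_mono fun x hx => ⟨0, hx.symm⟩)
        (Submodule.span_le.mpr ?_)
      rintro _ ⟨m, rfl⟩
      rw [hz m]; exact zero_mem _
    obtain ⟨m1, hm1⟩ : ∃ m1, io m1 ∉ Submodule.span p.asIdeal.ResidueField {io m0} := by
      by_contra hz
      push_neg at hz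
      refine hone m0 (eq_top_iff.mpr ?_)
      rw [← hspan]
      exact Submodule.span_le.mpr (Set.range_subset_iff.mpr hz)
    obtain ⟨g, hg1, hg0⟩ := Submodule.exists_le_ker_of_notMem hm1
    have hg0' : g (io m0) = 0 := hg0 (Submodule.mem_span_singleton_self _)
    have hm0' : io m0 ∉ Submodule.span p.asIdeal.ResidueField {io m1} := by
      intro hm
      obtain ⟨c, hc⟩ := Submodule.mem_span_singleton.mp hm
      have : c * g (io m1) = 0 := by rw [← smul_eq_mul, ← map_smul, hc, hg0']
      rcases mul_eq_zero.mp this with h' | h'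
      · exact hm0 (by rw [← hc, h', zero_smul])
      · exact hg1 h'
    obtain ⟨g', hg1', hg0''⟩ := Submodule.exists_le_ker_of_notMem hm0'
    have hg0''' : g' (io m1) = 0 := hg0'' (Submodule.mem_span_singleton_self _)
    refine not_span_eq (K := p.asIdeal.ResidueField) d q Fintype.one_lt_card hqd FiniteField.pow_card
      (((g' (io m0))⁻¹ • g').restrictScalars A ∘ₗ io) (((g (io m1))⁻¹ • g).restrictScalars A ∘ₗ io)
      m0 m1 ?_ ?_ ?_ ?_ h <;> simp [hg0', hg0''', hg1, hg1', inv_mul_cancel₀]

end Converse

end Groth.Agent.DivPow.SpanDp
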