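import Groth.Agent.DivPow.Flat
import Mathlib

/-!
# Generators of the algebra of symmetric tensors; flatness of symmetric tensors
-/

set_option autoImplicit false
set_option linter.unusedSectionVars false
universe u

open scoped TensorProduct
open MvPolynomial

namespace Groth.Agent.DivPow

variable (A : Type u) [CommRing A]

/-- The basis of a finite free module indexed in the ambient universe. -/
noncomputable abbrev stdBasis (m : ℕ) : Module.Basis (ULift.{u} (Fin m)) A (Fin m → A) :=
  (Pi.basisFun A (Fin m)).reindex Equiv.ulift.{u, 0}.symm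

variable {A}

theorem lin_mem_symTen {F : Type u} [AddCommGroup F] [Module A F] {ι : Type u} (e : Module.Basis ι A F) {d : ℕ}
    (x : ⨂[A] _ : Fin d, F) : lin e (tp A F d) x ∈ symTen A F d := by
  classical
  have : LinearMap.range (lin e (tp A F d) (d := d)) ≤ symTen A F d := by
    rw [LinearMap.range_eq_map, ← (Basis.piTensorProduct fun _ : Fin d => e).span_eq, Submodule.map_span,
      Submodule.span_le]
    rintro _ ⟨_, ⟨p, rfl⟩, rfl⟩
    rw [lin, Module.Basis.constr_basis]
    split_ifs
    · exact cf_tp_mem _ _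
    · exact zero_mem _
  exact this ⟨x, rfl⟩

theorem lin_of_mem {F : Type u} [AddCommGroup F] [Module A F] {ι : Type u} (e : Module.Basis ι A F) {d : ℕ}
    {x : ⨂[A] _ : Fin d, F} (hx : x ∈ symTen A F d) : lin e (tp A F d) x = x := by
  have hs := mem_span_cf_tp e hx
  clear hx
  induction hs using Submodule.span_induction with
  | zero => simp
  | add a b _ _ ha hb => rw [map_add, ha, hb]
  | smul c a _ ha => rw [map_smul, ha]
  | mem a ha =>
    obtain ⟨α, rfl⟩ := ha
    exact lin_cf_tp e (tp A F d) (tp_homog A F d) α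

/-- Symmetric tensors of a flat module form a flat module. -/
theorem flat_symTen (M : Type u) [AddCommGroup M] [Module A M] [Module.Flat A M] (d : ℕ) :
    Module.Flat A (symTen A M d) := by
  classical
  refine Module.Flat.of_forall_isTrivialRelation fun {l r c} hrc => ?_
  have : ∀ s : Finset (Fin l), ∃ (n : ℕ) (g : (Fin n → A) →ₗ[A] M) (x : Fin l → ⨂[A] _ : Fin d, (Fin n → A)),
      (∀ i, x i ∈ symTen A (Fin n → A) d) ∧ ∀ i ∈ s, pmap d g (x i) = (c i : ⨂[A] _ : Fin d, M) := by
    intro s
    induction s using Finset.induction_on with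
    | empty => exact ⟨0, 0, 0, fun _ => zero_mem _, fun i hi => absurd hi (Finset.notMem_empty i)⟩
    | insert a s _ ih =>
      obtain ⟨n, g, x, hx, hgx⟩ := ih
      obtain ⟨n', g', y, hy, hgy⟩ := exists_symm_lift d (c a).2
      obtain ⟨m, h, h', G, hh, hh'⟩ := exists_join g g'
      refine ⟨m, G, fun i => if i = a then pmap d h' y else pmap d h (x i), fun i => ?_, fun i hi => ?_⟩
      · dsimp only
        split_ifs
        · intro σ; rw [pmap_reindex, hy σ]
        · intro σ; rw [pmap_reindex, hx i σ]
      · by_cases h0 : i = a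
        · subst h0; simp only [if_pos, pmap_pmap, hh', hgy]
        · simp only [if_neg h0, pmap_pmap, hh]
          exact hgx i ((Finset.mem_insert.mp hi).resolve_left h0)
  obtain ⟨n, g, x, hx, hgx⟩ := this Finset.univ
  have h0 : pmap d g (∑ i, r i • x i) = 0 := by
    have h1 := congrArg (fun z : symTen A M d => (z : ⨂[A] _ : Fin d, M)) hrc
    simp only [Submodule.coe_sum, Submodule.coe_smul, Submodule.coe_zero] at h1
    rw [map_sum, ← h1]
    refine Finset.sum_congr rfl fun i _ => ?_
    rw [map_smul, hgx i (Finset.mem_univ i)]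
  obtain ⟨m, h, g', hg, hk⟩ := killPow' d g _ h0
  rw [map_sum] at hk
  simp only [map_smul] at hk
  have : Module.Free A (⨂[A] _ : Fin d, (Fin m → A)) :=
    Module.Free.of_basis (Basis.piTensorProduct fun _ : Fin d => Pi.basisFun A (Fin m))
  obtain ⟨k, a, y, hy, ha⟩ := Module.Flat.isTrivialRelation_of_sum_smul_eq_zero hk
  let P := lin (stdBasis A m) (tp A (Fin m → A) d) (d := d)
  refine ⟨k, a, fun j => ⟨pmap d g' (P (y j)), fun σ => by rw [pmap_reindex, lin_mem_symTen _ _ σ]⟩,
    fun i => Subtype.ext ?_, ha⟩
  simp only [Submodule.coe_sum, Submodule.coe_smul]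
  rw [← hgx i (Finset.mem_univ i), ← hg, ← pmap_pmap]
  have hxi : pmap d h (x i) ∈ symTen A (Fin m → A) d := fun σ => by rw [pmap_reindex, hx i σ]
  rw [← lin_of_mem (stdBasis A m) hxi, show pmap d h (x i) = ∑ j, a i j • y j from hy i, map_sum, map_sum]
  simp only [map_smul, P]

/-- Symmetric tensors lift along surjections onto flat modules. -/
theorem exists_symm_preimage {M N : Type u} [AddCommGroup M] [Module A M] [AddCommGroup N] [Module A N]
    [Module.Flat A N] (f : M →ₗ[A] N) (hf : Function.Surjective f) (d : ℕ) {t : ⨂[A] _ : Fin d, N}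
    (ht : t ∈ symTen A N d) : ∃ s ∈ symTen A M d, pmap d f s = t := by
  obtain ⟨n, g, x, hx, rfl⟩ := exists_symm_lift d ht
  obtain ⟨g', hg⟩ := Module.projective_lifting_property f g hf
  exact ⟨pmap d g' x, fun σ => by rw [pmap_reindex, hx σ], by rw [pmap_pmap, hg]⟩

section Gen

variable (A) (B : Type u) [CommRing B] [Algebra A B] (d : ℕ)

/-- The elementary symmetric tensors. -/
def elemSet : Set (⨂[A] _ : Fin d, B) :=
  {t | ∃ (a : B) (j : ℕ), t = ∑ I ∈ (Finset.univ : Finset (Fin d)).powersetCard j,
    PiTensorProduct.tprod A (fun i : Fin d => if i ∈ I then a else (1 : B))}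

/-- The subalgebra they generate. -/
noncomputable abbrev genAlg : Subalgebra A (⨂[A] _ : Fin d, B) := Algebra.adjoin A (elemSet A B d)

theorem elem_mem_TS (a : B) (k : ℕ) :
    (∑ I ∈ (Finset.univ : Finset (Fin d)).powersetCard k,
      PiTensorProduct.tprod A (fun i : Fin d => if i ∈ I then a else (1 : B))) ∈ SymTen.TS A B d := by
  classical
  intro σ
  rw [map_sum]
  refine Finset.sum_bij' (fun I _ => I.map σ.toEmbedding) (fun I _ => I.map σ.symm.toEmbedding) ?_ ?_ ?_ ?_ ?_
  · intro I hI; simp only [Finset.mem_powersetCard] at hI ⊢; exact ⟨Finset.subset_univ _, by simpa using hI.2⟩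
  · intro I hI; simp only [Finset.mem_powersetCard] at hI ⊢; exact ⟨Finset.subset_univ _, by simpa using hI.2⟩
  · intro I _; simp [Finset.map_map]
  · intro I _; simp [Finset.map_map]
  · intro I _
    rw [PiTensorProduct.reindex_tprod]
    congr 1
    funext i
    simp [Finset.mem_map_equiv]

variable {A B d} {ι : Type u}

/-- The diagonal product of a polynomial. -/
noncomputable def diag : MvPolynomial ι B →* MvPolynomial ι (⨂[A] _ : Fin d, B) where
  toFun q := ∏ j, MvPolynomial.map
    (PiTensorProduct.singleAlgHom (R := A) (A := fun _ : Fin d => B) j).toRingHom q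
  map_one' := by simp
  map_mul' p q := by simp [Finset.prod_mul_distrib]

theorem diag_apply (q : MvPolynomial ι B) : diag (A := A) (d := d) q = ∏ j, MvPolynomial.map
    (PiTensorProduct.singleAlgHom (R := A) (A := fun _ : Fin d => B) j).toRingHom q := rfl

/-- All coefficients of low degree are generated by elementary tensors. -/
def Low (q : MvPolynomial ι B) : Prop :=
  ∀ β : ι →₀ ℕ, β.degree ≤ d → coeff β (diag (A := A) (d := d) q) ∈ genAlg A B d

theorem low_one : Low (A := A) (d := d) (1 : MvPolynomial ι B) := fun β _ => by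
  classical
  rw [map_one, coeff_one]
  split_ifs
  · exact one_mem _
  · exact zero_mem _

theorem low_mul {p q : MvPolynomial ι B} (hp : Low (A := A) (d := d) p) (hq : Low (A := A) (d := d) q) :
    Low (A := A) (d := d) (p * q) := fun β hβ => by
  classical
  rw [map_mul, coeff_mul]
  refine Subalgebra.sum_mem _ fun x hx => ?_
  have hx' := Finset.HasAntidiagonal.mem_antidiagonal.1 hx
  have : x.1.degree + x.2.degree ≤ d := by rw [← map_add, hx']; exact hβ
  exact mul_mem (hp _ (by omega)) (hq _ (by omega))

theorem low_congr {p q : MvPolynomial ι B} (h : p - q ∈ idealOfVars ι B ^ (d + 1))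
    (hq : Low (A := A) (d := d) q) : Low (A := A) (d := d) p := fun β hβ => by
  let J := idealOfVars ι (⨂[A] _ : Fin d, B) ^ (d + 1)
  have h1 : ∀ j, Ideal.Quotient.mk J
      (MvPolynomial.map (PiTensorProduct.singleAlgHom (R := A) (A := fun _ : Fin d => B) j).toRingHom p) =
      Ideal.Quotient.mk J
      (MvPolynomial.map (PiTensorProduct.singleAlgHom (R := A) (A := fun _ : Fin d => B) j).toRingHom q) := fun j => by
    rw [Ideal.Quotient.eq, ← map_sub, mem_pow_idealOfVars_iff']
    intro x hx
    rw [coeff_map, (mem_pow_idealOfVars_iff' _ _).1 h x hx, map_zero]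
  have h2 : diag (A := A) (d := d) p - diag (A := A) (d := d) q ∈ J := by
    rw [← Ideal.Quotient.eq]
    simp only [diag_apply, map_prod]
    exact Finset.prod_congr rfl fun j _ => h1 j
  have h3 := (mem_pow_idealOfVars_iff' _ _).1 h2 β (by omega)
  rw [coeff_sub, sub_eq_zero] at h3
  rw [h3]
  exact hq β hβ

theorem low_one_add_monomial (μ : ι →₀ ℕ) (c : B) : Low (A := A) (d := d) (1 + monomial μ c) := fun β _ => by
  classical
  simp only [diag_apply, map_add, map_one, map_monomial]
  rw [Finset.prod_one_add, Finset.sum_powerset]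
  rw [coeff_sum]
  refine Subalgebra.sum_mem _ fun k _ => ?_
  have : ∀ I ∈ (Finset.univ : Finset (Fin d)).powersetCard k,
      coeff β (∏ j ∈ I, monomial μ ((PiTensorProduct.singleAlgHom (R := A) (A := fun _ : Fin d => B) j).toRingHom c)) =
      if k • μ = β then PiTensorProduct.tprod A (fun i : Fin d => if i ∈ I then c else (1 : B)) else 0 := by
    intro I hI
    rw [← monomial_sum_prod, Finset.sum_const, (Finset.mem_powersetCard.1 hI).2, coeff_monomial]
    congr 1
    rw [← prod_singleAlgHom A d (fun i => if i ∈ I then c else (1 : B))]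
    rw [← Finset.prod_subset (Finset.subset_univ I) (fun j _ hj => by rw [if_neg hj]; exact map_one _)]
    exact Finset.prod_congr rfl fun j hj => by rw [if_pos hj]; rfl
  rw [coeff_sum, Finset.sum_congr rfl this]
  split_ifs
  · exact Algebra.subset_adjoin ⟨c, k, rfl⟩
  · rw [Finset.sum_const_zero]; exact zero_mem _

theorem prod_sub_one_add_sum_mem {R : Type u} [CommRing R] (I : Ideal R) {e : ℕ} (he : 1 ≤ e) {κ : Type*}
    (s : Finset κ) (a : κ → R) (ha : ∀ k ∈ s, a k ∈ I ^ e) :
    ∏ k ∈ s, (1 + a k) - (1 + ∑ k ∈ s, a k) ∈ I ^ (e + 1) := by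
  classical
  induction s using Finset.induction_on with
  | empty => simp
  | insert i s hi ih =>
    have h1 := ih fun k hk => ha k (Finset.mem_insert_of_mem hk)
    have h2 : a i * ∑ k ∈ s, a k ∈ I ^ (e + 1) := by
      refine Ideal.pow_le_pow_right (show e + 1 ≤ e + e by omega) ?_
      rw [pow_add]
      exact Ideal.mul_mem_mul (ha i (Finset.mem_insert_self i s))
        (Ideal.sum_mem _ fun k hk => ha k (Finset.mem_insert_of_mem hk))
    rw [Finset.prod_insert hi, Finset.sum_insert hi]
    convert add_mem (Ideal.mul_mem_left _ (1 + a i) h1) h2 using 1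
    ring

theorem low_of_sub_one_mem : ∀ (k e : ℕ), 1 ≤ e → d + 1 ≤ e + k → ∀ q : MvPolynomial ι B,
    q - 1 ∈ idealOfVars ι B ^ e → Low (A := A) (d := d) q := by
  classical
  intro k
  induction k with
  | zero =>
    intro e he hk q hq
    exact low_congr (Ideal.pow_le_pow_right (by omega) hq) low_one
  | succ k ih =>
    intro e he hk q hq
    by_cases hd' : d + 1 ≤ e
    · exact low_congr (Ideal.pow_le_pow_right hd' hq) low_one
    set I := idealOfVars ι B with hI
    let h := q - 1
    let s := h.support.filter fun μ => μ.degree = e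
    let a : (ι →₀ ℕ) → MvPolynomial ι B := fun μ => monomial μ (coeff μ h)
    let g : (ι →₀ ℕ) → MvPolynomial ι B := fun μ => ∑ i ∈ Finset.range (d + 1), (-a μ) ^ i
    have ha : ∀ μ ∈ s, a μ ∈ I ^ e := fun μ hμ => by
      rw [mem_pow_idealOfVars_iff]
      intro x hx
      rw [Finset.mem_singleton.1 (support_monomial_subset hx), (Finset.mem_filter.1 hμ).2]
    let P := ∏ μ ∈ s, (1 + a μ)
    let G := ∏ μ ∈ s, g μ
    have hPG : P * G - 1 ∈ I ^ (d + 1) := by
      rw [← Ideal.Quotient.eq_zero_iff_mem, map_sub, map_one, map_mul, map_prod, map_prod, ← Finset.prod_mul_distrib,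
        sub_eq_zero]
      refine Finset.prod_eq_one fun μ hμ => ?_
      rw [← map_mul, ← map_one (Ideal.Quotient.mk (I ^ (d + 1))), Ideal.Quotient.eq]
      have h1 : (1 + a μ) * g μ = 1 - (-a μ) ^ (d + 1) := by
        rw [← mul_neg_geom_sum (-a μ) (d + 1), sub_neg_eq_add]
      rw [h1, sub_sub_cancel_left]
      refine neg_mem (Ideal.pow_le_pow_right (Nat.le_mul_of_pos_left (d + 1) he) ?_)
      rw [pow_mul]
      exact Ideal.pow_mem_pow (neg_mem (ha μ hμ)) (d + 1)
    have hqP : q - P ∈ I ^ (e + 1) := by
      have h1 := prod_sub_one_add_sum_mem I he s a ha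
      have h2 : h - ∑ μ ∈ s, a μ ∈ I ^ (e + 1) := by
        rw [mem_pow_idealOfVars_iff']
        intro x hx
        rw [coeff_sub, coeff_sum]
        simp only [a, coeff_monomial, Finset.sum_ite_eq']
        by_cases hxe : x.degree = e
        · by_cases hxs : x ∈ s
          · rw [if_pos hxs, sub_self]
          · rw [if_neg hxs, sub_zero]
            by_contra hne
            exact hxs (Finset.mem_filter.2 ⟨mem_support_iff.2 hne, hxe⟩)
        · rw [if_neg (show x ∉ s from fun hxs => hxe (Finset.mem_filter.1 hxs).2), sub_zero]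
          exact (mem_pow_idealOfVars_iff' _ _).1 hq x (by omega)
      convert sub_mem h2 h1 using 1
      simp only [h, P]
      ring
    have hlow : Low (A := A) (d := d) (q * G) := by
      refine ih (e + 1) (by omega) (by omega) _ ?_
      by_cases hd : e + 1 ≤ d + 1
      · convert add_mem (Ideal.mul_mem_right G _ hqP) (Ideal.pow_le_pow_right hd hPG) using 1
        ring
      · omega
    refine low_congr (q := P * (q * G)) ?_ (low_mul ?_ hlow)
    · convert neg_mem (Ideal.mul_mem_left _ q hPG) using 1
      ring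
    · exact Finset.prod_induction _ _ (fun _ _ => low_mul) low_one fun μ _ => low_one_add_monomial _ _

theorem cf_tp_mem_genAlg [Fintype ι] (m : ι → B) (α : ι →₀ ℕ) :
    cf (tp A B d) m α ∈ genAlg A B d := by
  classical
  by_cases hα : deg α = d
  swap
  · have : fib d α = ∅ := Finset.eq_empty_of_forall_notMem fun p hp => hα ((mem_fib.1 hp) ▸ deg_ms p)
    rw [cf_tp, this, Finset.sum_empty]
    exact zero_mem _
  have hdeg : α.degree = d := by rw [← hα, Finsupp.degree_apply]; rfl
  let L : MvPolynomial ι B := ∑ i, monomial (Finsupp.single i 1) (m i)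
  have hL : (1 + L) - 1 ∈ idealOfVars ι B ^ 1 := by
    rw [add_sub_cancel_left]
    refine Ideal.sum_mem _ fun i _ => (mem_pow_idealOfVars_iff' _ _).2 fun x hx => ?_
    rw [coeff_monomial, if_neg]
    rintro rfl
    simp at hx
  have h := low_of_sub_one_mem (A := A) (d := d) d 1 le_rfl (by omega) (1 + L) hL α hdeg.le
  simp only [diag_apply, map_add, map_one, Finset.prod_one_add, coeff_sum] at h
  rw [Finset.sum_eq_single (Finset.univ : Finset (Fin d))] at h
  · simp only [L, map_sum, map_monomial] at h
    rw [Finset.prod_univ_sum, coeff_sum] at h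
    simp only [← monomial_sum_prod, coeff_monomial] at h
    rw [← Finset.sum_filter] at h
    rw [cf_tp]
    convert h using 1
    refine Finset.sum_congr ?_ fun p _ => ?_
    · ext p
      simp [mem_fib, ms, Fintype.mem_piFinset]
    · exact (prod_singleAlgHom A d fun j => m (p j)).symm
  · intro I _ hI
    have hhom : (∏ j ∈ I, MvPolynomial.map
        (PiTensorProduct.singleAlgHom (R := A) (A := fun _ : Fin d => B) j).toRingHom L).IsHomogeneous I.card := by
      rw [Finset.card_eq_sum_ones]
      refine IsHomogeneous.prod _ _ _ fun j _ => ?_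
      simp only [L, map_sum, map_monomial]
      exact IsHomogeneous.sum _ _ _ fun i _ => isHomogeneous_monomial _ (by simp)
    refine hhom.coeff_eq_zero ?_
    rw [hdeg]
    intro hc
    exact hI (Finset.eq_univ_of_card I (by rw [Fintype.card_fin]; exact hc.symm))
  · simp

theorem TS_eq_genAlg [Module.Flat A B] : SymTen.TS A B d = genAlg A B d := by
  classical
  refine le_antisymm (fun y hy => ?_) (Algebra.adjoin_le ?_)
  · obtain ⟨n, g, x, hx, rfl⟩ := exists_symm_lift d (show y ∈ symTen A B d from hy)
    have hs := mem_span_cf_tp (stdBasis A n) hx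
    clear hy hx
    induction hs using Submodule.span_induction with
    | zero => simp
    | add a b _ _ ha hb => rw [map_add]; exact add_mem ha hb
    | smul c a _ ha => rw [map_smul]; exact Subalgebra.smul_mem _ ha c
    | mem a ha =>
      obtain ⟨α, rfl⟩ := ha
      rw [pmap, map_cf_tp]
      exact cf_tp_mem_genAlg _ α
  · rintro _ ⟨a, j, rfl⟩
    exact elem_mem_TS A B d a j

end Gen

end Groth.Agent.DivPow
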