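import Groth.Agent.DivPow.Coeff
import Groth.Prelude.Def_PolLaw2

/-!
# The diagonal law into a tensor power and symmetric tensors of free modules
-/

set_option autoImplicit false
set_option linter.unusedSectionVars false
universe u

open scoped TensorProduct
open MvPolynomial

namespace Groth.Agent.DivPow

variable (A : Type u) [CommRing A] (M : Type u) [AddCommGroup M] [Module A M] (d : ℕ)

theorem prod_singleAlgHom {B : Type u} [CommRing B] [Algebra A B] (f : Fin d → B) :
    ∏ j, PiTensorProduct.singleAlgHom (R := A) (A := fun _ : Fin d => B) j (f j) = PiTensorProduct.tprod A f := by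
  simp only [PiTensorProduct.singleAlgHom_apply, MonoidHom.mulSingle_apply]
  rw [← PiTensorProduct.tprod_prod]
  exact congrArg _ (Finset.univ_prod_mulSingle f)

theorem prod_tmul {B : Type u} [CommRing B] [Algebra A B] {S : Type u} [CommSemiring S] [Algebra A S] {κ : Type*}
    (s : Finset κ) (a : κ → S) (b : κ → B) :
    (∏ k ∈ s, a k ⊗ₜ[A] b k) = (∏ k ∈ s, a k) ⊗ₜ[A] (∏ k ∈ s, b k) := by
  classical
  induction s using Finset.induction_on with
  | empty => simp [Algebra.TensorProduct.one_def]
  | insert k s hk ih =>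
    rw [Finset.prod_insert hk, Finset.prod_insert hk, Finset.prod_insert hk, ih, Algebra.TensorProduct.tmul_mul_tmul]

/-- The expansion of the diagonal law of an algebra. -/
theorem tpowLaw_sum {B : Type u} [CommRing B] [Algebra A B] (S : Type u) [CommSemiring S] [Algebra A S]
    {κ : Type*} (s : Finset κ) (t : κ → S) (b : κ → B) :
    (SymTen.tpowLaw A B d).law.toFun' S (∑ i ∈ s, t i ⊗ₜ[A] b i) =
      ∑ p ∈ Fintype.piFinset (fun _ : Fin d => s), (∏ j, t (p j)) ⊗ₜ[A] PiTensorProduct.tprod A (fun j => b (p j)) := by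
  classical
  rw [SymTen.tpowLaw, PolLaw.MulLaw.prodMap_toFun']
  simp only [map_sum, Algebra.TensorProduct.map_tmul, AlgHom.id_apply]
  rw [Finset.prod_univ_sum]
  refine Finset.sum_congr rfl fun p _ => ?_
  rw [prod_tmul, prod_singleAlgHom]

section Module

/-- The diagonal law `x ↦ x ⊗ ⋯ ⊗ x` of a module, read off from that of a trivial square-zero extension. -/
noncomputable def tp : M →ₚₗ[A] (⨂[A] _ : Fin d, M) :=
  letI : Module Aᵐᵒᵖ M := Module.compHom M ((RingHom.id A).fromOpposite mul_comm)
  haveI : IsCentralScalar A M := ⟨fun _ _ => rfl⟩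
  PolLaw.postcomp (PiTensorProduct.map fun _ : Fin d => (TrivSqZeroExt.sndHom A M).restrictScalars A)
    (PolLaw.precomp (SymTen.tpowLaw A (TrivSqZeroExt A M) d).law ((TrivSqZeroExt.inrHom A M).restrictScalars A))

theorem tp_sum (S : Type u) [CommSemiring S] [Algebra A S] {κ : Type*} (s : Finset κ) (t : κ → S) (m : κ → M) :
    (tp A M d).toFun' S (∑ i ∈ s, t i ⊗ₜ[A] m i) =
      ∑ p ∈ Fintype.piFinset (fun _ : Fin d => s), (∏ j, t (p j)) ⊗ₜ[A] PiTensorProduct.tprod A (fun j => m (p j)) := by
  classical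
  letI : Module Aᵐᵒᵖ M := Module.compHom M ((RingHom.id A).fromOpposite mul_comm)
  haveI : IsCentralScalar A M := ⟨fun _ _ => rfl⟩
  show (PiTensorProduct.map fun _ : Fin d => (TrivSqZeroExt.sndHom A M).restrictScalars A).lTensor S
    ((SymTen.tpowLaw A (TrivSqZeroExt A M) d).law.toFun' S
      (((TrivSqZeroExt.inrHom A M).restrictScalars A).lTensor S (∑ i ∈ s, t i ⊗ₜ[A] m i))) = _
  rw [map_sum]
  simp only [LinearMap.lTensor_tmul]
  rw [tpowLaw_sum, map_sum]
  refine Finset.sum_congr rfl fun p _ => ?_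
  rw [LinearMap.lTensor_tmul, PiTensorProduct.map_tprod]
  rfl

theorem tp_homog : PolLaw.IsHomog (tp A M d) d := by
  intro S _ _ a x
  obtain ⟨s, t, rfl⟩ := exists_sum (id : M → M) span_range_id S x
  rw [Finset.smul_sum]
  simp only [TensorProduct.smul_tmul']
  rw [tp_sum, tp_sum, Finset.smul_sum]
  refine Finset.sum_congr rfl fun p _ => ?_
  rw [TensorProduct.smul_tmul']
  simp [Finset.prod_mul_distrib]

theorem tpowLaw_eq_tp (B : Type u) [CommRing B] [Algebra A B] : (SymTen.tpowLaw A B d).law = tp A B d := by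
  apply PolynomialLaw.ext
  funext S _ _ x
  obtain ⟨s, t, rfl⟩ := exists_sum (id : B → B) span_range_id S x
  rw [tpowLaw_sum, tp_sum]

/-- The symmetric tensors of a module. -/
noncomputable def symTen : Submodule A (⨂[A] _ : Fin d, M) where
  carrier := {x | ∀ σ : Equiv.Perm (Fin d), PiTensorProduct.reindex A (fun _ : Fin d => M) σ x = x}
  add_mem' ha hb σ := by rw [map_add, ha σ, hb σ]
  zero_mem' σ := map_zero _
  smul_mem' c x hx σ := by rw [map_smul, hx σ]

end Module

variable {A M d} {ι : Type u}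

/-- The multi-index of a map `Fin d → ι`. -/
noncomputable def ms (p : Fin d → ι) : ι →₀ ℕ := ∑ j, Finsupp.single (p j) 1

theorem ms_apply [DecidableEq ι] (p : Fin d → ι) (i : ι) :
    ms p i = (Finset.univ.filter fun j => p j = i).card := by
  rw [ms, Finsupp.finsetSum_apply, Finset.card_filter]
  exact Finset.sum_congr rfl fun j _ => by rw [Finsupp.single_apply]

theorem ms_comp (p : Fin d → ι) (σ : Equiv.Perm (Fin d)) : ms (p ∘ σ) = ms p :=
  Equiv.sum_comp σ (fun j => Finsupp.single (p j) 1)

theorem exists_perm {p q : Fin d → ι} (h : ms p = ms q) : ∃ σ : Equiv.Perm (Fin d), q = p ∘ σ := by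
  classical
  have e : ∀ i, Nonempty ({j // q j = i} ≃ {j // p j = i}) := fun i => by
    refine ⟨Fintype.equivOfCardEq ?_⟩
    rw [Fintype.card_subtype, Fintype.card_subtype, ← ms_apply q i, ← ms_apply p i, h]
  let σ : Equiv.Perm (Fin d) := (Equiv.sigmaFiberEquiv q).symm.trans
    ((Equiv.sigmaCongrRight fun i => (e i).some).trans (Equiv.sigmaFiberEquiv p))
  exact ⟨σ, funext fun j => ((e (q j)).some ⟨j, rfl⟩).2.symm⟩

theorem mem_support_ms (p : Fin d → ι) (j : Fin d) : p j ∈ (ms p).support := by
  classical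
  rw [Finsupp.mem_support_iff, ms_apply]
  exact (Finset.card_pos.mpr ⟨j, by simp⟩).ne'

theorem deg_ms (p : Fin d → ι) : deg (ms p) = d := by
  classical
  have h : deg (ms p) = ∑ i ∈ (ms p).support, (Finset.univ.filter fun j => p j = i).card :=
    Finset.sum_congr rfl fun i _ => ms_apply p i
  rw [h, ← Finset.card_eq_sum_card_fiberwise fun j _ => mem_support_ms p j]
  simp

theorem exists_ms : ∀ {d : ℕ} {α : ι →₀ ℕ}, deg α = d → ∃ p : Fin d → ι, ms p = α := by
  classical
  intro d
  induction d with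
  | zero =>
    intro α h
    refine ⟨Fin.elim0, Finsupp.ext fun i => ?_⟩
    rw [ms, Fin.sum_univ_zero, Finsupp.zero_apply]
    by_contra hne
    have := Finset.sum_eq_zero_iff.mp (show ∑ i ∈ α.support, α i = 0 from h) i
      (Finsupp.mem_support_iff.mpr (Ne.symm hne))
    exact hne this.symm
  | succ d ih =>
    intro α h
    obtain ⟨i, hi⟩ : α.support.Nonempty := by
      rw [Finset.nonempty_iff_ne_empty]
      intro he
      rw [deg, Finsupp.sum, he, Finset.sum_empty] at h
      omega
    have hle : Finsupp.single i 1 ≤ α := by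
      rw [Finsupp.single_le_iff]
      exact Nat.one_le_iff_ne_zero.mpr (Finsupp.mem_support_iff.mp hi)
    have hsplit : α = Finsupp.single i 1 + (α - Finsupp.single i 1) := (add_tsub_cancel_of_le hle).symm
    have hdeg : deg (α - Finsupp.single i 1) = d := by
      rw [hsplit, deg, Finsupp.sum_add_index' (fun _ => rfl) (fun _ _ _ => rfl),
        Finsupp.sum_single_index rfl] at h
      rw [deg]; omega
    obtain ⟨p, hp⟩ := ih hdeg
    refine ⟨Fin.cons i p, ?_⟩
    rw [ms, Fin.sum_univ_succ]
    simp only [Fin.cons_zero, Fin.cons_succ]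
    rw [show (∑ j : Fin d, Finsupp.single (p j) 1) = ms p from rfl, hp, ← hsplit]

/-- All maps with a given multi-index. -/
noncomputable def fib (d : ℕ) (α : ι →₀ ℕ) : Finset (Fin d → ι) :=
  haveI := Classical.decEq ι
  (Fintype.piFinset fun _ : Fin d => α.support).filter fun p => ms p = α

theorem mem_fib {α : ι →₀ ℕ} {p : Fin d → ι} : p ∈ fib d α ↔ ms p = α := by
  classical
  rw [fib, Finset.mem_filter, Fintype.mem_piFinset]
  exact ⟨fun h => h.2, fun h => ⟨fun j => h ▸ mem_support_ms p j, h⟩⟩

theorem prod_X (p : Fin d → ι) : (∏ j, X (p j) : MvPolynomial ι A) = monomial (ms p) 1 := by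
  rw [ms, monomial_sum_one]
  rfl

theorem cf_tp (m : ι → M) (α : ι →₀ ℕ) :
    cf (tp A M d) m α = ∑ p ∈ fib d α, PiTensorProduct.tprod A (fun j => m (p j)) := by
  classical
  rw [cf, gen, tp_sum, map_sum]
  simp only [prod_X, co_monomial, one_smul]
  rw [← Finset.sum_filter]
  refine Finset.sum_congr ?_ fun _ _ => rfl
  ext p
  rw [Finset.mem_filter, mem_fib, Fintype.mem_piFinset]
  exact ⟨fun h => h.2, fun h => ⟨fun j => h ▸ mem_support_ms p j, h⟩⟩

theorem cf_tp_mem (m : ι → M) (α : ι →₀ ℕ) : cf (tp A M d) m α ∈ symTen A M d := by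
  intro σ
  rw [cf_tp, map_sum]
  refine Finset.sum_bij' (fun p _ => p ∘ σ.symm) (fun p _ => p ∘ σ) ?_ ?_ ?_ ?_ ?_
  · intro p hp; rw [mem_fib, ms_comp]; exact mem_fib.mp hp
  · intro p hp; rw [mem_fib, ms_comp]; exact mem_fib.mp hp
  · intro p _; funext j; simp
  · intro p _; funext j; simp
  · intro p _; rw [PiTensorProduct.reindex_tprod]; rfl

/-- The chosen representative of a multi-index. -/
def IsRep (p : Fin d → ι) : Prop := haveI : Nonempty (Fin d → ι) := ⟨p⟩; Function.invFun ms (ms p) = p

theorem existsUnique_rep (p : Fin d → ι) : ∃! q, q ∈ fib d (ms p) ∧ IsRep q := by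
  haveI : Nonempty (Fin d → ι) := ⟨p⟩
  have h : ms (Function.invFun ms (ms p)) = ms p := Function.invFun_eq ⟨p, rfl⟩
  refine ⟨Function.invFun ms (ms p), ⟨mem_fib.mpr h, ?_⟩, fun q hq => ?_⟩
  · show Function.invFun ms (ms (Function.invFun ms (ms p))) = _
    rw [h]
  · rw [← mem_fib.mp hq.1]
    exact hq.2.symm

section Free

variable {F : Type u} [AddCommGroup F] [Module A F] (e : Module.Basis ι A F)
  {N : Type u} [AddCommGroup N] [Module A N] (G : F →ₚₗ[A] N)

/-- The linear map on tensors attached to a law on a free module. -/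
noncomputable def lin : (⨂[A] _ : Fin d, F) →ₗ[A] N :=
  haveI := Classical.decPred (IsRep (ι := ι) (d := d))
  (Basis.piTensorProduct fun _ : Fin d => e).constr A fun p => if IsRep p then cf G e (ms p) else 0

theorem tprod_basis (p : Fin d → ι) :
    PiTensorProduct.tprod A (fun j => e (p j)) = (Basis.piTensorProduct fun _ : Fin d => e) p := by
  rw [Basis.piTensorProduct_apply]

theorem lin_cf_tp (hG : PolLaw.IsHomog G d) (α : ι →₀ ℕ) : lin e G (cf (tp A F d) e α) = cf G e α := by
  classical
  rw [cf_tp, map_sum]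
  simp only [tprod_basis, lin, Module.Basis.constr_basis]
  rw [← Finset.sum_filter]
  by_cases hd : ∃ p : Fin d → ι, ms p = α
  · obtain ⟨p, rfl⟩ := hd
    obtain ⟨q, hq, huq⟩ := existsUnique_rep p
    rw [Finset.sum_eq_single q]
    · rw [mem_fib.mp hq.1]
    · intro r hr hne
      rw [Finset.mem_filter] at hr
      exact absurd (huq r hr) hne
    · intro h
      exact absurd (Finset.mem_filter.mpr hq) h
  · have hempty : fib d α = (∅ : Finset (Fin d → ι)) :=
      Finset.eq_empty_of_forall_notMem fun p hp => hd ⟨p, mem_fib.mp hp⟩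
    rw [hempty, Finset.filter_empty, Finset.sum_empty, cf_eq_zero hG]
    exact fun hdeg => hd (exists_ms hdeg)

/-- A homogeneous law on a free module factors through the diagonal law. -/
theorem eq_postcomp_lin (hG : PolLaw.IsHomog G d) : G = PolLaw.postcomp (lin e G) (tp A F d) :=
  law_ext_cf e e.span_eq fun α => by rw [cf_postcomp, lin_cf_tp e G hG]

theorem mem_span_cf_tp {x : ⨂[A] _ : Fin d, F} (hx : x ∈ symTen A F d) :
    x ∈ Submodule.span A (Set.range fun α => cf (tp A F d) e α) := by
  classical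
  let B := Basis.piTensorProduct fun _ : Fin d => e
  have hinv : ∀ (σ : Equiv.Perm (Fin d)) p, B.repr x (p ∘ σ) = B.repr x p := by
    intro σ p
    have h : (B.coord p).comp (PiTensorProduct.reindex A (fun _ : Fin d => F) σ).toLinearMap = B.coord (p ∘ σ) := by
      refine B.ext fun q => ?_
      have hq : PiTensorProduct.reindex A (fun _ : Fin d => F) σ (B q) = B (q ∘ σ.symm) := by
        simp only [B, Basis.piTensorProduct_apply, PiTensorProduct.reindex_tprod]
        rfl
      simp only [LinearMap.comp_apply, LinearEquiv.coe_coe, hq, Module.Basis.coord_apply, Module.Basis.repr_self,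
        Finsupp.single_apply]
      exact if_congr (Equiv.comp_symm_eq σ p q) rfl rfl
    have := LinearMap.congr_fun h x
    simp only [LinearMap.comp_apply, LinearEquiv.coe_coe, Module.Basis.coord_apply, hx σ] at this
    exact this.symm
  let T := (B.repr x).support
  have hrep : x = ∑ α ∈ T.image ms, ∑ p ∈ fib d α, B.repr x p • B p := by
    conv_lhs => rw [← B.linearCombination_repr x, Finsupp.linearCombination_apply, Finsupp.sum]
    rw [← Finset.sum_biUnion]
    · refine Finset.sum_subset (fun p hp => Finset.mem_biUnion.mpr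
        ⟨ms p, Finset.mem_image_of_mem _ hp, mem_fib.mpr rfl⟩) fun p _ hp => ?_
      rw [Finsupp.notMem_support_iff.mp hp, zero_smul]
    · intro a _ b _ hab
      rw [Function.onFun, Finset.disjoint_left]
      intro p hp hp'
      exact hab ((mem_fib.mp hp).symm.trans (mem_fib.mp hp'))
  rw [hrep]
  refine Submodule.sum_mem _ fun α hα => ?_
  obtain ⟨p₀, -, rfl⟩ := Finset.mem_image.mp hα
  have : ∑ p ∈ fib d (ms p₀), B.repr x p • B p = B.repr x p₀ • cf (tp A F d) e (ms p₀) := by
    rw [cf_tp, Finset.smul_sum]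
    refine Finset.sum_congr rfl fun p hp => ?_
    obtain ⟨σ, rfl⟩ := exists_perm (mem_fib.mp hp).symm
    rw [hinv, tprod_basis]
  rw [this]
  exact Submodule.smul_mem _ _ (Submodule.subset_span ⟨_, rfl⟩)

end Free

end Groth.Agent.DivPow
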